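import Mathlib
import Cfsg.Prelude.Def_CaseTheorems

/-!
# GH-L3: elementary abelian subgroups of rank 4 and 5

`exists_mul`: in a group of 2-rank at most 4, `a, b` and `c, d` pairs of different commuting involutions with
`[⟨a, b⟩, ⟨c, d⟩] = 1`, `⟨a, b⟩ ∩ ⟨c, d⟩ = 1`: an involution `t` commuting with `a, b, c, d` is in `⟨a, b⟩⟨c, d⟩`.
-/

set_option autoImplicit false

open Subgroup Cfsg

namespace Cfsg.Agent.GH.L3.Elem

variable {G : Type*} [Group G]

/-- `{1, a, b, ab}` -/
def four (a b : G) (ha : a * a = 1) (hb : b * b = 1) (hab : a * b = b * a) : Subgroup G where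
  carrier := {1, a, b, a * b}
  one_mem' := by simp
  mul_mem' := by
    have h1 : a * (a * b) = b := by rw [← mul_assoc, ha, one_mul]
    have h2 : b * (a * b) = a := by rw [hab, ← mul_assoc, hb, one_mul]
    have h3 : a * b * a = b := by rw [hab, mul_assoc, ha, mul_one]
    have h4 : a * b * b = a := by rw [mul_assoc, hb, mul_one]
    have h5 : a * b * (a * b) = 1 := by rw [← mul_assoc, h3, hb]
    have h6 : b * a = a * b := hab.symm
    rintro x y (rfl | rfl | rfl | rfl) (rfl | rfl | rfl | rfl) <;>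
      simp [ha, hb, h1, h2, h3, h4, h5, h6]
  inv_mem' := by
    have ha' : a⁻¹ = a := inv_eq_of_mul_eq_one_left ha
    have hb' : b⁻¹ = b := inv_eq_of_mul_eq_one_left hb
    rintro x (rfl | rfl | rfl | rfl)
    · simp
    · simp [ha']
    · simp [hb']
    · simp [ha', hb', hab]

theorem mem_four {a b : G} {ha : a * a = 1} {hb : b * b = 1} {hab : a * b = b * a} {x : G} :
    x ∈ four a b ha hb hab ↔ x = 1 ∨ x = a ∨ x = b ∨ x = a * b := Iff.rfl

theorem card_four {a b : G} (ha : a * a = 1) (hb : b * b = 1) (hab : a * b = b * a) (h1 : a ≠ 1)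
    (h2 : b ≠ 1) (h3 : a ≠ b) : Nat.card (four a b ha hb hab) = 4 := by
  classical
  have hb' : b⁻¹ = b := inv_eq_of_mul_eq_one_left hb
  have h6 : a * b ≠ 1 := fun h => h3 (by rw [mul_eq_one_iff_eq_inv, hb'] at h; exact h)
  have h7 : a * b ≠ a := fun h => h2 (by simpa using h)
  have h8 : a * b ≠ b := fun h => h1 (by simpa using h)
  have h4 : ((four a b ha hb hab : Subgroup G) : Set G) = (({1, a, b, a * b} : Finset G) : Set G) := by
    ext x
    simp [mem_four]
  have h5 : Nat.card (four a b ha hb hab) = ((four a b ha hb hab : Subgroup G) : Set G).ncard := rfl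
  rw [h5, h4, Set.ncard_coe_finset, Finset.card_insert_of_notMem, Finset.card_insert_of_notMem,
    Finset.card_insert_of_notMem, Finset.card_singleton]
  · simpa using h8.symm
  · simp [h3, h7.symm]
  · simp [h1.symm, h2.symm, h6.symm]

/-- `U V` for commuting subgroups. -/
def prod (U V : Subgroup G) (hc : ∀ u ∈ U, ∀ v ∈ V, u * v = v * u) : Subgroup G where
  carrier := {g | ∃ u ∈ U, ∃ v ∈ V, g = u * v}
  one_mem' := ⟨1, U.one_mem, 1, V.one_mem, (mul_one 1).symm⟩
  mul_mem' := by
    rintro _ _ ⟨u, hu, v, hv, rfl⟩ ⟨u', hu', v', hv', rfl⟩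
    refine ⟨u * u', U.mul_mem hu hu', v * v', V.mul_mem hv hv', ?_⟩
    calc u * v * (u' * v') = u * (v * u') * v' := by group
      _ = u * (u' * v) * v' := by rw [hc u' hu' v hv]
      _ = u * u' * (v * v') := by group
  inv_mem' := by
    rintro _ ⟨u, hu, v, hv, rfl⟩
    refine ⟨u⁻¹, U.inv_mem hu, v⁻¹, V.inv_mem hv, ?_⟩
    rw [mul_inv_rev]
    exact (hc _ (U.inv_mem hu) _ (V.inv_mem hv)).symm

theorem mem_prod {U V : Subgroup G} {hc : ∀ u ∈ U, ∀ v ∈ V, u * v = v * u} {g : G} :
    g ∈ prod U V hc ↔ ∃ u ∈ U, ∃ v ∈ V, g = u * v := Iff.rfl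

theorem card_prod {U V : Subgroup G} (hc : ∀ u ∈ U, ∀ v ∈ V, u * v = v * u) (h : U ⊓ V = ⊥) :
    Nat.card (prod U V hc) = Nat.card U * Nat.card V := by
  rw [← Nat.card_prod]
  symm
  refine Nat.card_eq_of_bijective
    (fun p : U × V => (⟨p.1 * p.2, p.1, p.1.2, p.2, p.2.2, rfl⟩ : prod U V hc)) ⟨?_, ?_⟩
  · rintro ⟨⟨u, hu⟩, ⟨v, hv⟩⟩ ⟨⟨u', hu'⟩, ⟨v', hv'⟩⟩ he
    have h1 : u * v = u' * v' := congrArg Subtype.val he
    have h2 : u'⁻¹ * u = v' * v⁻¹ := by
      rw [eq_mul_inv_iff_mul_eq, mul_assoc, h1, inv_mul_cancel_left]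
    have h3 : u'⁻¹ * u ∈ U ⊓ V := ⟨U.mul_mem (U.inv_mem hu') hu, h2 ▸ V.mul_mem hv' (V.inv_mem hv)⟩
    rw [h, mem_bot] at h3
    have h4 : u = u' := (inv_mul_eq_one.mp h3).symm
    subst h4
    have h5 : v = v' := mul_left_cancel h1
    subst h5
    rfl
  · rintro ⟨g, u, hu, v, hv, rfl⟩
    exact ⟨⟨⟨u, hu⟩, ⟨v, hv⟩⟩, rfl⟩

variable [Finite G]

/-- an involution centralizing the elementary abelian `E` of order 16 is in `E` -/
theorem mem_of_comm {E : Subgroup G} (hr : PRankLE 2 4 G) (hE : Nat.card E = 16)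
    (hc : ∀ a ∈ E, ∀ b ∈ E, a * b = b * a) (hs : ∀ a ∈ E, a * a = 1) {t : G} (ht : t * t = 1)
    (htE : ∀ e ∈ E, t * e = e * t) : t ∈ E := by
  by_contra htn
  have h1 : (four t 1 ht (one_mul 1) (by rw [mul_one, one_mul])) ⊓ E = ⊥ := by
    rw [eq_bot_iff]
    rintro x ⟨hx, hxE⟩
    rw [mem_bot]
    rcases mem_four.mp hx with h | h | h | h
    · exact h
    · exact absurd (h ▸ hxE) htn
    · exact h
    · rw [mul_one] at h
      exact absurd (h ▸ hxE) htn
  have hc' : ∀ u ∈ four t 1 ht (one_mul 1) (by rw [mul_one, one_mul]), ∀ v ∈ E, u * v = v * u := by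
    intro u hu v hv
    rcases mem_four.mp hu with h | h | h | h
    · rw [h, one_mul, mul_one]
    · rw [h]; exact htE v hv
    · rw [h, one_mul, mul_one]
    · rw [h, mul_one]; exact htE v hv
  have ht1 : t ≠ 1 := fun h => htn (h ▸ E.one_mem)
  have hcomm : ∀ a ∈ prod _ E hc', ∀ b ∈ prod _ E hc', a * b = b * a := by
    rintro _ ⟨u, hu, e, he, rfl⟩ _ ⟨u', hu', e', he', rfl⟩
    have h3 : u * u' = u' * u := by
      rcases mem_four.mp hu with h | h | h | h <;> rcases mem_four.mp hu' with h' | h' | h' | h' <;>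
        simp [h, h']
    calc u * e * (u' * e') = u * (e * u') * e' := by group
      _ = u * (u' * e) * e' := by rw [hc' u' hu' e he]
      _ = (u * u') * (e * e') := by group
      _ = (u' * u) * (e' * e) := by rw [h3, hc e he e' he']
      _ = u' * (u * e') * e := by group
      _ = u' * (e' * u) * e := by rw [hc' u hu e' he']
      _ = u' * e' * (u * e) := by group
  have hsq : ∀ a ∈ prod _ E hc', a ^ 2 = 1 := by
    rintro _ ⟨u, hu, e, he, rfl⟩
    have h3 : u * u = 1 := by
      rcases mem_four.mp hu with h | h | h | h <;> simp [h, ht]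
    rw [pow_two]
    calc u * e * (u * e) = u * (e * u) * e := by group
      _ = u * (u * e) * e := by rw [hc' u hu e he]
      _ = (u * u) * (e * e) := by group
      _ = 1 := by rw [h3, hs e he, mul_one]
  have h4 := hr _ ⟨⟨fun a b => Subtype.ext (hcomm a a.2 b b.2)⟩⟩ hsq
  rw [card_prod hc' h1, hE] at h4
  have h5 : 1 < Nat.card (four t 1 ht (one_mul 1) (by rw [mul_one, one_mul])) := by
    rw [Subgroup.one_lt_card_iff_ne_bot]
    intro h6
    have h7 : t ∈ four t 1 ht (one_mul 1) (by rw [mul_one, one_mul]) := mem_four.mpr (Or.inr (Or.inl rfl))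
    rw [h6, mem_bot] at h7
    exact ht1 h7
  have h6 : (2 : ℕ) ^ 4 = 16 := by norm_num
  rw [h6] at h4
  nlinarith

/-- The form used. -/
theorem exists_mul (hr : PRankLE 2 4 G) {a b c d t : G} (ha : a * a = 1) (hb : b * b = 1)
    (hc : c * c = 1) (hd : d * d = 1) (ht : t * t = 1) (ha1 : a ≠ 1) (hb1 : b ≠ 1) (hc1 : c ≠ 1)
    (hd1 : d ≠ 1) (hab : a * b = b * a) (hcd : c * d = d * c) (hac : a * c = c * a)
    (had : a * d = d * a) (hbc : b * c = c * b) (hbd : b * d = d * b) (hne : a ≠ b) (hne' : c ≠ d)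
    (hdis : ∀ x : G, (x = 1 ∨ x = a ∨ x = b ∨ x = a * b) → (x = 1 ∨ x = c ∨ x = d ∨ x = c * d) →
      x = 1)
    (hta : t * a = a * t) (htb : t * b = b * t) (htc : t * c = c * t) (htd : t * d = d * t) :
    ∃ u v : G, (u = 1 ∨ u = a ∨ u = b ∨ u = a * b) ∧ (v = 1 ∨ v = c ∨ v = d ∨ v = c * d) ∧
      t = u * v := by
  have hUV : ∀ u ∈ four a b ha hb hab, ∀ v ∈ four c d hc hd hcd, u * v = v * u := by
    intro u hu v hv
    have h1 : ∀ w, w = c ∨ w = d → a * w = w * a ∧ b * w = w * b := by
      rintro w (rfl | rfl)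
      · exact ⟨hac, hbc⟩
      · exact ⟨had, hbd⟩
    have h2 : ∀ w, (w = 1 ∨ w = c ∨ w = d ∨ w = c * d) → Commute a w ∧ Commute b w := by
      rintro w (rfl | rfl | rfl | rfl)
      · exact ⟨Commute.one_right _, Commute.one_right _⟩
      · exact h1 _ (Or.inl rfl)
      · exact h1 _ (Or.inr rfl)
      · exact ⟨Commute.mul_right hac had, Commute.mul_right hbc hbd⟩
    obtain ⟨h3, h4⟩ := h2 v hv
    rcases mem_four.mp hu with h | h | h | h
    · rw [h, one_mul, mul_one]
    · rw [h]; exact h3.eq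
    · rw [h]; exact h4.eq
    · rw [h]; exact (h3.mul_left h4).eq
  have hdis' : four a b ha hb hab ⊓ four c d hc hd hcd = ⊥ := by
    rw [eq_bot_iff]
    rintro x ⟨hx, hx'⟩
    exact mem_bot.mpr (hdis x hx hx')
  have hcard : Nat.card (prod _ _ hUV) = 16 := by
    rw [card_prod hUV hdis', card_four ha hb hab ha1 hb1 hne, card_four hc hd hcd hc1 hd1 hne']
  have hcf : ∀ {a b : G} (ha : a * a = 1) (hb : b * b = 1) (hab : a * b = b * a),
      ∀ u ∈ four a b ha hb hab, ∀ v ∈ four a b ha hb hab, u * v = v * u := by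
    intro a b ha hb hab u hu v hv
    have h3 : Commute a (a * b) := Commute.mul_right (Commute.refl a) hab
    have h4 : Commute b (a * b) := Commute.mul_right (Commute.symm hab) (Commute.refl b)
    have hab' : Commute a b := hab
    rcases mem_four.mp hu with h | h | h | h <;> rcases mem_four.mp hv with h' | h' | h' | h' <;>
      rw [h, h'] <;>
      first
      | rfl
      | exact (Commute.one_left _).eq
      | exact (Commute.one_right _).eq
      | exact hab'.eq
      | exact hab'.symm.eq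
      | exact h3.eq
      | exact h3.symm.eq
      | exact h4.eq
      | exact h4.symm.eq
  have hsf : ∀ {a b : G} (ha : a * a = 1) (hb : b * b = 1) (hab : a * b = b * a),
      ∀ u ∈ four a b ha hb hab, u * u = 1 := by
    intro a b ha hb hab u hu
    rcases mem_four.mp hu with h | h | h | h
    · rw [h, mul_one]
    · rw [h, ha]
    · rw [h, hb]
    · rw [h]
      calc a * b * (a * b) = a * (b * a) * b := by group
        _ = a * (a * b) * b := by rw [hab]
        _ = (a * a) * (b * b) := by group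
        _ = 1 := by rw [ha, hb, mul_one]
  have hmem : t ∈ prod _ _ hUV := by
    refine mem_of_comm hr hcard ?_ ?_ ht ?_
    · rintro _ ⟨u, hu, e, he, rfl⟩ _ ⟨u', hu', e', he', rfl⟩
      calc u * e * (u' * e') = u * (e * u') * e' := by group
        _ = u * (u' * e) * e' := by rw [hUV u' hu' e he]
        _ = (u * u') * (e * e') := by group
        _ = (u' * u) * (e' * e) := by rw [hcf ha hb hab u hu u' hu', hcf hc hd hcd e he e' he']
        _ = u' * (u * e') * e := by group
        _ = u' * (e' * u) * e := by rw [hUV u hu e' he']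
        _ = u' * e' * (u * e) := by group
    · rintro _ ⟨u, hu, e, he, rfl⟩
      calc u * e * (u * e) = u * (e * u) * e := by group
        _ = u * (u * e) * e := by rw [hUV u hu e he]
        _ = (u * u) * (e * e) := by group
        _ = 1 := by rw [hsf ha hb hab u hu, hsf hc hd hcd e he, mul_one]
    · have h1 : Commute t a := hta
      have h2 : Commute t b := htb
      have h3 : Commute t c := htc
      have h4 : Commute t d := htd
      rintro _ ⟨u, hu, e, he, rfl⟩
      have h5 : Commute t u := by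
        rcases mem_four.mp hu with h | h | h | h <;> rw [h]
        · exact Commute.one_right _
        · exact h1
        · exact h2
        · exact h1.mul_right h2
      have h6 : Commute t e := by
        rcases mem_four.mp he with h | h | h | h <;> rw [h]
        · exact Commute.one_right _
        · exact h3
        · exact h4
        · exact h3.mul_right h4
      exact (h5.mul_right h6).eq
  obtain ⟨u, hu, v, hv, e⟩ := mem_prod.mp hmem
  exact ⟨u, v, hu, hv, e⟩

end Cfsg.Agent.GH.L3.Elem
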