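import Cfsg.Agent.GH.L3.TFrame
import Cfsg.Agent.GH.L3.Elem
import Cfsg.Agent.GH.L2Q
import Cfsg.Agent.GH.Rank

/-!
# GH-L3 SD: LEMMA P and the trichotomy (helper242 bb GH #6844)

`x, u ∈ X` commuting, not the same, `T` Sylow in `C(x) ∩ C(u)`, `z, z'` the central involutions of `T ⊓ KK x`,
`T ⊓ KK u`.

* `lemmaP`: `z = z'` or `(u = z and x = z')`.
* `exists_pair`: some `y ∈ X` and involution `v ∈ KK y` with `v ∈ X` or `y v ∈ X`.
* `trichotomy`.
* `caseA_symm`: `x ∈ X`, `z ∈ KK x`, `z ∈ X` imply `x ∈ KK z`.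
-/

set_option autoImplicit false

open Cfsg Subgroup
open Cfsg.Agent.SignalizersComponents Cfsg.Agent.Lib
open Cfsg.Agent.SignalizersComponents.IntrinsicBasic
open Cfsg.Agent.Intrinsic.Basic Cfsg.Agent.Intrinsic.Cen
open Cfsg.Agent.GH.Defs Cfsg.Agent.GH.XSet
open Cfsg.Agent.Walter.SylowIn
open scoped commutatorElement

namespace Cfsg.Agent.GH.L3.TFrame

variable {G : Type*} [Group G] {X : Set G} {N : ℕ} {x u y z z' : G} {T : Subgroup G}

/-- The alternative of `Frame.pair`. -/
def Alt (y u : G) (T : Subgroup G) (z : G) : Prop :=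
  (Full y T z ∧ Fixes (u * z) (KK y)) ∨ Outer y u T z

theorem Alt.ctr (h : Alt y u T z) : Ctr y T z := by
  rcases h with h | h
  · exact h.1.toCtr
  · exact h.toCtr

variable [Finite G]

/-- `T ≤ C(y)` normalises `T ⊓ KK y`. -/
theorem Frame.conj_mem (h : Frame X N) (hy : y ∈ X) (hT : T ≤ C y) {t a : G} (ht : t ∈ T)
    (ha : a ∈ T ⊓ KK y) : t * a * t⁻¹ ∈ T ⊓ KK y :=
  ⟨T.mul_mem (T.mul_mem ht ha.1) (T.inv_mem ht),
    (mem_normalizer_iff.mp (h.toXBase.mem_normalizer hy (mem_C.mp (hT ht))) a).mp ha.2⟩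

/-- conjugation preserves `Fixes _ (KK y)` -/
theorem Frame.conj_fixes (h : Frame X N) (hy : y ∈ X) {t a : G} (ht : Commute t y)
    (ha : Fixes a (KK y)) : Fixes (t * a * t⁻¹) (KK y) := by
  have h1 := ha.cj t
  have h2 : cj t (KK y) = KK y := mem_normalizer_iff_cj.mp (h.toXBase.mem_normalizer hy ht)
  rwa [h2] at h1

omit [Finite G] in
theorem mem_normalizer_of {R : Subgroup G} (h : ∀ t ∈ T, ∀ a ∈ R, t * a * t⁻¹ ∈ R) :
    T ≤ normalizer (R : Set G) := by
  intro t ht
  rw [mem_normalizer_iff]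
  intro a
  refine ⟨fun ha => h t ht a ha, fun ha => ?_⟩
  have h1 := h t⁻¹ (T.inv_mem ht) _ ha
  have e : t⁻¹ * (t * a * t⁻¹) * t⁻¹⁻¹ = a := by group
  rwa [e] at h1

/-- A nontrivial subgroup of `T ⊓ KK y` normalised by `T` contains `z`. -/
theorem Ctr.mem_of_normal (hz : Ctr y T z) (hT : IsPGroup 2 T) {R : Subgroup G}
    (hR : R ≤ T ⊓ KK y) (hN : ∀ t ∈ T, ∀ a ∈ R, t * a * t⁻¹ ∈ R) (hne : ∃ a ∈ R, a ≠ 1) : z ∈ R := by
  obtain ⟨a, ha, ha1⟩ := hne
  obtain ⟨w, hw, hw2, hwc⟩ := L2Q.exists_central hT (hR.trans inf_le_left) (mem_normalizer_of hN)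
    (fun h => ha1 (by rw [h, mem_bot] at ha; exact ha))
  rcases hz.uniq w (hR hw) (fun p hp => (hwc p hp.1).symm) with h1 | h1
  · rw [h1] at hw2
    simp at hw2
  · exact h1 ▸ hw

omit [Finite G] in
theorem comm_central {a b s r : G} (h1 : Commute s b) (h2 : Commute r a)
    (h4 : Commute s r) : a * s * (b * r) * (a * s)⁻¹ * (b * r)⁻¹ = a * b * a⁻¹ * b⁻¹ := by
  have e1 : a * s * (b * r) = a * b * (s * r) := by
    calc a * s * (b * r) = a * (s * b) * r := by group
      _ = a * (b * s) * r := by rw [h1.eq]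
      _ = a * b * (s * r) := by group
  have e2 : b * r * (a * s) = b * a * (s * r) := by
    calc b * r * (a * s) = b * (r * a) * s := by group
      _ = b * (a * r) * s := by rw [h2.eq]
      _ = b * a * (r * s) := by group
      _ = b * a * (s * r) := by rw [h4.eq]
  have e3 : a * s * (b * r) * (a * s)⁻¹ * (b * r)⁻¹ = a * s * (b * r) * (b * r * (a * s))⁻¹ := by
    group
  rw [e3, e1, e2]
  group

/-- Case (a): `P = T ⊓ KK x` is semidihedral and `P ∩ P' = 1`. -/
theorem Frame.inner_case (h : Frame X N) (hx : x ∈ X) (hu : u ∈ X) (hT : IsPGroup 2 T)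
    (hTx : T ≤ C x) (hTu : T ≤ C u) (hz : Full x T z) (hz' : Ctr u T z')
    (hdis : ∀ a ∈ T ⊓ KK x, a ∈ KK u → a = 1) : x = z' := by
  have hxz := hz.toCtr
  -- `[P, P'] = 1`
  have hcomm : ∀ a ∈ T ⊓ KK x, ∀ b ∈ T ⊓ KK u, Commute a b := by
    intro a ha b hb
    have h1 : a * b * a⁻¹ * b⁻¹ ∈ T ⊓ KK x := by
      have h2 := h.conj_mem hx hTx hb.1 ((T ⊓ KK x).inv_mem ha)
      have e : a * b * a⁻¹ * b⁻¹ = a * (b * a⁻¹ * b⁻¹) := by group
      rw [e]
      exact (T ⊓ KK x).mul_mem ha h2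
    have h3 : a * b * a⁻¹ * b⁻¹ ∈ T ⊓ KK u :=
      (T ⊓ KK u).mul_mem (h.conj_mem hu hTu ha.1 hb) ((T ⊓ KK u).inv_mem hb)
    have h4 := hdis _ h1 h3.2
    rw [mul_inv_eq_one, mul_inv_eq_iff_eq_mul] at h4
    exact h4
  have hfix : ∀ b ∈ T ⊓ KK u, Fixes b (KK x) ∨ Fixes (b * z) (KK x) := fun b hb =>
    hz.cent b hb.1 fun p hp => (hcomm p hp b hb).symm
  -- `z'` fixes `KK x`
  have hz'f : Fixes z' (KK x) := by
    have h1 : z' ∈ (T ⊓ KK u) ⊓ fixer (KK x) := by
      refine hz'.mem_of_normal hT inf_le_left ?_ ?_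
      · rintro t ht a ⟨ha, ha'⟩
        exact ⟨h.conj_mem hu hTu ht ha, h.conj_fixes hx (mem_C.mp (hTx ht)) ha'⟩
      · obtain ⟨a, ha, b, hb, hab⟩ := hz'.nonab
        refine ⟨a * b * a⁻¹ * b⁻¹, ⟨?_, ?_⟩, ?_⟩
        · exact (T ⊓ KK u).mul_mem ((T ⊓ KK u).mul_mem ((T ⊓ KK u).mul_mem ha hb)
            ((T ⊓ KK u).inv_mem ha)) ((T ⊓ KK u).inv_mem hb)
        · have hspl : ∀ a ∈ T ⊓ KK u, ∃ a' s, Fixes a' (KK x) ∧ a = a' * s ∧ a' ∈ T ∧ s ∈ T ∧
              ∀ t ∈ T, Commute s t := by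
            intro a ha
            rcases hfix a ha with h1 | h1
            · exact ⟨a, 1, h1, (mul_one a).symm, ha.1, T.one_mem, fun t _ => Commute.one_left t⟩
            · exact ⟨a * z, z, h1, by rw [mul_assoc, hxz.sq, mul_one], T.mul_mem ha.1 hxz.mem.1,
                hxz.mem.1, fun t ht => (hxz.comm t ht).symm⟩
          obtain ⟨a', s, ha', ea, ha'T, hsT, hs⟩ := hspl a ha
          obtain ⟨b', r, hb', eb, hb'T, hrT, hr⟩ := hspl b hb
          rw [ea, eb, comm_central (hs b' hb'T) (hr a' ha'T) (hs r hrT)]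
          exact fixes_mul (fixes_mul (fixes_mul ha' hb') (fixes_inv ha')) (fixes_inv hb')
        · intro h1
          rw [mul_inv_eq_one, mul_inv_eq_iff_eq_mul] at h1
          exact hab h1
    exact h1.2
  obtain ⟨b, hb, hb2, hbz⟩ := hxz.four
  obtain ⟨b', hb', hb'2, hb'z⟩ := hz'.four
  have hbsq : b * b = 1 := mul_self_of_orderOf hb2
  have hb'sq : b' * b' = 1 := mul_self_of_orderOf hb'2
  have hb1 : b ≠ 1 := by rintro rfl; simp at hb2
  have hb'1 : b' ≠ 1 := by rintro rfl; simp at hb'2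
  have hxc : ∀ t ∈ T, Commute t x := fun t ht => mem_C.mp (hTx ht)
  have hxsq := h.toXBase.sq hx
  -- the projection of `b'`
  obtain ⟨c, hc, hcf, hcT⟩ : ∃ c, (c = b' ∨ c = b' * z) ∧ Fixes c (KK x) ∧ c ∈ T := by
    rcases hfix b' hb' with h1 | h1
    · exact ⟨b', Or.inl rfl, h1, hb'.1⟩
    · exact ⟨b' * z, Or.inr rfl, h1, T.mul_mem hb'.1 hxz.mem.1⟩
  have hb'zc : Commute b' z := hxz.comm b' hb'.1
  have hcsq : c * c = 1 := by
    rcases hc with rfl | rfl
    · exact hb'sq
    · calc b' * z * (b' * z) = b' * (z * b') * z := by group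
        _ = b' * (b' * z) * z := by rw [hb'zc.eq]
        _ = (b' * b') * (z * z) := by group
        _ = 1 := by rw [hb'sq, hxz.sq, mul_one]
  have hz1 := hxz.ne
  have hzu : z ∉ KK u := fun h1 => hz1 (hdis z hxz.mem h1)
  have hc1 : c ≠ 1 := by
    rcases hc with rfl | rfl
    · exact hb'1
    · intro h1
      apply hzu
      have h2 : z = b' := by
        have h3 : b' * (b' * z) = b' := by rw [h1, mul_one]
        rwa [← mul_assoc, hb'sq, one_mul] at h3
      rw [h2]
      exact hb'.2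
  have hz'c : z' ≠ c := by
    rcases hc with rfl | rfl
    · exact hb'z.symm
    · intro h1
      apply hzu
      have h2 : z = b' * z' := by rw [h1, ← mul_assoc, hb'sq, one_mul]
      rw [h2]
      exact (KK u).mul_mem hb'.2 hz'.mem.2
  -- no element of `T ⊓ KK x` fixes `KK x`
  have hno : ∀ a ∈ T ⊓ KK x, Fixes a (KK x) → a = 1 := by
    intro a ha hf
    obtain ⟨n, hn⟩ := exists_pow hT ha.1
    exact h.eq_one hx ha.2 hf hn
  have hab : z * b = b * z := (hxz.comm b hb.1).symm.eq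
  have hcd : z' * c = c * z' := (hz'.comm c hcT).symm.eq
  have hfour : ∀ w : G, (w = 1 ∨ w = z ∨ w = b ∨ w = z * b) → w ∈ T ⊓ KK x := by
    rintro w (rfl | rfl | rfl | rfl)
    · exact one_mem _
    · exact hxz.mem
    · exact hb
    · exact (T ⊓ KK x).mul_mem hxz.mem hb
  have hfour' : ∀ w : G, (w = 1 ∨ w = z' ∨ w = c ∨ w = z' * c) → Fixes w (KK x) := by
    rintro w (rfl | rfl | rfl | rfl)
    · exact fixes_one _
    · exact hz'f
    · exact hcf
    · exact fixes_mul hz'f hcf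
  have hzb : z ≠ b := hbz.symm
  have hbc : b * c = c * b := by
    have h1 : Commute b b' := hcomm b hb b' hb'
    rcases hc with rfl | rfl
    · exact h1.eq
    · exact (h1.mul_right (hxz.comm b hb.1)).eq
  obtain ⟨p, q, hp, hq, hpq⟩ := Elem.exists_mul (t := x) (Rank.pRankLE h.rank) hxz.sq hbsq hz'.sq hcsq
    hxsq hz1 hb1 hz'.ne hc1 hab hcd (hz'.comm z hxz.mem.1).eq (hxz.comm c hcT).symm.eq
    (hz'.comm b hb.1).eq hbc hzb hz'c (fun w hw hw' => hno w (hfour w hw) (hfour' w hw'))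
    (hxc z hxz.mem.1).symm.eq (hxc b hb.1).symm.eq (hxc z' hz'.mem.1).symm.eq (hxc c hcT).symm.eq
  have hp1 : p = 1 := by
    apply hno p (hfour p hp)
    have h1 : p = x * q⁻¹ := by rw [hpq, mul_inv_cancel_right]
    rw [h1]
    exact fixes_mul (h.toXBase.fixes_self hx) (fixes_inv (hfour' q hq))
  rw [hp1, one_mul] at hpq
  -- `c` is not central in `T`
  have hcc : ¬ ∀ t ∈ T, Commute t c := by
    intro h1
    have h2 : ∀ t ∈ T, Commute t b' := by
      rcases hc with rfl | rfl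
      · exact h1
      · intro t ht
        have h3 := (h1 t ht).mul_right (hxz.comm t ht)
        rwa [mul_assoc, hxz.sq, mul_one] at h3
    rcases hz'.uniq b' hb' (fun p hp => (h2 p hp.1).symm) with h3 | h3
    · exact hb'1 h3
    · exact hb'z h3
  rcases hq with h1 | h1 | h1 | h1
  · exact absurd (hpq.trans h1) (h.toXBase.ne_one hx)
  · exact hpq.trans h1
  · exact absurd (fun t ht => (hpq.trans h1) ▸ hxc t ht) hcc
  · exfalso
    apply hcc
    intro t ht
    have h2 : c = z' * x := by rw [hpq, h1, ← mul_assoc, hz'.sq, one_mul]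
    rw [h2]
    exact (hz'.comm t ht).mul_right (hxc t ht)

/-- LEMMA P. -/
theorem Frame.lemmaP (h : Frame X N) (hx : x ∈ X) (hu : u ∈ X) (hxu : Commute x u)
    (hn : ¬ Fixes u (KK x)) (hT : SylIn 2 T (C x ⊓ C u)) (hz : Alt x u T z) (hz' : Alt u x T z') :
    z = z' ∨ (u = z ∧ x = z') := by
  have hTx : T ≤ C x := hT.le.trans inf_le_left
  have hTu : T ≤ C u := hT.le.trans inf_le_right
  have hT2 := hT.isPGroup
  have hn' : ¬ Fixes x (KK u) := fun h1 => hn (h.toXSet.fixes_symm hu hx hxu.symm h1)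
  by_cases hdis : ∀ a ∈ T ⊓ KK x, a ∈ KK u → a = 1
  · right
    have hdis' : ∀ a ∈ T ⊓ KK u, a ∈ KK x → a = 1 := fun a ha ha' => hdis a ⟨ha.1, ha'⟩ ha.2
    -- one of the two is inner
    have key : ∀ {x u z z' : G}, x ∈ X → u ∈ X → T ≤ C x → T ≤ C u → Full x T z → Alt u x T z' →
        (∀ a ∈ T ⊓ KK x, a ∈ KK u → a = 1) → (∀ a ∈ T ⊓ KK u, a ∈ KK x → a = 1) →
        u = z ∧ x = z' := by
      intro x u z z' hx hu hTx hTu hz hz' hdis hdis'
      have h1 := h.inner_case hx hu hT2 hTx hTu hz hz'.ctr hdis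
      rcases hz' with hz' | hz'
      · exact ⟨h.inner_case hu hx hT2 hTu hTx hz'.1 hz.toCtr hdis', h1⟩
      · exfalso
        apply hz'.outer z' hz'.mem.2
        rw [h1, hz'.sq]
        exact fixes_one _
    rcases hz with hz | hz
    · exact key hx hu hTx hTu hz.1 hz' hdis hdis'
    · rcases hz' with hz' | hz'
      · have h1 := key hu hx hTu hTx hz'.1 (Or.inr hz) hdis' hdis
        exact ⟨h1.2, h1.1⟩
      · -- both outer
        exfalso
        have hcomm : ∀ a ∈ T ⊓ KK x, ∀ b ∈ T ⊓ KK u, Commute a b := by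
          intro a ha b hb
          have h1 : a * b * a⁻¹ * b⁻¹ ∈ T ⊓ KK x := by
            have h2 := h.conj_mem hx hTx hb.1 ((T ⊓ KK x).inv_mem ha)
            have e : a * b * a⁻¹ * b⁻¹ = a * (b * a⁻¹ * b⁻¹) := by group
            rw [e]
            exact (T ⊓ KK x).mul_mem ha h2
          have h3 : a * b * a⁻¹ * b⁻¹ ∈ T ⊓ KK u :=
            (T ⊓ KK u).mul_mem (h.conj_mem hu hTu ha.1 hb) ((T ⊓ KK u).inv_mem hb)
          have h4 := hdis _ h1 h3.2
          rw [mul_inv_eq_one, mul_inv_eq_iff_eq_mul] at h4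
          exact h4
        obtain ⟨b, hb, hb2, hbz⟩ := hz.four
        obtain ⟨c, hc, hc2, hcz⟩ := hz'.four
        have hbsq : b * b = 1 := mul_self_of_orderOf hb2
        have hcsq : c * c = 1 := mul_self_of_orderOf hc2
        have hb1 : b ≠ 1 := by rintro rfl; simp at hb2
        have hc1 : c ≠ 1 := by rintro rfl; simp at hc2
        have hfour : ∀ w : G, (w = 1 ∨ w = z ∨ w = b ∨ w = z * b) → w ∈ T ⊓ KK x := by
          rintro w (rfl | rfl | rfl | rfl)
          · exact one_mem _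
          · exact hz.mem
          · exact hb
          · exact (T ⊓ KK x).mul_mem hz.mem hb
        have hfour' : ∀ w : G, (w = 1 ∨ w = z' ∨ w = c ∨ w = z' * c) → w ∈ T ⊓ KK u := by
          rintro w (rfl | rfl | rfl | rfl)
          · exact one_mem _
          · exact hz'.mem
          · exact hc
          · exact (T ⊓ KK u).mul_mem hz'.mem hc
        -- central involutions of `T` are in `{z, z', z z'}`
        have hcen : ∀ t : G, t * t = 1 → (∀ s ∈ T, Commute s t) →
            t = 1 ∨ t = z ∨ t = z' ∨ t = z * z' := by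
          intro t ht htc
          obtain ⟨p, q, hp, hq, hpq⟩ := Elem.exists_mul (t := t) (Rank.pRankLE h.rank) hz.sq hbsq
            hz'.sq hcsq ht hz.ne hb1 hz'.ne hc1 (hz.comm b hb.1).symm.eq (hz'.comm c hc.1).symm.eq
            (hz'.comm z hz.mem.1).eq (hcomm z hz.mem c hc).eq (hz'.comm b hb.1).eq
            (hcomm b hb c hc).eq hbz.symm hcz.symm
            (fun w hw hw' => hdis w (hfour w hw) (hfour' w hw').2)
            (htc z hz.mem.1).symm.eq (htc b hb.1).symm.eq (htc z' hz'.mem.1).symm.eq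
            (htc c hc.1).symm.eq
          have hpT := hfour p hp
          have hqT := hfour' q hq
          have hp' : p = 1 ∨ p = z := by
            apply hz.uniq p hpT
            intro r hr
            have h1 : p = t * q⁻¹ := by rw [hpq, mul_inv_cancel_right]
            rw [h1]
            exact (htc r hr.1).symm.mul_left (hcomm r hr q hqT).symm.inv_left
          have hq' : q = 1 ∨ q = z' := by
            apply hz'.uniq q hqT
            intro r hr
            have h1 : q = p⁻¹ * t := by rw [hpq, inv_mul_cancel_left]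
            rw [h1]
            exact (hcomm p hpT r hr).inv_left.mul_left (htc r hr.1).symm
          rcases hp' with h1 | h1 <;> rcases hq' with h2 | h2 <;> rw [h1, h2] at hpq
          · left; rw [hpq, one_mul]
          · right; right; left; rw [hpq, one_mul]
          · right; left; rw [hpq, mul_one]
          · right; right; right; exact hpq
        have hxx : x = z * z' := by
          rcases hcen x (h.toXBase.sq hx) (fun t ht => mem_C.mp (hTx ht)) with h1 | h1 | h1 | h1
          · exact absurd h1 (h.toXBase.ne_one hx)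
          · exfalso
            apply hz.ne
            apply h.eq_one hx hz.mem.2 (n := 1)
            · rw [← h1]
              exact h.toXBase.fixes_self hx
            · rw [pow_one, pow_two, hz.sq]
          · exfalso
            apply hz'.outer z' hz'.mem.2
            rw [h1, hz'.sq]
            exact fixes_one _
          · exact h1
        have huu : u = z * z' := by
          rcases hcen u (h.toXBase.sq hu) (fun t ht => mem_C.mp (hTu ht)) with h1 | h1 | h1 | h1
          · exact absurd h1 (h.toXBase.ne_one hu)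
          · exfalso
            apply hz.outer z hz.mem.2
            rw [h1, hz.sq]
            exact fixes_one _
          · exfalso
            apply hz'.ne
            apply h.eq_one hu hz'.mem.2 (n := 1)
            · rw [← h1]
              exact h.toXBase.fixes_self hu
            · rw [pow_one, pow_two, hz'.sq]
          · exact h1
        apply hn
        rw [huu, ← hxx]
        exact h.toXBase.fixes_self hx
  · left
    push Not at hdis
    obtain ⟨a, ha, ha', ha1⟩ := hdis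
    have h1 : z' ∈ (T ⊓ KK x) ⊓ (T ⊓ KK u) := by
      refine hz'.ctr.mem_of_normal hT2 inf_le_right ?_ ⟨a, ⟨ha, ha.1, ha'⟩, ha1⟩
      rintro t ht b ⟨hb, hb'⟩
      exact ⟨h.conj_mem hx hTx ht hb, h.conj_mem hu hTu ht hb'⟩
    rcases hz.ctr.uniq z' h1.1 (fun p hp => (hz'.ctr.comm p hp.1).symm) with h2 | h2
    · exact absurd h2 hz'.ctr.ne
    · exact h2.symm

/-- `x, u` commuting and not the same: some `y ∈ X` and some involution `v ∈ KK y` with `v ∈ X` or
`y v ∈ X`. -/
theorem Frame.exists_pair (h : Frame X N) (hx : x ∈ X) (hu : u ∈ X) (hxu : Commute x u)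
    (hn : ¬ Fixes u (KK x)) :
    ∃ y ∈ X, ∃ v ∈ KK y, orderOf v = 2 ∧ (v ∈ X ∨ y * v ∈ X) := by
  obtain ⟨T, hT⟩ := exists_sylIn 2 (C x ⊓ C u)
  obtain ⟨z, hz⟩ := h.pair x hx u hu hxu hn T hT
  have hT' : SylIn 2 T (C u ⊓ C x) := by rw [inf_comm]; exact hT
  have hn' : ¬ Fixes x (KK u) := fun h1 => hn (h.toXSet.fixes_symm hu hx hxu.symm h1)
  obtain ⟨z', hz'⟩ := h.pair u hu x hx hxu.symm hn' T hT'
  rcases h.lemmaP hx hu hxu hn hT hz hz' with h1 | ⟨h1, -⟩
  · subst h1
    refine ⟨u, hu, z, (Alt.ctr hz').mem.2, (Alt.ctr hz').ord, Or.inr ?_⟩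
    rcases hz with hz | hz
    · -- inner
      have hc : Commute (u * z) x :=
        hxu.symm.mul_left (mem_C.mp (hT.le hz.1.mem.1).1)
      have huz : Commute u z := (mem_C.mp (hT.le hz.1.mem.1).2).symm
      have hsq : (u * z) * (u * z) = 1 := by
        calc (u * z) * (u * z) = u * (z * u) * z := by group
          _ = u * (u * z) * z := by rw [huz.eq]
          _ = (u * u) * (z * z) := by group
          _ = 1 := by rw [h.toXBase.sq hu, hz.1.sq, mul_one]
      refine h.mem_X hx (orderOf_eq_two hsq ?_) hc hz.2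
      intro h1
      have h2 : u = z := by
        calc u = u * (z * z) := by rw [hz.1.sq, mul_one]
          _ = (u * z) * z := by group
          _ = z := by rw [h1, one_mul]
      apply hz.1.ne
      apply h.eq_one hu (Alt.ctr hz').mem.2 (n := 1)
      · rw [← h2]
        exact h.toXBase.fixes_self hu
      · rw [pow_one, pow_two, hz.1.sq]
    · -- outer
      obtain ⟨c, -, hc⟩ := hz.fus
      rw [← hc]
      exact h.conj u hu c
  · exact ⟨x, hx, z, (Alt.ctr hz).mem.2, (Alt.ctr hz).ord, Or.inl (h1 ▸ hu)⟩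

/-- CASE A: `z ∈ KK x ∩ X` implies `x ∈ KK z`. -/
theorem Frame.caseA_symm (h : Frame X N) (hx : x ∈ X) (hz : z ∈ X) (hzx : z ∈ KK x) : x ∈ KK z := by
  have hxz : Commute x z := (h.toXBase.comm_of_mem hx hzx).symm
  have hn : ¬ Fixes z (KK x) := by
    intro h1
    apply h.toXBase.ne_one hz
    apply h.eq_one hx hzx h1 (n := 1)
    rw [pow_one, pow_two, h.toXBase.sq hz]
  obtain ⟨T, hT⟩ := exists_sylIn 2 (C x ⊓ C z)
  obtain ⟨v, hv⟩ := h.pair x hx z hz hxz hn T hT
  have hT' : SylIn 2 T (C z ⊓ C x) := by rw [inf_comm]; exact hT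
  have hn' : ¬ Fixes x (KK z) := fun h1 => hn (h.toXSet.fixes_symm hz hx hxz.symm h1)
  obtain ⟨v', hv'⟩ := h.pair z hz x hx hxz.symm hn' T hT'
  rcases h.lemmaP hx hz hxz hn hT hv hv' with h1 | ⟨-, h1⟩
  · exfalso
    subst h1
    rcases hv with hv | hv
    · have h2 : Commute z v := (mem_C.mp (hT.le hv.1.mem.1).2).symm
      have hsq : (z * v) * (z * v) = 1 := by
        calc (z * v) * (z * v) = z * (v * z) * v := by group
          _ = z * (z * v) * v := by rw [h2.eq]
          _ = (z * z) * (v * v) := by group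
          _ = 1 := by rw [h.toXBase.sq hz, hv.1.sq, mul_one]
      have h3 : z * v = 1 := by
        apply h.eq_one hx ((KK x).mul_mem hzx hv.1.mem.2) hv.2 (n := 1)
        rw [pow_one, pow_two, hsq]
      have h4 : z = v := by
        calc z = z * (v * v) := by rw [hv.1.sq, mul_one]
          _ = (z * v) * v := by group
          _ = v := by rw [h3, one_mul]
      apply hv.1.ne
      apply h.eq_one hz (Alt.ctr hv').mem.2 (n := 1)
      · rw [← h4]
        exact h.toXBase.fixes_self hz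
      · rw [pow_one, pow_two, hv.1.sq]
    · apply hv.outer z hzx
      rw [h.toXBase.sq hz]
      exact fixes_one _
  · rw [h1]
    exact (Alt.ctr hv').mem.2

/-- The trichotomy: CASE A, CASE B, CASE C. -/
theorem Frame.trichotomy (h : Frame X N) :
    (∃ x ∈ X, ∃ z ∈ KK x, z ∈ X ∧ x ∈ KK z) ∨
    ((∀ y ∈ X, ∀ v ∈ KK y, orderOf v = 2 → v ∉ X) ∧
      ∃ x ∈ X, ∃ z ∈ KK x, orderOf z = 2 ∧ x * z ∈ X) ∨
    (∀ x ∈ X, ∀ u ∈ X, Commute x u → Fixes u (KK x)) := by
  by_cases hA : ∃ x ∈ X, ∃ z ∈ KK x, z ∈ X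
  · obtain ⟨x, hx, z, hzx, hz⟩ := hA
    exact Or.inl ⟨x, hx, z, hzx, hz, h.caseA_symm hx hz hzx⟩
  · right
    by_cases hC : ∀ x ∈ X, ∀ u ∈ X, Commute x u → Fixes u (KK x)
    · exact Or.inr hC
    · left
      refine ⟨fun y hy v hv _ hvX => hA ⟨y, hy, v, hv, hvX⟩, ?_⟩
      push Not at hC
      obtain ⟨x, hx, u, hu, hxu, hn⟩ := hC
      obtain ⟨y, hy, v, hv, hv2, h1⟩ := h.exists_pair hx hu hxu hn
      refine ⟨y, hy, v, hv, hv2, h1.resolve_left fun h2 => hA ⟨y, hy, v, hv, h2⟩⟩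

end Cfsg.Agent.GH.L3.TFrame
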