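import Cfsg.Agent.GH.L3.CaseB
import Cfsg.Agent.GH.L3S.SD

/-!
# GH-L3 SD: fusion in `KK x`

* `Frame.exists_sylow`: a 2-subgroup `V` of `C(x) ∩ C(z)`, `z` an involution of `KK x`, is contained in a Sylow
  2-subgroup `T` of `C(x)` with `Full x T z`.
* `Frame.swap`, `Frame.cycle`: `z ≠ b` commuting involutions of `KK x`: some element of `KK x` centralizes `z` and maps `b`
  to `z b`; some element maps `z` to `b` and `b` to `z b`.
* `Frame.exists_conj_mul`: `s x s⁻¹ = x z`, `s` centralizes `b`, `z`: `x` is conjugate to `x b` in `C(z)`.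
-/

set_option autoImplicit false
set_option linter.unusedSectionVars false

open Cfsg Subgroup
open Cfsg.Agent.SignalizersComponents Cfsg.Agent.Lib
open Cfsg.Agent.SignalizersComponents.IntrinsicBasic
open Cfsg.Agent.Intrinsic.Basic Cfsg.Agent.Intrinsic.Cen
open Cfsg.Agent.GH.Defs Cfsg.Agent.GH.XSet
open Cfsg.Agent.Walter.SylowIn
open scoped commutatorElement

namespace Cfsg.Agent.GH.L3.TFrame

variable {G : Type*} [Group G] {X : Set G} {N : ℕ} {x u y z z' b s : G} {T : Subgroup G}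

variable [Finite G]

/-- A 2-subgroup `V` of `C(x) ∩ C(z)` is contained in a Sylow subgroup `T` of `C(x)`, `Full x T z`. -/
theorem Frame.exists_sylow (h : Frame X N) (hx : x ∈ X) (hz : z ∈ KK x) (hz2 : orderOf z = 2)
    {V : Subgroup G} (hV : IsPGroup 2 V) (hVx : V ≤ C x) (hVz : V ≤ C z) (hzV : z ∈ V) :
    ∃ T, V ≤ T ∧ SylIn 2 T (C x) ∧ Full x T z := by
  have hp2 : Fact (Nat.Prime 2) := ⟨Nat.prime_two⟩
  obtain ⟨T0, hT0⟩ := exists_sylIn 2 (C x)
  obtain ⟨z0, hz0⟩ := h.full x hx T0 hT0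
  obtain ⟨c, hc, e⟩ := h.conjK x hx z0 hz0.mem.2 z hz hz0.ord hz2
  have hcx : Commute c x := h.toXBase.comm_of_mem hx hc
  have h1 : T0.map (MulAut.conj c).toMonoidHom ≤ C x ⊓ C z := by
    rintro _ ⟨t, ht, rfl⟩
    have ht1 : Commute t x := mem_C.mp (hT0.le ht)
    have h2 : Commute (c * t * c⁻¹) x := (hcx.mul_left ht1).mul_left hcx.inv_left
    have h4 : Commute t z0 := hz0.comm t ht
    have h5 := h4.map (MulAut.conj c).toMonoidHom
    change Commute (c * t * c⁻¹) (c * z0 * c⁻¹) at h5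
    rw [e] at h5
    exact ⟨mem_C.mpr h2, mem_C.mpr h5⟩
  obtain ⟨T, hT, hVT⟩ := exists_sylIn_ge (le_inf hVx hVz) hV
  have h2 : IsPGroup 2 (T0.map (MulAut.conj c).toMonoidHom) := hT0.isPGroup.map _
  have h3 := hT.card_le h1 h2
  rw [Subgroup.card_map_of_injective (MulAut.conj c).injective] at h3
  have hTs : SylIn 2 T (C x) := sylIn_of_card_le hT0 (hT.le.trans inf_le_left) hT.isPGroup h3
  obtain ⟨z1, hz1⟩ := h.full x hx T hTs
  refine ⟨T, hVT, hTs, ?_⟩
  have hzc : ∀ t ∈ T, Commute z t := fun t ht => (mem_C.mp (hT.le ht).2).symm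
  rcases hz1.uniq z ⟨hVT hzV, hz⟩ (fun p hp => hzc p hp.1) with h4 | h4
  · rw [h4] at hz2
    simp at hz2
  · rw [h4]
    exact hz1

theorem Frame.swap (h : Frame X N) (hx : x ∈ X) (hz : z ∈ KK x) (hz2 : orderOf z = 2)
    (hb : b ∈ KK x) (hb2 : orderOf b = 2) (hzb : Commute z b) (hne : z ≠ b) :
    ∃ p ∈ KK x, p * z * p⁻¹ = z ∧ p * b * p⁻¹ = z * b := by
  have hzz := mul_self_of_orderOf hz2
  have hbb := mul_self_of_orderOf hb2
  have hV : IsPGroup 2 (Elem.four z b hzz hbb hzb.eq) := by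
    rintro ⟨v, hv⟩
    refine ⟨1, Subtype.ext ?_⟩
    change v ^ 2 ^ 1 = 1
    rw [pow_one, pow_two]
    rcases Elem.mem_four.mp hv with rfl | rfl | rfl | rfl
    · exact mul_one 1
    · exact hzz
    · exact hbb
    · calc z * b * (z * b) = z * (b * z) * b := by group
        _ = z * (z * b) * b := by rw [hzb.eq]
        _ = (z * z) * (b * b) := by group
        _ = 1 := by rw [hzz, hbb, mul_one]
  have hVK : Elem.four z b hzz hbb hzb.eq ≤ KK x := by
    intro v hv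
    rcases Elem.mem_four.mp hv with rfl | rfl | rfl | rfl
    · exact one_mem _
    · exact hz
    · exact hb
    · exact (KK x).mul_mem hz hb
  have hVz : Elem.four z b hzz hbb hzb.eq ≤ C z := by
    intro v hv
    rw [mem_C]
    rcases Elem.mem_four.mp hv with rfl | rfl | rfl | rfl
    · exact Commute.one_left _
    · exact Commute.refl _
    · exact hzb.symm
    · exact (Commute.refl z).mul_left hzb.symm
  obtain ⟨T, hVT, hT, hf⟩ := h.exists_sylow hx hz hz2 hV (hVK.trans (h.comp x hx).le) hVz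
    (Elem.mem_four.mpr (Or.inr (Or.inl rfl)))
  have hbP : b ∈ T ⊓ KK x := ⟨hVT (Elem.mem_four.mpr (Or.inr (Or.inr (Or.inl rfl)))), hb⟩
  obtain ⟨w, y, hc⟩ := L3S.SD.exists_crd hf.sd hf.card
  have hz4 : z = w 4 := by
    rcases hc.central hf.mem (fun p hp => (hf.comm p hp.1).symm.eq) with h1 | h1
    · exact absurd h1 hf.ne
    · exact h1
  have hb1 : b ≠ 1 := by rintro rfl; simp at hb2
  rcases (hc.mem b).mp hbP with ⟨a, ha⟩ | ⟨a, ha⟩
  · exfalso
    have h1 : w (a + a) = 1 := by rw [← hc.um, ← ha, hbb]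
    have h2 := hc.inj _ h1
    have key : ∀ a : ZMod 8, a + a = 0 → a = 0 ∨ a = 4 := by decide
    rcases key a h2 with rfl | rfl
    · exact hb1 (ha.trans hc.u0)
    · exact hne (hz4.trans ha.symm)
  · refine ⟨w 2, (hc.u_mem 2).2, ?_, ?_⟩
    · have h1 := hc.u4_central (hc.u_mem 2)
      rw [hz4, ← h1, mul_inv_cancel_right]
    · have h1 : w 2 * (w a * y) * (w 2)⁻¹ = w a * (w 2 * y * (w 2)⁻¹) := by
        have h2 : w 2 * w a = w a * w 2 := by rw [hc.um, hc.um, add_comm]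
        calc w 2 * (w a * y) * (w 2)⁻¹ = (w 2 * w a) * y * (w 2)⁻¹ := by group
          _ = (w a * w 2) * y * (w 2)⁻¹ := by rw [h2]
          _ = w a * (w 2 * y * (w 2)⁻¹) := by group
      rw [ha, h1, hc.conj_y, hz4, ← mul_assoc, ← mul_assoc, hc.um, hc.um]
      have e : a + -2 * 2 = 4 + a := by
        have key : ∀ a : ZMod 8, a + -2 * 2 = 4 + a := by decide
        exact key a
      rw [e]

theorem Frame.cycle (h : Frame X N) (hx : x ∈ X) (hz : z ∈ KK x) (hz2 : orderOf z = 2)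
    (hb : b ∈ KK x) (hb2 : orderOf b = 2) (hzb : Commute z b) (hne : z ≠ b) :
    ∃ ρ ∈ KK x, ρ * z * ρ⁻¹ = b ∧ ρ * b * ρ⁻¹ = z * b := by
  have hzz := mul_self_of_orderOf hz2
  obtain ⟨k1, hk1, e1, e2⟩ := h.swap hx hz hz2 hb hb2 hzb hne
  obtain ⟨k2, hk2, e3, e4⟩ := h.swap hx hb hb2 hz hz2 hzb.symm hne.symm
  -- `k2 : b ↦ b, z ↦ b z`; `k1 : z ↦ z, b ↦ z b`
  refine ⟨k1 * k2, (KK x).mul_mem hk1 hk2, ?_, ?_⟩
  · calc k1 * k2 * z * (k1 * k2)⁻¹ = k1 * (k2 * z * k2⁻¹) * k1⁻¹ := by group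
      _ = k1 * (b * z) * k1⁻¹ := by rw [e4]
      _ = (k1 * b * k1⁻¹) * (k1 * z * k1⁻¹) := by group
      _ = z * b * z := by rw [e1, e2]
      _ = z * (b * z) := by group
      _ = z * (z * b) := by rw [hzb.eq]
      _ = b := by rw [← mul_assoc, hzz, one_mul]
  · calc k1 * k2 * b * (k1 * k2)⁻¹ = k1 * (k2 * b * k2⁻¹) * k1⁻¹ := by group
      _ = k1 * b * k1⁻¹ := by rw [e3]
      _ = z * b := e2

/-- `s x s⁻¹ = x z`, `s` centralizes `b` and `z`: `x` is conjugate to `x b` in `C(z)`. -/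
theorem Frame.exists_conj_mul (h : Frame X N) (hx : x ∈ X) (hz : z ∈ KK x) (hz2 : orderOf z = 2)
    (hb : b ∈ KK x) (hb2 : orderOf b = 2) (hzb : Commute z b) (hne : z ≠ b)
    (hs : s * x * s⁻¹ = x * z) (hsb : Commute s b) (hsz : Commute s z) :
    ∃ c, Commute c z ∧ c * x * c⁻¹ = x * b := by
  obtain ⟨r, hr, e1, e2⟩ := h.cycle hx hz hz2 hb hb2 hzb hne
  have hrx : Commute r x := h.toXBase.comm_of_mem hx hr
  have hzz := mul_self_of_orderOf hz2
  have hbb := mul_self_of_orderOf hb2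
  -- `r (z b) r⁻¹ = z`
  have e3 : r * (z * b) * r⁻¹ = z := by
    calc r * (z * b) * r⁻¹ = (r * z * r⁻¹) * (r * b * r⁻¹) := by group
      _ = b * (z * b) := by rw [e1, e2]
      _ = z * (b * b) := by rw [← mul_assoc, ← hzb.eq, mul_assoc]
      _ = z := by rw [hbb, mul_one]
  have e4 : r⁻¹ * z * r = z * b := by
    calc r⁻¹ * z * r = r⁻¹ * (r * (z * b) * r⁻¹) * r := by rw [e3]
      _ = z * b := by group
  refine ⟨r * s * r⁻¹, ?_, ?_⟩
  · change r * s * r⁻¹ * z = z * (r * s * r⁻¹)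
    have h1 : Commute s (z * b) := hsz.mul_right hsb
    calc r * s * r⁻¹ * z = r * (s * (r⁻¹ * z * r)) * r⁻¹ := by group
      _ = r * ((z * b) * s) * r⁻¹ := by rw [e4, h1.eq]
      _ = (r * (z * b) * r⁻¹) * (r * s * r⁻¹) := by group
      _ = z * (r * s * r⁻¹) := by rw [e3]
  · have h1 : r⁻¹ * x * r = x := by
      rw [mul_assoc, ← hrx.eq, inv_mul_cancel_left]
    calc r * s * r⁻¹ * x * (r * s * r⁻¹)⁻¹ = r * (s * (r⁻¹ * x * r) * s⁻¹) * r⁻¹ := by group
      _ = r * (x * z) * r⁻¹ := by rw [h1, hs]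
      _ = (r * x * r⁻¹) * (r * z * r⁻¹) := by group
      _ = x * b := by rw [e1, hrx.eq, mul_inv_cancel_right]

end Cfsg.Agent.GH.L3.TFrame
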