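import Mathlib

/-!
# Facts on `GL₂(3)`

`Γ = GL₂(3)`, `S = SL₂(3)`, `Y` its quaternion subgroup, `u, v` generators of order `3` of `S`, `b` a
reflection, `z = -1`.
-/

set_option autoImplicit false
set_option maxRecDepth 100000

open Subgroup

namespace Cfsg.Agent.GH.L3.GLThree

/-- `GL₂(3)` -/
abbrev Γ : Type := GL (Fin 2) (ZMod 3)

instance : Fact (Nat.Prime 3) := ⟨Nat.prime_three⟩

theorem ext_iff' (g h : Γ) : g = h ↔ g 0 0 = h 0 0 ∧ g 0 1 = h 0 1 ∧ g 1 0 = h 1 0 ∧ g 1 1 = h 1 1 := by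
  constructor
  · rintro rfl; exact ⟨rfl, rfl, rfl, rfl⟩
  · rintro ⟨h1, h2, h3, h4⟩
    apply Units.ext
    ext i j
    fin_cases i <;> fin_cases j
    · exact h1
    · exact h2
    · exact h3
    · exact h4

theorem mul00 (g h : Γ) : (g * h) 0 0 = g 0 0 * h 0 0 + g 0 1 * h 1 0 := by
  simp [Matrix.mul_apply, Fin.sum_univ_two]

theorem mul01 (g h : Γ) : (g * h) 0 1 = g 0 0 * h 0 1 + g 0 1 * h 1 1 := by
  simp [Matrix.mul_apply, Fin.sum_univ_two]

theorem mul10 (g h : Γ) : (g * h) 1 0 = g 1 0 * h 0 0 + g 1 1 * h 1 0 := by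
  simp [Matrix.mul_apply, Fin.sum_univ_two]

theorem mul11 (g h : Γ) : (g * h) 1 1 = g 1 0 * h 0 1 + g 1 1 * h 1 1 := by
  simp [Matrix.mul_apply, Fin.sum_univ_two]

theorem one00 : (1 : Γ) 0 0 = 1 := rfl
theorem one01 : (1 : Γ) 0 1 = 0 := rfl
theorem one10 : (1 : Γ) 1 0 = 0 := rfl
theorem one11 : (1 : Γ) 1 1 = 1 := rfl

/-- the determinant -/
def dt (g : Γ) : ZMod 3 := g 0 0 * g 1 1 - g 0 1 * g 1 0

theorem dt_eq (g : Γ) : dt g = (g : Matrix (Fin 2) (Fin 2) (ZMod 3)).det := by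
  rw [Matrix.det_fin_two]; rfl

theorem dt_ne (g : Γ) : dt g ≠ 0 := by
  rw [dt_eq]
  exact (Matrix.GeneralLinearGroup.det g).ne_zero

theorem dt_mul (g h : Γ) : dt (g * h) = dt g * dt h := by
  simp only [dt_eq, Units.val_mul, Matrix.det_mul]

theorem dt_one : dt 1 = 1 := by
  rw [dt_eq]; simp

/-- an element of `GL₂(3)` with given entries -/
def mk (a b c d : ZMod 3) (h : a * d - b * c ≠ 0) : Γ :=
  Matrix.GeneralLinearGroup.mkOfDetNeZero !![a, b; c, d] (by rw [Matrix.det_fin_two_of]; exact h)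

theorem mk00 (a b c d : ZMod 3) (h : a * d - b * c ≠ 0) : (mk a b c d h) 0 0 = a := rfl
theorem mk01 (a b c d : ZMod 3) (h : a * d - b * c ≠ 0) : (mk a b c d h) 0 1 = b := rfl
theorem mk10 (a b c d : ZMod 3) (h : a * d - b * c ≠ 0) : (mk a b c d h) 1 0 = c := rfl
theorem mk11 (a b c d : ZMod 3) (h : a * d - b * c ≠ 0) : (mk a b c d h) 1 1 = d := rfl

/-- `SL₂(3)` -/
def S : Subgroup Γ where
  carrier := {g | dt g = 1}
  one_mem' := dt_one
  mul_mem' {a b} ha hb := by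
    change dt (a * b) = 1
    rw [dt_mul, show dt a = 1 from ha, show dt b = 1 from hb, mul_one]
  inv_mem' {a} ha := by
    change dt a⁻¹ = 1
    have h1 := dt_mul a a⁻¹
    rw [mul_inv_cancel, dt_one, show dt a = 1 from ha, one_mul] at h1
    exact h1.symm

theorem mem_S (g : Γ) : g ∈ S ↔ dt g = 1 := Iff.rfl

theorem S_normal : S.Normal := ⟨fun n hn g => by
  rw [mem_S] at hn ⊢
  have h1 := dt_mul g g⁻¹
  rw [mul_inv_cancel, dt_one] at h1
  rw [dt_mul, dt_mul, hn, mul_one, ← h1]⟩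

theorem sq_dec : ∀ t : ZMod 3, t ≠ 0 → t * t = 1 := by decide

theorem dt_or : ∀ t : ZMod 3, t ≠ 0 → t = 1 ∨ t = -1 := by decide

def u : Γ := mk 1 1 0 1 (by decide)
def v : Γ := mk 1 0 1 1 (by decide)
/-- `v⁻¹` -/
def w : Γ := mk 1 0 (-1) 1 (by decide)
def b : Γ := mk 1 0 0 (-1) (by decide)
def z : Γ := mk (-1) 0 0 (-1) (by decide)

/-- simp set for entries -/
theorem wv : w * v = 1 := by
  rw [ext_iff', mul00, mul01, mul10, mul11]; decide

theorem vw : v * w = 1 := by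
  rw [ext_iff', mul00, mul01, mul10, mul11]; decide

theorem uuu : u * u * u = 1 := by
  simp only [ext_iff', mul00, mul01, mul10, mul11]; decide

theorem vvv : v * v * v = 1 := by
  simp only [ext_iff', mul00, mul01, mul10, mul11]; decide

theorem www : w * w * w = 1 := by
  simp only [ext_iff', mul00, mul01, mul10, mul11]; decide

theorem bb : b * b = 1 := by
  rw [ext_iff', mul00, mul01, mul10, mul11]; decide

theorem zz : z * z = 1 := by
  rw [ext_iff', mul00, mul01, mul10, mul11]; decide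

theorem z_ne : z ≠ 1 := by
  rw [Ne, ext_iff']; decide

theorem zcen (g : Γ) : g * z = z * g := by
  rw [ext_iff', mul00, mul01, mul10, mul11, mul00, mul01, mul10, mul11]
  have h1 : z 0 0 = -1 := rfl
  have h2 : z 0 1 = 0 := rfl
  have h3 : z 1 0 = 0 := rfl
  have h4 : z 1 1 = -1 := rfl
  rw [h1, h2, h3, h4]
  refine ⟨by ring, by ring, by ring, by ring⟩

theorem uS : u ∈ S := by rw [mem_S]; decide
theorem vS : v ∈ S := by rw [mem_S]; decide
theorem wS : w ∈ S := by rw [mem_S]; decide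
theorem zS : z ∈ S := by rw [mem_S]; decide
theorem bS : b ∉ S := by rw [mem_S]; decide

theorem braid : u * w * u = w * u * w := by
  simp only [ext_iff', mul00, mul01, mul10, mul11]; decide

theorem u_ne_w : u ≠ w := by
  rw [Ne, ext_iff']; decide

theorem u_ne_one : u ≠ 1 := by
  rw [Ne, ext_iff']; decide

/-- `Γ = S ∪ S b` -/
theorem S_or (g : Γ) : g ∈ S ∨ g * b ∈ S := by
  rcases dt_or _ (dt_ne g) with h | h
  · exact Or.inl h
  · right
    rw [mem_S, dt_mul, h]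
    decide

theorem comm_S (g h : Γ) : g * h * g⁻¹ * h⁻¹ ∈ S := by
  rw [mem_S, dt_mul, dt_mul, dt_mul]
  have h1 := dt_mul g g⁻¹
  have h2 := dt_mul h h⁻¹
  rw [mul_inv_cancel, dt_one] at h1 h2
  calc dt g * dt h * dt g⁻¹ * dt h⁻¹ = (dt g * dt g⁻¹) * (dt h * dt h⁻¹) := by ring
    _ = 1 := by rw [← h1, ← h2, one_mul]

/-- centralizer of `S` -/
theorem cen_dec : ∀ a b c d : ZMod 3, a * d - b * c ≠ 0 →
    (a * 1 + b * 0 = 1 * a + 1 * c ∧ a * 1 + b * 1 = 1 * b + 1 * d ∧ c * 1 + d * 0 = 0 * a + 1 * c ∧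
      c * 1 + d * 1 = 0 * b + 1 * d) →
    (a * 1 + b * 1 = 1 * a + 0 * c ∧ a * 0 + b * 1 = 1 * b + 0 * d ∧ c * 1 + d * 1 = 1 * a + 1 * c ∧
      c * 0 + d * 1 = 1 * b + 1 * d) →
    (a = 1 ∧ b = 0 ∧ c = 0 ∧ d = 1) ∨ (a = -1 ∧ b = 0 ∧ c = 0 ∧ d = -1) := by
  decide +kernel

theorem cen (g : Γ) (hu : g * u = u * g) (hv : g * v = v * g) : g = 1 ∨ g = z := by
  rw [ext_iff', mul00, mul01, mul10, mul11, mul00, mul01, mul10, mul11] at hu hv
  rw [ext_iff', ext_iff']
  exact cen_dec (g 0 0) (g 0 1) (g 1 0) (g 1 1) (dt_ne g) hu hv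

/-- `u ^ t` -/
def uu (t : ZMod 3) : Γ := mk 1 t 0 1 (by simp)
/-- `v ^ t` -/
def vv (t : ZMod 3) : Γ := mk 1 0 t 1 (by simp)

theorem uu_mem (t : ZMod 3) : uu t ∈ Subgroup.closure {u, v} := by
  have h0 : uu 0 = 1 := by rw [ext_iff']; decide
  have h1 : uu 1 = u := rfl
  have h2 : uu 2 = u * u := by rw [ext_iff', mul00, mul01, mul10, mul11]; decide
  have hu : u ∈ Subgroup.closure {u, v} := Subgroup.subset_closure (by simp)
  fin_cases t
  · exact h0 ▸ one_mem _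
  · exact h1 ▸ hu
  · exact h2 ▸ mul_mem hu hu

theorem vv_mem (t : ZMod 3) : vv t ∈ Subgroup.closure {u, v} := by
  have h0 : vv 0 = 1 := by rw [ext_iff']; decide
  have h1 : vv 1 = v := rfl
  have h2 : vv 2 = v * v := by rw [ext_iff', mul00, mul01, mul10, mul11]; decide
  have hu : v ∈ Subgroup.closure {u, v} := Subgroup.subset_closure (by simp)
  fin_cases t
  · exact h0 ▸ one_mem _
  · exact h1 ▸ hu
  · exact h2 ▸ mul_mem hu hu

theorem gen_dec : ∀ a b c d : ZMod 3, a * d - b * c = 1 → ∃ i j k l : ZMod 3,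
    a = (1 + i * j) + ((1 + i * j) * k + i) * l ∧ b = (1 + i * j) * k + i ∧
    c = j + (j * k + 1) * l ∧ d = j * k + 1 := by
  decide +kernel

theorem S_eq : S = Subgroup.closure {u, v} := by
  apply le_antisymm
  · intro g hg
    obtain ⟨i, j, k, l, h1, h2, h3, h4⟩ := gen_dec _ _ _ _ ((mem_S g).1 hg)
    have h5 : g = uu i * vv j * uu k * vv l := by
      simp only [ext_iff', mul00, mul01, mul10, mul11, h1, h2, h3, h4]
      have e : ∀ t, (uu t) 0 0 = 1 ∧ (uu t) 0 1 = t ∧ (uu t) 1 0 = 0 ∧ (uu t) 1 1 = 1 :=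
        fun t => ⟨rfl, rfl, rfl, rfl⟩
      have f : ∀ t, (vv t) 0 0 = 1 ∧ (vv t) 0 1 = 0 ∧ (vv t) 1 0 = t ∧ (vv t) 1 1 = 1 :=
        fun t => ⟨rfl, rfl, rfl, rfl⟩
      simp only [(e _).1, (e _).2.1, (e _).2.2.1, (e _).2.2.2, (f _).1, (f _).2.1, (f _).2.2.1,
        (f _).2.2.2]
      refine ⟨by ring, by ring, by ring, by ring⟩
    rw [h5]
    exact mul_mem (mul_mem (mul_mem (uu_mem i) (vv_mem j)) (uu_mem k)) (vv_mem l)
  · rw [Subgroup.closure_le]
    rintro g (rfl | rfl)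
    · exact uS
    · exact vS

theorem cen_S (g : Γ) (h : ∀ s ∈ S, g * s = s * g) : g = 1 ∨ g = z := cen g (h u uS) (h v vS)

/-- braid relation -/
def BraidP (a b c d e f g h : ZMod 3) : Prop :=
  ((a * e + b * g) * a + (a * f + b * h) * c = (e * a + f * c) * e + (e * b + f * d) * g) ∧
     ((a * e + b * g) * b + (a * f + b * h) * d = (e * a + f * c) * f + (e * b + f * d) * h) ∧
     ((c * e + d * g) * a + (c * f + d * h) * c = (g * a + h * c) * e + (g * b + h * d) * g) ∧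
     ((c * e + d * g) * b + (c * f + d * h) * d = (g * a + h * c) * f + (g * b + h * d) * h)

instance (a b c d e f g h : ZMod 3) : Decidable (BraidP a b c d e f g h) := by
  unfold BraidP; infer_instance

/-- conjugacy of the pair to `(u, w)` -/
def ConjP (a b c d e f g h p q r s : ZMod 3) : Prop :=
  p * s - q * r ≠ 0 ∧
      (p * 1 + q * 0 = a * p + b * r ∧ p * 1 + q * 1 = a * q + b * s ∧
        r * 1 + s * 0 = c * p + d * r ∧ r * 1 + s * 1 = c * q + d * s) ∧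
      (p * 1 + q * (-1) = e * p + f * r ∧ p * 0 + q * 1 = e * q + f * s ∧
        r * 1 + s * (-1) = g * p + h * r ∧ r * 0 + s * 1 = g * q + h * s)

instance (a b c d e f g h p q r s : ZMod 3) : Decidable (ConjP a b c d e f g h p q r s) := by
  unfold ConjP; infer_instance

/-- existence of a conjugating element -/
def ExP (a b c d e f g h : ZMod 3) : Prop := ∃ p q r s : ZMod 3, ConjP a b c d e f g h p q r s

instance (a b c d e f g h : ZMod 3) : Decidable (ExP a b c d e f g h) := by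
  unfold ExP; infer_instance

/-- the inner statement -/
def InnerP (a b c d : ZMod 3) : Prop :=
  ∀ e f g h : ZMod 3, e * h - f * g = 1 → e + h = 2 → BraidP a b c d e f g h →
    ¬ (a = e ∧ b = f ∧ c = g ∧ d = h) → ExP a b c d e f g h

instance (a b c d : ZMod 3) : Decidable (InnerP a b c d) := by
  unfold InnerP; infer_instance

/-- combinatorial form of `Aut(SL₂(3)) = PGL₂(3)` -/
theorem aut_dec : ∀ a b c d : ZMod 3, a * d - b * c = 1 → a + d = 2 →
    ¬ (a = 1 ∧ b = 0 ∧ c = 0 ∧ d = 1) → InnerP a b c d := by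
  decide +kernel

theorem cube_dec : ∀ a b c d : ZMod 3, a * d - b * c = 1 →
    ((a * a + b * c) * a + (a * b + b * d) * c = 1 ∧ (a * a + b * c) * b + (a * b + b * d) * d = 0 ∧
     (c * a + d * c) * a + (c * b + d * d) * c = 0 ∧ (c * a + d * c) * b + (c * b + d * d) * d = 1) →
    a + d = 2 := by
  decide +kernel

theorem trace_of_cube (g : Γ) (hg : g ∈ S) (h : g * g * g = 1) : g 0 0 + g 1 1 = 2 := by
  simp only [ext_iff', mul00, mul01, mul10, mul11] at h
  exact cube_dec _ _ _ _ ((mem_S g).1 hg) h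

theorem aut_pair (U W : Γ) (hU : U ∈ S) (hW : W ∈ S) (hU3 : U * U * U = 1) (hW3 : W * W * W = 1)
    (hb : U * W * U = W * U * W) (hne : U ≠ W) (h1 : U ≠ 1) :
    ∃ g : Γ, g * u = U * g ∧ g * w = W * g := by
  have hb' := hb
  simp only [ext_iff', mul00, mul01, mul10, mul11] at hb'
  rw [Ne, ext_iff'] at hne h1
  obtain ⟨p, q, r, s, h2, h3, h4⟩ := aut_dec _ _ _ _ ((mem_S U).1 hU) (trace_of_cube U hU hU3)
    h1 _ _ _ _ ((mem_S W).1 hW) (trace_of_cube W hW hW3) hb' hne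
  refine ⟨mk p q r s h2, ?_, ?_⟩
  · rw [ext_iff', mul00, mul01, mul10, mul11, mul00, mul01, mul10, mul11]
    exact h3
  · rw [ext_iff', mul00, mul01, mul10, mul11, mul00, mul01, mul10, mul11]
    exact h4

/-- Every automorphism of `SL₂(3)` is induced by an element of `GL₂(3)`. -/
theorem aut (φ : MulAut S) : ∃ g : Γ, ∀ s : S, ((φ s : S) : Γ) = g * s * g⁻¹ := by
  let us : S := ⟨u, uS⟩
  let ws : S := ⟨w, wS⟩
  have e1 : ((φ us : S) : Γ) * (φ us : S) * (φ us : S) = 1 := by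
    have h1 : us * us * us = 1 := Subtype.ext uuu
    have h2 := congrArg φ h1
    rw [map_mul, map_mul, map_one] at h2
    exact congrArg Subtype.val h2
  have e2 : ((φ ws : S) : Γ) * (φ ws : S) * (φ ws : S) = 1 := by
    have h1 : ws * ws * ws = 1 := Subtype.ext www
    have h2 := congrArg φ h1
    rw [map_mul, map_mul, map_one] at h2
    exact congrArg Subtype.val h2
  have e3 : ((φ us : S) : Γ) * (φ ws : S) * (φ us : S) = (φ ws : S) * (φ us : S) * (φ ws : S) := by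
    have h1 : us * ws * us = ws * us * ws := Subtype.ext braid
    have h2 := congrArg φ h1
    rw [map_mul, map_mul, map_mul, map_mul] at h2
    exact congrArg Subtype.val h2
  obtain ⟨g, hg1, hg2⟩ := aut_pair _ _ (φ us).2 (φ ws).2 e1 e2 e3
    (fun h => u_ne_w (congrArg Subtype.val (φ.injective (Subtype.ext h))))
    (fun h => u_ne_one (congrArg Subtype.val (φ.injective
      ((Subtype.ext h : φ us = 1).trans (map_one φ).symm))))
  refine ⟨g, ?_⟩
  -- the two homomorphisms agree on the generators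
  have key : ∀ s ∈ Subgroup.closure ({u, v} : Set Γ), ∃ hs : s ∈ S, ((φ ⟨s, hs⟩ : S) : Γ) = g * s * g⁻¹ := by
    intro s hs
    refine Subgroup.closure_induction (p := fun s _ => ∃ hs : s ∈ S, ((φ ⟨s, hs⟩ : S) : Γ) = g * s * g⁻¹)
      ?_ ?_ ?_ ?_ hs
    · rintro s (rfl | rfl)
      · exact ⟨uS, by rw [hg1]; group; rfl⟩
      · refine ⟨vS, ?_⟩
        have h1 : (⟨v, vS⟩ : S) = ws⁻¹ := by
          apply Subtype.ext
          change v = w⁻¹
          rw [eq_inv_iff_mul_eq_one]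
          exact vw
        rw [h1, map_inv]
        have h2 : ((φ ws : S) : Γ) = g * w * g⁻¹ := by rw [hg2]; group
        have h3 : v = w⁻¹ := by rw [eq_inv_iff_mul_eq_one]; exact vw
        change ((φ ws : S) : Γ)⁻¹ = _
        rw [h2, h3]
        group
    · exact ⟨S.one_mem, by
        have : (⟨1, S.one_mem⟩ : S) = 1 := rfl
        rw [this, map_one]; simp⟩
    · rintro s t _ _ ⟨hs, es⟩ ⟨ht, et⟩
      refine ⟨S.mul_mem hs ht, ?_⟩
      have : (⟨s * t, S.mul_mem hs ht⟩ : S) = ⟨s, hs⟩ * ⟨t, ht⟩ := rfl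
      rw [this, map_mul, Subgroup.coe_mul, es, et]
      group
    · rintro s _ ⟨hs, es⟩
      refine ⟨S.inv_mem hs, ?_⟩
      have : (⟨s⁻¹, S.inv_mem hs⟩ : S) = ⟨s, hs⟩⁻¹ := rfl
      rw [this, map_inv, Subgroup.coe_inv, es]
      group
  intro s
  obtain ⟨_, h⟩ := key s (by rw [← S_eq]; exact s.2)
  exact h

/-! ### the quaternion subgroup -/

/-- entries of elements of `Y` -/
def YP (a b c d : ZMod 3) : Prop :=
  a * d - b * c = 1 ∧ ((a = 1 ∧ b = 0 ∧ c = 0 ∧ d = 1) ∨ (a = -1 ∧ b = 0 ∧ c = 0 ∧ d = -1) ∨ a + d = 0)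

instance (a b c d : ZMod 3) : Decidable (YP a b c d) := by unfold YP; infer_instance

theorem YP_mul : ∀ a b c d : ZMod 3, YP a b c d → ∀ e f g h : ZMod 3, YP e f g h →
    YP (a * e + b * g) (a * f + b * h) (c * e + d * g) (c * f + d * h) := by
  decide +kernel

/-- the quaternion subgroup of `SL₂(3)` -/
def Y : Subgroup Γ where
  carrier := {g | YP (g 0 0) (g 0 1) (g 1 0) (g 1 1)}
  one_mem' := by
    change YP ((1 : Γ) 0 0) ((1 : Γ) 0 1) ((1 : Γ) 1 0) ((1 : Γ) 1 1)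
    rw [one00, one01, one10, one11]; decide
  mul_mem' {a b} ha hb := by
    change YP ((a * b) 0 0) ((a * b) 0 1) ((a * b) 1 0) ((a * b) 1 1)
    rw [mul00, mul01, mul10, mul11]
    exact YP_mul _ _ _ _ ha _ _ _ _ hb
  inv_mem' {a} ha := by
    -- the inverse is a power
    have h1 : ∀ n : ℕ, YP ((a ^ n : Γ) 0 0) ((a ^ n : Γ) 0 1) ((a ^ n : Γ) 1 0) ((a ^ n : Γ) 1 1) := by
      intro n
      induction n with
      | zero =>
        rw [pow_zero, one00, one01, one10, one11]; decide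
      | succ n ih =>
        rw [pow_succ, mul00, mul01, mul10, mul11]
        exact YP_mul _ _ _ _ ih _ _ _ _ ha
    have h2 : a⁻¹ = a ^ (orderOf a - 1) := by
      rw [inv_eq_iff_mul_eq_one, ← pow_succ', Nat.sub_add_cancel (orderOf_pos a), pow_orderOf_eq_one]
    change YP (a⁻¹ 0 0) (a⁻¹ 0 1) (a⁻¹ 1 0) (a⁻¹ 1 1)
    rw [h2]
    exact h1 _

theorem mem_Y (g : Γ) : g ∈ Y ↔ YP (g 0 0) (g 0 1) (g 1 0) (g 1 1) := Iff.rfl

theorem Y_le : Y ≤ S := fun _ hg => hg.1

theorem zY : z ∈ Y := by rw [mem_Y]; decide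

theorem Ysq_dec : ∀ a b c d : ZMod 3, YP a b c d →
    (a * a + b * c = 1 ∧ a * b + b * d = 0 ∧ c * a + d * c = 0 ∧ c * b + d * d = 1) ∨
    (a * a + b * c = -1 ∧ a * b + b * d = 0 ∧ c * a + d * c = 0 ∧ c * b + d * d = -1) := by
  decide +kernel

theorem Ysq (y : Γ) (hy : y ∈ Y) : y * y = 1 ∨ y * y = z := by
  rw [ext_iff', ext_iff', mul00, mul01, mul10, mul11]
  exact Ysq_dec _ _ _ _ hy

theorem Yinv_dec : ∀ a b c d : ZMod 3, YP a b c d →
    (a * a + b * c = 1 ∧ a * b + b * d = 0 ∧ c * a + d * c = 0 ∧ c * b + d * d = 1) →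
    (a = 1 ∧ b = 0 ∧ c = 0 ∧ d = 1) ∨ (a = -1 ∧ b = 0 ∧ c = 0 ∧ d = -1) := by
  decide +kernel

theorem Yinv (y : Γ) (hy : y ∈ Y) (h : y * y = 1) : y = 1 ∨ y = z := by
  rw [ext_iff', mul00, mul01, mul10, mul11] at h
  rw [ext_iff', ext_iff']
  exact Yinv_dec _ _ _ _ hy h

theorem cubeY_dec : ∀ a b c d : ZMod 3, a * d - b * c = 1 →
    YP ((a * a + b * c) * a + (a * b + b * d) * c) ((a * a + b * c) * b + (a * b + b * d) * d)
     ((c * a + d * c) * a + (c * b + d * d) * c) ((c * a + d * c) * b + (c * b + d * d) * d) := by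
  decide +kernel

theorem cubeY (g : Γ) (hg : g ∈ S) : g * g * g ∈ Y := by
  rw [mem_Y]
  simp only [mul00, mul01, mul10, mul11]
  exact cubeY_dec (g 0 0) (g 0 1) (g 1 0) (g 1 1) ((mem_S g).1 hg)

/-- `2`-elements of `SL₂(3)` are in `Y`. -/
theorem mem_Y_of_pow (g : Γ) (hg : g ∈ S) {n : ℕ} (hn : g ^ 2 ^ n = 1) : g ∈ Y := by
  have h3 : g ^ 3 ∈ Y := by
    have := cubeY g hg
    rwa [pow_succ, pow_two]
  have hc : (2 ^ n).Coprime 3 := Nat.Coprime.pow_left n (by norm_num)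
  have h1 := Nat.gcd_eq_gcd_ab (2 ^ n) 3
  rw [hc] at h1
  have h2 : g = (g ^ 2 ^ n) ^ Nat.gcdA (2 ^ n) 3 * (g ^ 3) ^ Nat.gcdB (2 ^ n) 3 := by
    rw [← zpow_natCast g (2 ^ n), ← zpow_natCast g 3, ← zpow_mul, ← zpow_mul, ← zpow_add]
    have h4 : ((2 ^ n : ℕ) : ℤ) * Nat.gcdA (2 ^ n) 3 + ((3 : ℕ) : ℤ) * Nat.gcdB (2 ^ n) 3 = 1 := by
      rw [← h1]; rfl
    rw [h4, zpow_one]
  rw [h2, hn, one_zpow, one_mul]
  exact Y.zpow_mem h3 _

/-- conjugacy in `Y` under `S` -/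
def CP (a b c d e f g h : ZMod 3) : Prop :=
  ∃ p q r s : ZMod 3, p * s - q * r = 1 ∧ p * a + q * c = e * p + f * r ∧ p * b + q * d = e * q + f * s ∧
    r * a + s * c = g * p + h * r ∧ r * b + s * d = g * q + h * s

instance (a b c d e f g h : ZMod 3) : Decidable (CP a b c d e f g h) := by unfold CP; infer_instance

/-- the inner statement -/
def CIP (a b c d : ZMod 3) : Prop := ∀ e f g h : ZMod 3, YP e f g h →
    ¬ (e = 1 ∧ f = 0 ∧ g = 0 ∧ h = 1) → ¬ (e = -1 ∧ f = 0 ∧ g = 0 ∧ h = -1) → CP a b c d e f g h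

instance (a b c d : ZMod 3) : Decidable (CIP a b c d) := by unfold CIP; infer_instance

theorem Yconj_dec : ∀ a b c d : ZMod 3, YP a b c d → ¬ (a = 1 ∧ b = 0 ∧ c = 0 ∧ d = 1) →
    ¬ (a = -1 ∧ b = 0 ∧ c = 0 ∧ d = -1) → CIP a b c d := by
  decide +kernel

theorem Yconj (n y : Γ) (hn : n ∈ Y) (hy : y ∈ Y) (hn1 : n ≠ 1) (hnz : n ≠ z) (hy1 : y ≠ 1)
    (hyz : y ≠ z) : ∃ s ∈ S, s * n = y * s := by
  rw [Ne, ext_iff'] at hn1 hnz hy1 hyz
  obtain ⟨p, q, r, s, h0, h1, h2, h3, h4⟩ := Yconj_dec _ _ _ _ hn hn1 hnz _ _ _ _ hy hy1 hyz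
  have h5 : p * s - q * r ≠ 0 := by rw [h0]; decide
  refine ⟨mk p q r s h5, h0, ?_⟩
  rw [ext_iff', mul00, mul01, mul10, mul11, mul00, mul01, mul10, mul11]
  exact ⟨h1, h2, h3, h4⟩

/-- `(p q; r s) (a b; c d) (s -q; -r p)` does not commute with `(a b; c d)` -/
def NP (a b c d p q r s : ZMod 3) : Prop :=
  p * s - q * r = 1 ∧
  ¬ ((a * ((p * a + q * c) * s - (p * b + q * d) * r) + b * ((r * a + s * c) * s - (r * b + s * d) * r) =
      ((p * a + q * c) * s - (p * b + q * d) * r) * a + (-(p * a + q * c) * q + (p * b + q * d) * p) * c) ∧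
     (a * (-(p * a + q * c) * q + (p * b + q * d) * p) + b * (-(r * a + s * c) * q + (r * b + s * d) * p) =
      ((p * a + q * c) * s - (p * b + q * d) * r) * b + (-(p * a + q * c) * q + (p * b + q * d) * p) * d) ∧
     (c * ((p * a + q * c) * s - (p * b + q * d) * r) + d * ((r * a + s * c) * s - (r * b + s * d) * r) =
      ((r * a + s * c) * s - (r * b + s * d) * r) * a + (-(r * a + s * c) * q + (r * b + s * d) * p) * c) ∧
     (c * (-(p * a + q * c) * q + (p * b + q * d) * p) + d * (-(r * a + s * c) * q + (r * b + s * d) * p) =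
      ((r * a + s * c) * s - (r * b + s * d) * r) * b + (-(r * a + s * c) * q + (r * b + s * d) * p) * d))

instance (a b c d e f g h : ZMod 3) : Decidable (NP a b c d e f g h) := by unfold NP; infer_instance

/-- the inner statement -/
def NIP (a b c d : ZMod 3) : Prop := ∃ p q r s : ZMod 3, NP a b c d p q r s

instance (a b c d : ZMod 3) : Decidable (NIP a b c d) := by unfold NIP; infer_instance

theorem NP_dec : ∀ a b c d : ZMod 3, a * d - b * c ≠ 0 → ¬ (a = 1 ∧ b = 0 ∧ c = 0 ∧ d = 1) →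
    ¬ (a = -1 ∧ b = 0 ∧ c = 0 ∧ d = -1) → NIP a b c d := by
  decide +kernel

/-- an element of `Γ` commuting with its conjugates under `S` is central -/
theorem eq_of_comm_conj (a : Γ) (h : ∀ s ∈ S, a * (s * a * s⁻¹) = (s * a * s⁻¹) * a) :
    a = 1 ∨ a = z := by
  by_contra hcon
  push Not at hcon
  obtain ⟨h1, h2⟩ := hcon
  rw [Ne, ext_iff'] at h1 h2
  obtain ⟨p, q, r, s, h3, h4⟩ := NP_dec _ _ _ _ (dt_ne a) h1 h2
  have h5 : p * s - q * r ≠ 0 := by rw [h3]; decide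
  have h6 : s * p - (-q) * (-r) ≠ 0 := by
    intro h; apply h5; rw [← h]; ring
  have hinv : (mk p q r s h5)⁻¹ = mk s (-q) (-r) p h6 := by
    rw [inv_eq_iff_mul_eq_one, ext_iff', mul00, mul01, mul10, mul11]
    simp only [mk00, mk01, mk10, mk11, one00, one01, one10, one11]
    refine ⟨by rw [← h3]; ring, by ring, by ring, by rw [← h3]; ring⟩
  have h7 := h (mk p q r s h5) h3
  rw [hinv] at h7
  apply h4
  rw [ext_iff'] at h7
  simp only [mul00, mul01, mul10, mul11, mk00, mk01, mk10, mk11] at h7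
  obtain ⟨e1, e2, e3, e4⟩ := h7
  refine ⟨?_, ?_, ?_, ?_⟩
  · linear_combination e1
  · linear_combination e2
  · linear_combination e3
  · linear_combination e4

/-- `b` does not normalise... : `b` is conjugate to a noncentral element under `Y` outside its coset; a
subgroup `N` normalised by `Γ` and containing `b` contains `u` -/
theorem card_Y : Nat.card Y = 8 := by
  let T := {t : ZMod 3 × ZMod 3 × ZMod 3 × ZMod 3 // YP t.1 t.2.1 t.2.2.1 t.2.2.2}
  have e : Y ≃ T :=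
    { toFun := fun g => ⟨(g.1 0 0, g.1 0 1, g.1 1 0, g.1 1 1), g.2⟩
      invFun := fun t => ⟨mk t.1.1 t.1.2.1 t.1.2.2.1 t.1.2.2.2 (by rw [t.2.1]; decide), t.2⟩
      left_inv := fun g => by
        apply Subtype.ext
        rw [ext_iff']
        exact ⟨rfl, rfl, rfl, rfl⟩
      right_inv := fun t => rfl }
  rw [Nat.card_congr e, Nat.card_eq_fintype_card]
  decide +kernel

end Cfsg.Agent.GH.L3.GLThree
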