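import Mathlib
import Cfsg.Agent.TwoFusion.SectionalRank

/-!
# GH-L3, case B: the local group `H = C(z)/O(C(z))` (blueprint: bb GH #6717, helper478)

* `exists_hom`: a subgroup containing all squares and missing `x` gives a sign homomorphism, `-1` on `x`.
* `Loc z x R Y`: the setting.
* `Loc.abelian`: a normal abelian 2-subgroup of `H` is contained in `{1, z}` or is `{1, z, c, cz}`, `c² = z`.
-/

set_option autoImplicit false

namespace Cfsg.Agent.GH.L3.LocBase

open Subgroup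

section squares

variable {H : Type*} [Group H]

theorem normal_of_sq (N : Subgroup H) (hN : ∀ h : H, h * h ∈ N) : N.Normal := by
  constructor
  intro n hn g
  have h1 : g * n * g⁻¹ = (g * n) * (g * n) * (n⁻¹ * (g⁻¹ * g⁻¹)) := by group
  rw [h1]
  exact N.mul_mem (hN _) (N.mul_mem (N.inv_mem hn) (hN _))

theorem exists_hom [Finite H] (N : Subgroup H) (hN : ∀ h : H, h * h ∈ N) (x : H) (hx : x ∉ N) :
    ∃ f : H →* ℤˣ, f x = -1 := by
  classical
  obtain ⟨M, hM⟩ := (Set.toFinite {M : Subgroup H | N ≤ M ∧ x ∉ M}).exists_maximal ⟨N, le_rfl, hx⟩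
  have hNM : N ≤ M := hM.prop.1
  have hxM : x ∉ M := hM.prop.2
  have hsq : ∀ h : H, h * h ∈ M := fun h => hNM (hN h)
  have hMn : M.Normal := normal_of_sq M hsq
  have key : ∀ b : H, b ∉ M → b * x ∈ M := by
    intro b hb
    have h1 : x ∈ M ⊔ zpowers b := by
      by_contra hcon
      have h2 : M ⊔ zpowers b ≤ M := hM.le_of_ge (y := M ⊔ zpowers b)
        ⟨le_trans hNM le_sup_left, hcon⟩ le_sup_left
      exact hb (h2 (mem_sup_right (mem_zpowers b)))
    obtain ⟨m, hm, c, hc, hmc⟩ := (mem_sup_of_normal_left).1 h1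
    obtain ⟨k, rfl⟩ := mem_zpowers_iff.1 hc
    have hbk : ∀ j : ℤ, b ^ (j + j) ∈ M := by
      intro j
      rw [zpow_add]
      exact hsq _
    rcases Int.even_or_odd k with ⟨j, hj⟩ | ⟨j, hj⟩
    · exfalso
      apply hxM
      rw [← hmc]
      refine M.mul_mem hm ?_
      rw [hj]
      exact hbk j
    · have h3 : b * (m * b ^ k) = (b * m * b⁻¹) * b ^ ((j + 1) + (j + 1)) := by
        have : b ^ ((j + 1) + (j + 1)) = b * b ^ k := by
          rw [hj, ← zpow_one_add]
          congr 1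
          ring
        rw [this]
        group
      rw [← hmc, h3]
      exact M.mul_mem (hMn.conj_mem m hm b) (hbk _)
  refine ⟨{ toFun := fun g => if g ∈ M then 1 else -1, map_one' := by simp [M.one_mem], map_mul' := ?_ }, ?_⟩
  · intro a b
    by_cases ha : a ∈ M <;> by_cases hb : b ∈ M
    · simp [ha, hb, M.mul_mem ha hb]
    · have : a * b ∉ M := fun h => hb ((M.mul_mem_cancel_left ha).1 h)
      simp [ha, hb, this]
    · have : a * b ∉ M := fun h => ha ((M.mul_mem_cancel_right hb).1 h)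
      simp [ha, hb, this]
    · have h1 := key a ha
      have h2 := key b hb
      have h3 : a * b ∈ M := by
        have h4 : a * b = (a * x) * ((x⁻¹ * (b * x) * x⁻¹⁻¹) * (x⁻¹ * x⁻¹)) := by
          group
        rw [h4]
        exact M.mul_mem h1 (M.mul_mem (hMn.conj_mem _ h2 x⁻¹) (hsq _))
      simp [ha, hb, h3]
  · show (if x ∈ M then (1 : ℤˣ) else -1) = -1
    rw [if_neg hxM]

end squares

/-- the setting: `H = C_G(z)/O(C_G(z))`, `R = O₂(H)`, `C_H(R) ≤ R`, `x` an involution in the kernel of every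
homomorphism `H → {±1}`, `Y ≤ R` quaternion of order 8 centralised by `x`. -/
structure Loc {H : Type*} [Group H] (z x : H) (R Y : Subgroup H) : Prop where
  zc : ∀ h : H, z * h = h * z
  z1 : z ≠ 1
  z2 : z * z = 1
  x1 : x ≠ 1
  xz : x ≠ z
  x2 : x * x = 1
  Rn : R.Normal
  R2 : IsPGroup 2 R
  Rc : ∀ h : H, (∀ r ∈ R, h * r = r * h) → h ∈ R
  Rm : ∀ N : Subgroup H, N.Normal → IsPGroup 2 N → N ≤ R
  star : ∀ f : H →* ℤˣ, f x = 1
  conj : ∃ s : H, s * x * s⁻¹ = x * z
  nn : ∃ h : H, h * x * h⁻¹ ≠ x ∧ h * x * h⁻¹ ≠ x * z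
  YR : Y ≤ R
  Ycard : Nat.card Y = 8
  zY : z ∈ Y
  Ysq : ∀ y ∈ Y, y * y = 1 ∨ y * y = z
  Yinv : ∀ y ∈ Y, y * y = 1 → y = 1 ∨ y = z
  xY : ∀ y ∈ Y, x * y = y * x
  rank : ∀ A B : Subgroup H, A ≤ R → Cfsg.Agent.TwoFusion.SectionalRank.ElemSection 2 A B →
    Nat.card A ≤ 2 ^ 4 * Nat.card B
  inv : ∀ A : Subgroup H, A.Normal → IsPGroup 2 A → (∀ a ∈ A, ∀ b ∈ A, a * b = b * a) →
    ∀ e ∈ A, e * x = x * e → e * e = 1 → e = 1 ∨ e = z ∨ e = x ∨ e = x * z
  four : ∀ A : Subgroup H, A.Normal → IsPGroup 2 A → (∀ a ∈ A, ∀ b ∈ A, a * b = b * a) →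
    ∀ d ∈ A, d * x = x * d → (d * d) * (d * d) ≠ z
  comY : ∀ A : Subgroup H, A.Normal → IsPGroup 2 A → (∀ a ∈ A, ∀ b ∈ A, a * b = b * a) →
    ∀ d ∈ A, d * x = x * d → ∀ y ∈ Y, d * y = y * d

variable {H : Type*} [Group H] {z x : H} {R Y : Subgroup H}

namespace Loc

theorem false_of_sq [Finite H] (L : Loc z x R Y) (N : Subgroup H) (hN : ∀ h : H, h * h ∈ N)
    (hx : x ∉ N) : False := by
  obtain ⟨f, hf⟩ := exists_hom N hN x hx
  rw [L.star f] at hf
  exact absurd hf (by decide)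

/-- if every conjugate of `v` is `v` or `v z`, then `x` commutes with `v`. -/
theorem comm_of_two [Finite H] (L : Loc z x R Y) {v : H} (hv : ∀ h : H, h * v * h⁻¹ = v ∨ h * v * h⁻¹ = v * z) :
    x * v = v * x := by
  by_contra hcon
  refine L.false_of_sq (centralizer {v}) ?_ ?_
  · intro h
    rw [mem_centralizer_singleton_iff]
    have h1 : h * h * v * (h * h)⁻¹ = h * (h * v * h⁻¹) * h⁻¹ := by group
    have h2 : h * h * v * (h * h)⁻¹ = v := by
      rw [h1]
      rcases hv h with h3 | h3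
      · rw [h3, h3]
      · rw [h3]
        have : h * (v * z) * h⁻¹ = (h * v * h⁻¹) * z := by
          calc h * (v * z) * h⁻¹ = h * v * (z * h⁻¹) := by group
            _ = (h * v * h⁻¹) * z := by rw [L.zc]; group
        rw [this, h3, mul_assoc, L.z2, mul_one]
    exact mul_inv_eq_iff_eq_mul.1 h2
  · rw [mem_centralizer_singleton_iff]
    exact hcon

theorem conj_inv_eq (L : Loc z x R Y) {h e : H} (hh : x * e * x⁻¹ = h) : x * h * x⁻¹ = e := by
  rw [← hh]
  have : x⁻¹ = x := inv_eq_of_mul_eq_one_left L.x2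
  rw [this]
  calc x * (x * e * x) * x = (x * x) * e * (x * x) := by group
    _ = e := by rw [L.x2]; group

/-- normal abelian 2-subgroups -/
structure Ab (A : Subgroup H) : Prop where
  n : A.Normal
  p : IsPGroup 2 A
  c : ∀ a ∈ A, ∀ b ∈ A, a * b = b * a

variable {A : Subgroup H}

theorem conj_z (L : Loc z x R Y) (h : H) : h * z * h⁻¹ = z := by
  rw [← L.zc h]; group

theorem zmul (L : Loc z x R Y) (h a : H) : h * (a * z) * h⁻¹ = h * a * h⁻¹ * z := by
  calc h * (a * z) * h⁻¹ = h * a * (z * h⁻¹) := by group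
    _ = h * a * h⁻¹ * z := by rw [L.zc]; group

/-- for `e ∈ A` with `e² = 1`, `e · xex⁻¹` is centralised by `x` -/
theorem prod_comm (L : Loc z x R Y) (hA : Ab A) {e : H} (he : e ∈ A) :
    (e * (x * e * x⁻¹)) * x = x * (e * (x * e * x⁻¹)) := by
  have h1 : x * e * x⁻¹ ∈ A := hA.n.conj_mem e he x
  have h2 : x * (x * e * x⁻¹) * x⁻¹ = e := conj_inv_eq L rfl
  have h3 : x * (e * (x * e * x⁻¹)) * x⁻¹ = e * (x * e * x⁻¹) := by
    calc x * (e * (x * e * x⁻¹)) * x⁻¹ = (x * e * x⁻¹) * (x * (x * e * x⁻¹) * x⁻¹) := by group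
      _ = (x * e * x⁻¹) * e := by rw [h2]
      _ = e * (x * e * x⁻¹) := hA.c _ h1 _ he
  exact (mul_inv_eq_iff_eq_mul.1 h3).symm

theorem prod_sq (L : Loc z x R Y) (hA : Ab A) {e : H} (he : e ∈ A) (he2 : e * e = 1) :
    (e * (x * e * x⁻¹)) * (e * (x * e * x⁻¹)) = 1 := by
  have h1 : x * e * x⁻¹ ∈ A := hA.n.conj_mem e he x
  have h4 : (x * e * x⁻¹) * (x * e * x⁻¹) = 1 := by
    calc (x * e * x⁻¹) * (x * e * x⁻¹) = x * (e * e) * x⁻¹ := by group
      _ = 1 := by rw [he2]; group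
  calc (e * (x * e * x⁻¹)) * (e * (x * e * x⁻¹))
      = e * ((x * e * x⁻¹) * e) * (x * e * x⁻¹) := by group
    _ = e * (e * (x * e * x⁻¹)) * (x * e * x⁻¹) := by rw [hA.c _ h1 _ he]
    _ = (e * e) * ((x * e * x⁻¹) * (x * e * x⁻¹)) := by group
    _ = 1 := by rw [he2, h4, one_mul]

theorem exists_fixed (L : Loc z x R Y) (hA : Ab A) {e : H} (he : e ∈ A) (he2 : e * e = 1) (he1 : e ≠ 1) :
    ∃ f ∈ A, f ≠ 1 ∧ f * f = 1 ∧ f * x = x * f := by
  have h1 : x * e * x⁻¹ ∈ A := hA.n.conj_mem e he x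
  by_cases hcase : e * (x * e * x⁻¹) = 1
  · refine ⟨e, he, he1, he2, ?_⟩
    have h5 : x * e * x⁻¹ = e := by
      have h6 : x * e * x⁻¹ = e⁻¹ := eq_inv_of_mul_eq_one_right hcase
      rw [h6]
      exact inv_eq_of_mul_eq_one_left he2
    exact (mul_inv_eq_iff_eq_mul.1 h5).symm
  · exact ⟨_, A.mul_mem he h1, hcase, prod_sq L hA he he2, prod_comm L hA he⟩

theorem exists_sq_one [Finite H] (hA : Ab A) (hA1 : A ≠ ⊥) : ∃ e ∈ A, e * e = 1 ∧ e ≠ 1 := by
  obtain ⟨a, ha, ha1⟩ := (A.bot_or_exists_ne_one).resolve_left hA1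
  obtain ⟨n, hn⟩ := hA.p ⟨a, ha⟩
  have hn' : a ^ 2 ^ n = 1 := by simpa using congrArg Subtype.val hn
  classical
  have hex : ∃ n : ℕ, a ^ 2 ^ n = 1 := ⟨n, hn'⟩
  obtain ⟨m, hm, hmin⟩ := Nat.findX hex
  match m, hm, hmin with
  | 0, hm, _ => exact absurd (by simpa using hm) ha1
  | m + 1, hm, hmin =>
    refine ⟨a ^ 2 ^ m, A.pow_mem ha _, ?_, hmin m (Nat.lt_succ_self m)⟩
    rw [← pow_add, ← two_mul, ← pow_succ']
    exact hm

theorem z_mem [Finite H] (L : Loc z x R Y) (hA : Ab A) (hA1 : A ≠ ⊥) : z ∈ A := by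
  obtain ⟨e, he, he2, he1⟩ := exists_sq_one hA hA1
  obtain ⟨f, hf, hf1, hf2, hfx⟩ := exists_fixed L hA he he2 he1
  obtain ⟨s, hs⟩ := L.conj
  rcases L.inv A hA.n hA.p hA.c f hf hfx hf2 with h | h | h | h
  · exact absurd h hf1
  · exact h ▸ hf
  · subst h
    have h1 : f * z ∈ A := hs ▸ hA.n.conj_mem f hf s
    exact (A.mul_mem_cancel_left hf).1 h1
  · have h1 : s⁻¹ * (x * z) * s⁻¹⁻¹ ∈ A := hA.n.conj_mem _ (h ▸ hf) s⁻¹
    have h2 : s⁻¹ * (x * z) * s⁻¹⁻¹ = x := by
      rw [← hs]; group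
    rw [h2] at h1
    exact (A.mul_mem_cancel_left h1).1 (h ▸ hf)

theorem x_not_mem [Finite H] (L : Loc z x R Y) (hA : Ab A) : x ∉ A := by
  intro hx
  obtain ⟨h, h1, h2⟩ := L.nn
  have h3 : h * x * h⁻¹ ∈ A := hA.n.conj_mem x hx h
  have h4 : (h * x * h⁻¹) * (h * x * h⁻¹) = 1 := by
    calc (h * x * h⁻¹) * (h * x * h⁻¹) = h * (x * x) * h⁻¹ := by group
      _ = 1 := by rw [L.x2]; group
  rcases L.inv A hA.n hA.p hA.c _ h3 (hA.c _ h3 _ hx) h4 with h5 | h5 | h5 | h5
  · exact L.x1 (by simpa using h5)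
  · apply L.xz
    have : x = h⁻¹ * z * h := by rw [← h5]; group
    rw [this, mul_assoc, L.zc]; group
  · exact h1 h5
  · exact h2 h5

theorem xz_not_mem [Finite H] (L : Loc z x R Y) (hA : Ab A) : x * z ∉ A := by
  intro hx
  have h0 : A ≠ ⊥ := by
    rintro rfl
    have h1 : x * z = 1 := by simpa using hx
    exact L.xz (by rw [eq_inv_of_mul_eq_one_left h1]; exact inv_eq_of_mul_eq_one_left L.z2)
  exact x_not_mem L hA ((A.mul_mem_cancel_right (z_mem L hA h0)).1 hx)

theorem inv_comm [Finite H] (L : Loc z x R Y) (hA : Ab A) {e : H} (he : e ∈ A) (hex : e * x = x * e)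
    (he2 : e * e = 1) : e = 1 ∨ e = z := by
  rcases L.inv A hA.n hA.p hA.c _ he hex he2 with h | h | h | h
  · exact Or.inl h
  · exact Or.inr h
  · exact absurd (h ▸ he) (x_not_mem L hA)
  · exact absurd (h ▸ he) (xz_not_mem L hA)

/-- the involutions of `A` -/
theorem sq_one [Finite H] (L : Loc z x R Y) (hA : Ab A) {e : H} (he : e ∈ A) (he2 : e * e = 1) :
    e = 1 ∨ e = z := by
  by_contra hcon
  have key : ∀ g ∈ A, g * g = 1 → g * x ≠ x * g → x * g * x⁻¹ = g * z := by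
    intro g hg hg2 hgx
    have h1 : x * g * x⁻¹ ∈ A := hA.n.conj_mem g hg x
    rcases inv_comm L hA (A.mul_mem hg h1) (prod_comm L hA hg) (prod_sq L hA hg hg2) with h | h
    · exfalso
      apply hgx
      have h6 : x * g * x⁻¹ = g := by
        rw [eq_inv_of_mul_eq_one_right h]
        exact inv_eq_of_mul_eq_one_left hg2
      exact (mul_inv_eq_iff_eq_mul.1 h6).symm
    · have h7 : g⁻¹ = g := inv_eq_of_mul_eq_one_left hg2
      calc x * g * x⁻¹ = g⁻¹ * (g * (x * g * x⁻¹)) := by group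
        _ = g * z := by rw [h, h7]
  have hex : e * x ≠ x * e := fun h => hcon (inv_comm L hA he h he2)
  apply hex
  refine (L.comm_of_two ?_).symm
  intro h
  have hg : h * e * h⁻¹ ∈ A := hA.n.conj_mem e he h
  have hg2 : (h * e * h⁻¹) * (h * e * h⁻¹) = 1 := by
    calc (h * e * h⁻¹) * (h * e * h⁻¹) = h * (e * e) * h⁻¹ := by group
      _ = 1 := by rw [he2]; group
  have hgx : (h * e * h⁻¹) * x ≠ x * (h * e * h⁻¹) := by
    intro h1
    rcases inv_comm L hA hg h1 hg2 with h2 | h2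
    · exact hcon (Or.inl (by simpa using h2))
    · refine hcon (Or.inr ?_)
      have : e = h⁻¹ * z * h⁻¹⁻¹ := by rw [← h2]; group
      rw [this, L.conj_z]
  set g := h * e * h⁻¹ with hgdef
  have h1 := key e he he2 hex
  have h2 := key g hg hg2 hgx
  have hzz : z * z = 1 := L.z2
  have hfix : x * (e * g) * x⁻¹ = e * g := by
    calc x * (e * g) * x⁻¹ = (x * e * x⁻¹) * (x * g * x⁻¹) := by group
      _ = (e * z) * (g * z) := by rw [h1, h2]
      _ = e * (z * g) * z := by group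
      _ = e * (g * z) * z := by rw [L.zc]
      _ = e * g * (z * z) := by group
      _ = e * g := by rw [hzz, mul_one]
  have hcomm : (e * g) * x = x * (e * g) := (mul_inv_eq_iff_eq_mul.1 hfix).symm
  have hsq : (e * g) * (e * g) = 1 := by
    calc (e * g) * (e * g) = e * (g * e) * g := by group
      _ = e * (e * g) * g := by rw [hA.c g hg e he]
      _ = (e * e) * (g * g) := by group
      _ = 1 := by rw [he2, hg2, one_mul]
  have hei : e⁻¹ = e := inv_eq_of_mul_eq_one_left he2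
  rcases inv_comm L hA (A.mul_mem he hg) hcomm hsq with h3 | h3
  · left
    rw [eq_inv_of_mul_eq_one_right h3, hei]
  · right
    calc g = e⁻¹ * (e * g) := by group
      _ = e * z := by rw [h3, hei]

/-- two commuting square roots of `z` -/
theorem root_two [Finite H] (L : Loc z x R Y) (hA : Ab A) {c d : H} (hc : c ∈ A) (hd : d ∈ A)
    (h : c * c = d * d) : d = c ∨ d = c * z := by
  have h1 : (c⁻¹ * d) * (c⁻¹ * d) = 1 := by
    calc (c⁻¹ * d) * (c⁻¹ * d) = c⁻¹ * (d * c⁻¹) * d := by group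
      _ = c⁻¹ * (c⁻¹ * d) * d := by rw [hA.c d hd _ (A.inv_mem hc)]
      _ = (c * c)⁻¹ * (d * d) := by group
      _ = 1 := by rw [h]; group
  rcases sq_one L hA (A.mul_mem (A.inv_mem hc) hd) h1 with h2 | h2
  · left
    exact (inv_mul_eq_one.1 h2).symm
  · right
    rw [← h2]; group

theorem root_comm [Finite H] (L : Loc z x R Y) (hA : Ab A) {c : H} (hc : c ∈ A) (h : c * c = z) :
    x * c = c * x := by
  refine L.comm_of_two fun g => ?_
  refine root_two L hA hc (hA.n.conj_mem c hc g) ?_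
  calc c * c = z := h
    _ = g * z * g⁻¹ := (L.conj_z g).symm
    _ = g * c * g⁻¹ * (g * c * g⁻¹) := by rw [← h]; group

/-- no element of order 8 -/
theorem no_eight [Finite H] (L : Loc z x R Y) (hA : Ab A) {d : H} (hd : d ∈ A) : (d * d) * (d * d) ≠ z := by
  intro h
  have hzd : z * d = d * z := L.zc d
  have hzz := L.z2
  have hdx : d * x ≠ x * d := fun h1 => L.four A hA.n hA.p hA.c d hd h1 h
  refine L.false_of_sq (centralizer {d}) ?_ (fun h1 => hdx (mem_centralizer_singleton_iff.1 h1).symm)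
  intro g
  rw [mem_centralizer_singleton_iff]
  have hdd : d * d ∈ A := A.mul_mem hd hd
  have hg : g * d * g⁻¹ ∈ A := hA.n.conj_mem d hd g
  have e1 : (g * d * g⁻¹) * (g * d * g⁻¹) = g * (d * d) * g⁻¹ := by group
  have hroot : g * (d * d) * g⁻¹ = d * d ∨ g * (d * d) * g⁻¹ = d * d * z := by
    refine root_two L hA hdd (hA.n.conj_mem _ hdd g) ?_
    calc d * d * (d * d) = z := h
      _ = g * z * g⁻¹ := (L.conj_z g).symm
      _ = g * (d * d) * g⁻¹ * (g * (d * d) * g⁻¹) := by rw [← h]; group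
  have e2 : g * g * d = g * (g * d * g⁻¹) * g⁻¹ * (g * g) := by group
  rcases hroot with h1 | h1
  · -- `g d g⁻¹ = d` or `d z`
    have h2 : g * d * g⁻¹ = d ∨ g * d * g⁻¹ = d * z := root_two L hA hd hg (by rw [e1, h1])
    rcases h2 with h2 | h2
    · rw [e2, h2, h2]
    · rw [e2, h2, L.zmul, h2, mul_assoc d z z, hzz, mul_one]
  · -- `g d g⁻¹ = d³` or `d³ z`
    have h3 : (d * (d * d)) * (d * (d * d)) = (g * d * g⁻¹) * (g * d * g⁻¹) := by
      rw [e1, h1]
      calc (d * (d * d)) * (d * (d * d)) = d * d * ((d * d) * (d * d)) := by group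
        _ = d * d * z := by rw [h]
    have h2 := root_two L hA (A.mul_mem hd hdd) hg h3
    have h4 : g * (d * (d * d)) * g⁻¹ = (g * d * g⁻¹) * (g * (d * d) * g⁻¹) := by group
    rcases h2 with h2 | h2
    · rw [e2, h2, h4, h2, h1]
      calc d * (d * d) * (d * d * z) * (g * g) = d * ((d * d) * (d * d)) * z * (g * g) := by group
        _ = d * (z * z) * (g * g) := by rw [h]; group
        _ = d * (g * g) := by rw [hzz, mul_one]
    · rw [e2, h2, L.zmul, h4, h2, h1]
      calc d * (d * d) * z * (d * d * z) * z * (g * g)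
          = d * (d * d) * (z * (d * d)) * (z * z) * (g * g) := by group
        _ = d * (d * d) * ((d * d) * z) * (z * z) * (g * g) := by rw [L.zc]
        _ = d * ((d * d) * (d * d)) * z * (z * z) * (g * g) := by group
        _ = d * (z * z) * (z * z) * (g * g) := by rw [h]; group
        _ = d * (g * g) := by rw [hzz, mul_one, mul_one]

/-- **normal abelian 2-subgroups of `H`** (B3) -/
theorem abelian [Finite H] (L : Loc z x R Y) (hA : Ab A) : (∀ a ∈ A, a = 1 ∨ a = z) ∨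
    ∃ c ∈ A, c * c = z ∧ x * c = c * x ∧ ∀ a ∈ A, a = 1 ∨ a = z ∨ a = c ∨ a = c * z := by
  classical
  -- every element satisfies `a ^ 4 = 1`
  have h4 : ∀ a ∈ A, (a * a) * (a * a) = 1 := by
    intro a ha
    obtain ⟨n, hn⟩ := hA.p ⟨a, ha⟩
    have hn' : a ^ 2 ^ n = 1 := by simpa using congrArg Subtype.val hn
    have hex : ∃ n : ℕ, a ^ 2 ^ n = 1 := ⟨n, hn'⟩
    obtain ⟨m, hm, hmin⟩ := Nat.findX hex
    match m, hm, hmin with
    | 0, hm, _ => simp at hm; simp [hm]
    | 1, hm, _ =>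
      have : a * a = 1 := by rw [← pow_two]; simpa using hm
      rw [this, one_mul]
    | 2, hm, _ =>
      have h1 : (a * a) * (a * a) = a ^ 2 ^ 2 := by rw [show 2 ^ 2 = 2 + 2 by norm_num, pow_add, pow_two]
      rw [h1, hm]
    | m + 3, hm, hmin =>
      exfalso
      have h5 : a ^ 2 ^ (m + 2) ≠ 1 := hmin _ (by omega)
      have h6 : a ^ 2 ^ (m + 2) * a ^ 2 ^ (m + 2) = 1 := by
        rw [← pow_add, ← two_mul, ← pow_succ']
        exact hm
      have h7 := (sq_one L hA (A.pow_mem ha _) h6).resolve_left h5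
      refine no_eight L hA (A.pow_mem ha (2 ^ m)) ?_
      rw [← pow_add, ← pow_add, ← h7]
      congr 1
      ring
  by_cases h : ∀ a ∈ A, a = 1 ∨ a = z
  · exact Or.inl h
  · right
    push Not at h
    obtain ⟨c, hc, hc1, hcz⟩ := h
    have hcc : c * c = z := by
      rcases sq_one L hA (A.mul_mem hc hc) (h4 c hc) with h1 | h1
      · rcases sq_one L hA hc h1 with h2 | h2
        · exact absurd h2 hc1
        · exact absurd h2 hcz
      · exact h1
    refine ⟨c, hc, hcc, root_comm L hA hc hcc, fun a ha => ?_⟩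
    rcases sq_one L hA (A.mul_mem ha ha) (h4 a ha) with h1 | h1
    · rcases sq_one L hA ha h1 with h2 | h2
      · exact Or.inl h2
      · exact Or.inr (Or.inl h2)
    · exact Or.inr (Or.inr (root_two L hA hc ha (by rw [hcc, h1])))

end Loc

end Cfsg.Agent.GH.L3.LocBase
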