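import Mathlib
import Cfsg.Agent.GH.L3.LocBase
import Cfsg.Agent.GTwoFour.Tools

/-!
# GH-L3, case B: no normal cyclic subgroup of order 4 (B4a)

If every normal abelian 2-subgroup of `H` is contained in `{1, z}`, then `R` is extraspecial of order 32
and the sign of a permutation representation of `H` is `-1` on `x`, or `x ∈ R`.
-/

set_option autoImplicit false

namespace Cfsg.Agent.GH.L3.LocExt

open Subgroup
open Cfsg.Agent.GH.L3.LocBase
open scoped commutatorElement

variable {H : Type*} [Group H] {z x : H} {R Y : Subgroup H}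

theorem mem_zz (hz : z * z = 1) {g : H} : g ∈ zpowers z ↔ g = 1 ∨ g = z := by
  constructor
  · intro h
    obtain ⟨k, rfl⟩ := mem_zpowers_iff.1 h
    rcases Int.even_or_odd k with ⟨j, hj⟩ | ⟨j, hj⟩
    · left
      rw [hj, ← two_mul, zpow_mul, zpow_ofNat, pow_two, hz, one_zpow]
    · right
      rw [hj, zpow_add_one, zpow_mul, zpow_ofNat, pow_two, hz, one_zpow, one_mul]
  · rintro (rfl | rfl)
    · exact one_mem _
    · exact mem_zpowers _

theorem card_zz (h1 : z ≠ 1) (hz : z * z = 1) : Nat.card (zpowers z) = 2 := by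
  rw [Nat.card_zpowers]
  exact orderOf_eq_prime (by rw [pow_two, hz]) h1

/-- every normal abelian 2-subgroup is contained in `{1, z}` -/
def Small (z : H) : Prop := ∀ A : Subgroup H, Loc.Ab A → ∀ a ∈ A, a = 1 ∨ a = z

theorem ab_center (L : Loc z x R Y) {N : Subgroup H} (hN : N.Normal) (hNR : N ≤ R) :
    Loc.Ab (N ⊓ centralizer (N : Set H)) where
  n := inferInstance
  p := L.R2.to_le (inf_le_left.trans hNR)
  c := fun _ ha b hb => (mem_centralizer_iff.1 ha.2 b hb.1).symm

theorem center_R (L : Loc z x R Y) (hs : Small z) {r : H} (hr : r ∈ R) (h : ∀ s ∈ R, r * s = s * r) :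
    r = 1 ∨ r = z :=
  hs _ (ab_center L L.Rn le_rfl) r ⟨hr, mem_centralizer_iff.2 fun s hs => (h s hs).symm⟩

/-- squares of `R` lie in `{1, z}` -/
theorem sq_R [Finite H] (L : Loc z x R Y) (hs : Small z) {r : H} (hr : r ∈ R) : r * r = 1 ∨ r * r = z := by
  have : Fact (Nat.Prime 2) := ⟨Nat.prime_two⟩
  have hRn := L.Rn
  by_contra hcon
  set P : Subgroup H := closure {g | ∃ r ∈ R, g = r * r} with hP
  have hPR : P ≤ R := by
    rw [hP, closure_le]
    rintro g ⟨r, hr, rfl⟩
    exact R.mul_mem hr hr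
  have hPn : P.Normal := by
    constructor
    intro n hn g
    induction hn using closure_induction with
    | mem y hy =>
      obtain ⟨r, hr, rfl⟩ := hy
      exact subset_closure ⟨g * r * g⁻¹, hRn.conj_mem r hr g, by group⟩
    | one => simpa using P.one_mem
    | mul a b _ _ ha hb =>
      have : g * (a * b) * g⁻¹ = (g * a * g⁻¹) * (g * b * g⁻¹) := by group
      rw [this]
      exact P.mul_mem ha hb
    | inv a _ ha =>
      have : g * a⁻¹ * g⁻¹ = (g * a * g⁻¹)⁻¹ := by group
      rw [this]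
      exact P.inv_mem ha
  have hcz : ∀ g : H, ∀ w ∈ zpowers z, g * w * g⁻¹ ∈ zpowers z := by
    intro g w hw
    rcases (mem_zz L.z2).1 hw with rfl | rfl
    · simpa using (zpowers z).one_mem
    · rw [L.conj_z]; exact hw
  obtain ⟨n, hn, hnz, hnc⟩ := Cfsg.Agent.GTwoFour.Tools.exists_fixed_mod (p := 2) (Y := R) (N := P)
    (M := zpowers z) L.R2 hPR (fun y _ n hn => hPn.conj_mem n hn y) (fun y _ m hm => hcz y m hm)
    ⟨r * r, subset_closure ⟨r, hr, rfl⟩, fun h => hcon ((mem_zz L.z2).1 h)⟩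
  have hcomm : ∀ g ∈ P, g * n = n * g := by
    intro g hg
    induction hg using closure_induction with
    | mem y hy =>
      obtain ⟨s, hs, rfl⟩ := hy
      have h1 := (mem_zz L.z2).1 (hnc s hs)
      have h2 : s * n * s⁻¹ = n ∨ s * n * s⁻¹ = n * z := by
        rcases h1 with h1 | h1
        · left
          rw [commutatorElement_def, mul_inv_eq_one] at h1
          exact h1
        · right
          rw [commutatorElement_def, mul_inv_eq_iff_eq_mul, L.zc] at h1
          exact h1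
      have h3 : s * s * n = s * (s * n * s⁻¹) * s⁻¹ * (s * s) := by group
      rw [h3]
      rcases h2 with h2 | h2
      · rw [h2, h2]
      · rw [h2, L.zmul, h2, mul_assoc n z z, L.z2, mul_one]
    | one => simp
    | mul a b _ _ ha hb => rw [mul_assoc, hb, ← mul_assoc, ha, mul_assoc]
    | inv a _ ha => rw [inv_mul_eq_iff_eq_mul, ← mul_assoc, ha, mul_assoc, mul_inv_cancel, mul_one]
  have h5 := hs _ (ab_center L hPn hPR) n ⟨hn, mem_centralizer_iff.2 fun g hg => hcomm g hg⟩
  exact hnz ((mem_zz L.z2).2 h5)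

/-- `R/⟨z⟩` is elementary abelian with squares in `⟨z⟩` -/
structure Ext (z : H) (R : Subgroup H) : Prop where
  sq : ∀ r ∈ R, r * r = 1 ∨ r * r = z
  cen : ∀ r ∈ R, (∀ s ∈ R, r * s = s * r) → r = 1 ∨ r = z

theorem ext [Finite H] (L : Loc z x R Y) (hs : Small z) : Ext z R where
  sq := fun _ hr => sq_R L hs hr
  cen := fun _ hr h => center_R L hs hr h

theorem comm_of_sq (L : Loc z x R Y) {a b : H} (ha : a * a = 1 ∨ a * a = z) (hb : b * b = 1 ∨ b * b = z)
    (hab : a * b * (a * b) = 1 ∨ a * b * (a * b) = z) : a * b = b * a ∨ a * b = b * a * z := by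
  have hzz := L.z2
  have hzi : z⁻¹ = z := inv_eq_of_mul_eq_one_left hzz
  have hai : a⁻¹ * a⁻¹ = 1 ∨ a⁻¹ * a⁻¹ = z := by
    rcases ha with h | h
    · left; rw [← mul_inv_rev, h, inv_one]
    · right; rw [← mul_inv_rev, h, hzi]
  have hbi : b⁻¹ * b⁻¹ = 1 ∨ b⁻¹ * b⁻¹ = z := by
    rcases hb with h | h
    · left; rw [← mul_inv_rev, h, inv_one]
    · right; rw [← mul_inv_rev, h, hzi]
  have e1 : a * b = (a * b * (a * b)) * (b⁻¹ * (a⁻¹ * a⁻¹) * b) * (b⁻¹ * b⁻¹) * (b * a) := by
    group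
  have e2 : b⁻¹ * (a⁻¹ * a⁻¹) * b = a⁻¹ * a⁻¹ := by
    rcases hai with h | h
    · rw [h]; group
    · rw [h, mul_assoc, L.zc]; group
  rw [e2] at e1
  have hone : ∀ g : H, z * g = g * z := L.zc
  rcases hab with h1 | h1 <;> rcases hai with h2 | h2 <;> rcases hbi with h3 | h3 <;>
    rw [h1, h2, h3] at e1
  · left; simpa using e1
  · right; rw [e1, one_mul, one_mul, hone]
  · right; rw [e1, one_mul, mul_one, hone]
  · left; rw [e1, one_mul, hzz, one_mul]
  · right; rw [e1, mul_one, mul_one, hone]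
  · left; rw [e1, mul_one, hzz, one_mul]
  · left; rw [e1, hzz, one_mul, one_mul]
  · right; rw [e1, hzz, one_mul, hone]

/-! ### the quaternion group `Y` -/

theorem exists_not_mem_of_card_lt [Finite H] {A B : Subgroup H} (h : Nat.card B < Nat.card A) :
    ∃ a ∈ A, a ∉ B := by
  by_contra hcon
  push Not at hcon
  exact absurd (card_le_of_le (show A ≤ B from hcon)) (by omega)

/-- quaternion generators of `Y` -/
structure Gen (z : H) (Y : Subgroup H) (i j : H) : Prop where
  iY : i ∈ Y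
  jY : j ∈ Y
  i2 : i * i = z
  j2 : j * j = z
  ij : i * j = j * i * z
  all : ∀ y ∈ Y, ∃ a b c : ℕ, y = i ^ a * j ^ b * z ^ c

theorem exists_gen [Finite H] (L : Loc z x R Y) : ∃ i j : H, Gen z Y i j := by
  classical
  have hzz := L.z2
  obtain ⟨i, hi, hi1⟩ := exists_not_mem_of_card_lt (A := Y) (B := zpowers z)
    (by rw [card_zz L.z1 hzz, L.Ycard]; norm_num)
  have hi' : ¬ (i = 1 ∨ i = z) := fun h => hi1 ((mem_zz hzz).2 h)
  have hii : i * i = z := by
    rcases L.Ysq i hi with h | h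
    · exact absurd (L.Yinv i hi h) hi'
    · exact h
  have hoi : orderOf i = 4 := by
    have h1 : i ^ 2 ^ 2 = 1 := by
      rw [show 2 ^ 2 = 2 + 2 by norm_num, pow_add, pow_two, hii, hzz]
    have h2 : ¬ i ^ 2 ^ 1 = 1 := by
      rw [pow_one, pow_two, hii]
      exact L.z1
    have := orderOf_eq_prime_pow (p := 2) (n := 1) h2 h1
    simpa using this
  have hci : Nat.card (zpowers i) = 4 := by rw [Nat.card_zpowers, hoi]
  obtain ⟨j, hj, hji⟩ := exists_not_mem_of_card_lt (A := Y) (B := zpowers i)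
    (by rw [hci, L.Ycard]; norm_num)
  have hj' : ¬ (j = 1 ∨ j = z) := by
    rintro (h | h)
    · exact hji (h ▸ one_mem _)
    · apply hji
      rw [h, ← hii, ← pow_two]
      exact pow_mem (mem_zpowers i) 2
  have hjj : j * j = z := by
    rcases L.Ysq j hj with h | h
    · exact absurd (L.Yinv j hj h) hj'
    · exact h
  have hzj : z * j = j * z := L.zc j
  have hzi : z * i = i * z := L.zc i
  have hij : i * j = j * i * z := by
    have h1 := comm_of_sq L (L.Ysq i hi) (L.Ysq j hj) (L.Ysq _ (Y.mul_mem hi hj))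
    refine h1.resolve_left fun h2 => ?_
    have h3 : (i * j) * (i * j) = 1 := by
      calc (i * j) * (i * j) = i * (j * i) * j := by group
        _ = i * (i * j) * j := by rw [h2]
        _ = (i * i) * (j * j) := by group
        _ = 1 := by rw [hii, hjj, hzz]
    apply hji
    rcases L.Yinv _ (Y.mul_mem hi hj) h3 with h4 | h4
    · rw [eq_inv_of_mul_eq_one_right h4]
      exact inv_mem (mem_zpowers i)
    · have : j = i⁻¹ * z := by rw [← h4]; group
      rw [this, ← hii]
      exact mul_mem (inv_mem (mem_zpowers i)) (mul_mem (mem_zpowers i) (mem_zpowers i))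
  refine ⟨i, j, hi, hj, hii, hjj, hij, ?_⟩
  have hIY : zpowers i ≤ Y := by rw [zpowers_le]; exact hi
  have hidx : ((zpowers i).subgroupOf Y).index = 2 := by
    have h1 := ((zpowers i).subgroupOf Y).card_mul_index
    have h2 : Nat.card ((zpowers i).subgroupOf Y) = 4 := by
      rw [← hci]
      exact Nat.card_congr (subgroupOfEquivOfLe hIY).toEquiv
    rw [h2, L.Ycard] at h1
    omega
  have hpow : ∀ w ∈ zpowers i, ∃ a : ℕ, w = i ^ a := by
    intro w hw
    obtain ⟨n, hn⟩ := (mem_zpowers_iff_mem_range_orderOf.1 hw |> Finset.mem_image.1)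
    exact ⟨n, hn.2.symm⟩
  intro y hy
  by_cases hyi : y ∈ zpowers i
  · obtain ⟨a, ha⟩ := hpow y hyi
    exact ⟨a, 0, 0, by simpa using ha⟩
  · have h1 : y * j ∈ zpowers i := by
      have h2 := mul_mem_iff_of_index_two hidx (a := ⟨y, hy⟩) (b := ⟨j, hj⟩)
      have h3 : (⟨y, hy⟩ * ⟨j, hj⟩ : Y) ∈ (zpowers i).subgroupOf Y := by
        rw [h2]
        simp only [mem_subgroupOf]
        exact ⟨fun h => absurd h hyi, fun h => absurd h hji⟩
      exact h3
    obtain ⟨a, ha⟩ := hpow _ h1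
    refine ⟨a, 1, 1, ?_⟩
    have h4 : j⁻¹ = j * z := by
      rw [inv_eq_iff_mul_eq_one, ← mul_assoc, hjj, hzz]
    calc y = (y * j) * j⁻¹ := by group
      _ = i ^ a * j ^ 1 * z ^ 1 := by rw [ha, h4, pow_one, pow_one, mul_assoc]

/-- an element commuting with `i`, `j` commutes with `Y` -/
theorem Gen.comm (L : Loc z x R Y) {i j : H} (g : Gen z Y i j) {h : H} (hi : h * i = i * h) (hj : h * j = j * h) :
    ∀ y ∈ Y, h * y = y * h := by
  intro y hy
  obtain ⟨a, b, c, rfl⟩ := g.all y hy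
  have h1 : Commute h (i ^ a) := Commute.pow_right hi a
  have h2 : Commute h (j ^ b) := Commute.pow_right hj b
  have h3 : Commute h (z ^ c) := Commute.pow_right (L.zc h).symm c
  exact (h1.mul_right h2).mul_right h3

/-- an element acting trivially on `⟨i, j⟩` modulo `⟨z⟩` acts as one of `1, i, j, ij` -/
theorem pair (L : Loc z x R Y) {i j : H} (hij : i * j = j * i * z) {g : H} (hi : g * i = i * g ∨ g * i = i * g * z)
    (hj : g * j = j * g ∨ g * j = j * g * z) :
    ∃ y : H, (y = 1 ∨ y = i ∨ y = j ∨ y = i * j) ∧ (y⁻¹ * g) * i = i * (y⁻¹ * g) ∧ (y⁻¹ * g) * j = j * (y⁻¹ * g) := by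
  have hzz := L.z2
  have hzi : z⁻¹ = z := inv_eq_of_mul_eq_one_left hzz
  have hzc := L.zc
  have hji : j * i = i * j * z := by rw [hij, mul_assoc, hzz, mul_one]
  -- `i⁻¹ j = j i⁻¹ z`, `j⁻¹ i = i j⁻¹ z`
  have e1 : i⁻¹ * j = j * i⁻¹ * z := by
    have : j = i * (j * i⁻¹ * z) := by
      calc j = j * i * i⁻¹ := by group
        _ = i * j * z * i⁻¹ := by rw [hji]
        _ = i * j * (z * i⁻¹) := by group
        _ = i * (j * i⁻¹ * z) := by rw [hzc]; group
    exact inv_mul_eq_iff_eq_mul.2 this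
  have e2 : j⁻¹ * i = i * j⁻¹ * z := by
    have : i = j * (i * j⁻¹ * z) := by
      calc i = i * j * j⁻¹ := by group
        _ = j * i * z * j⁻¹ := by rw [hij]
        _ = j * i * (z * j⁻¹) := by group
        _ = j * (i * j⁻¹ * z) := by rw [hzc]; group
    exact inv_mul_eq_iff_eq_mul.2 this
  rcases hi with hi | hi <;> rcases hj with hj | hj
  · exact ⟨1, Or.inl rfl, by simpa using hi, by simpa using hj⟩
  · refine ⟨i, Or.inr (Or.inl rfl), ?_, ?_⟩
    · rw [mul_assoc, hi]; group
    · calc i⁻¹ * g * j = i⁻¹ * (g * j) := by group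
        _ = (i⁻¹ * j) * (g * z) := by rw [hj]; group
        _ = j * i⁻¹ * z * (g * z) := by rw [e1]
        _ = j * i⁻¹ * (z * g) * z := by group
        _ = j * i⁻¹ * g * (z * z) := by rw [hzc]; group
        _ = j * (i⁻¹ * g) := by rw [hzz]; group
  · refine ⟨j, Or.inr (Or.inr (Or.inl rfl)), ?_, ?_⟩
    · calc j⁻¹ * g * i = j⁻¹ * (g * i) := by group
        _ = (j⁻¹ * i) * (g * z) := by rw [hi]; group
        _ = i * j⁻¹ * z * (g * z) := by rw [e2]
        _ = i * j⁻¹ * (z * g) * z := by group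
        _ = i * j⁻¹ * g * (z * z) := by rw [hzc]; group
        _ = i * (j⁻¹ * g) := by rw [hzz]; group
    · rw [mul_assoc, hj]; group
  · refine ⟨i * j, Or.inr (Or.inr (Or.inr rfl)), ?_, ?_⟩
    · calc (i * j)⁻¹ * g * i = j⁻¹ * i⁻¹ * (g * i) := by group
        _ = (j⁻¹ * i) * i⁻¹ * g * z := by rw [hi]; group
        _ = i * j⁻¹ * z * i⁻¹ * g * z := by rw [e2]
        _ = i * j⁻¹ * (z * (i⁻¹ * g)) * z := by group
        _ = i * j⁻¹ * (i⁻¹ * g) * (z * z) := by rw [hzc]; group
        _ = i * ((i * j)⁻¹ * g) := by rw [hzz]; group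
    · calc (i * j)⁻¹ * g * j = j⁻¹ * i⁻¹ * (g * j) := by group
        _ = j⁻¹ * (i⁻¹ * j) * g * z := by rw [hj]; group
        _ = j⁻¹ * (j * i⁻¹ * z) * g * z := by rw [e1]
        _ = i⁻¹ * (z * g) * z := by group
        _ = i⁻¹ * g * (z * z) := by rw [hzc]; group
        _ = i⁻¹ * g := by rw [hzz, mul_one]
        _ = j * ((i * j)⁻¹ * g) := by
          rw [mul_inv_rev]
          group

end Cfsg.Agent.GH.L3.LocExt
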