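import Mathlib
import Cfsg.Agent.GH.L3.LocExt

/-!
# GH-L3, case B: `R` extraspecial of order 32, `x ∉ R` (B4a)
-/

set_option autoImplicit false

namespace Cfsg.Agent.GH.L3.LocSign

open Subgroup
open Cfsg.Agent.GH.L3.LocBase Cfsg.Agent.GH.L3.LocExt
open Cfsg.Agent.TwoFusion.SectionalRank (ElemSection)

variable {H : Type*} [Group H] {z x : H} {R Y : Subgroup H}

theorem two_mul_card_le [Finite H] {A B : Subgroup H} (h : A < B) : 2 * Nat.card A ≤ Nat.card B := by
  obtain ⟨k, hk⟩ := card_dvd_of_le h.le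
  have h1 : Nat.card A < Nat.card B := by
    by_contra hcon
    have h2 : A = B := SetLike.coe_injective (Set.eq_of_subset_of_ncard_le h.le (by
      rw [← Nat.card_coe_set_eq, ← Nat.card_coe_set_eq]
      exact not_lt.1 hcon) (Set.toFinite _))
    exact h.ne h2
  have h3 : 0 < Nat.card A := Nat.card_pos
  have h4 : 2 ≤ k := by
    by_contra hcon
    have : k = 0 ∨ k = 1 := by omega
    rcases this with rfl | rfl
    · omega
    · omega
  calc 2 * Nat.card A ≤ k * Nat.card A := Nat.mul_le_mul_right _ h4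
    _ = Nat.card B := by rw [hk, mul_comm]

/-- `C_R(i) ∩ C_R(j)` -/
def cen (R : Subgroup H) (i j : H) : Subgroup H := R ⊓ centralizer {i} ⊓ centralizer {j}

theorem mem_cen {i j g : H} : g ∈ cen R i j ↔ g ∈ R ∧ g * i = i * g ∧ g * j = j * g := by
  rw [cen, mem_inf, mem_inf, mem_centralizer_singleton_iff, mem_centralizer_singleton_iff, and_assoc]

theorem card_cen [Finite H] (hz1 : z ≠ 1) {i j : H} (hi : i ∈ R) (hj : j ∈ R)
    (hij : i * j = j * i * z) : 4 * Nat.card (cen R i j) ≤ Nat.card R := by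
  have hne : i * j ≠ j * i := by
    intro h
    rw [h] at hij
    exact hz1 (by simpa using hij.symm)
  have h1 : R ⊓ centralizer {i} < R := by
    refine lt_of_le_of_ne inf_le_left fun h => ?_
    have : j ∈ R ⊓ centralizer {i} := by rw [h]; exact hj
    exact hne (mem_centralizer_singleton_iff.1 this.2).symm
  have h2 : cen R i j < R ⊓ centralizer {i} := by
    refine lt_of_le_of_ne inf_le_left fun h => ?_
    have : i ∈ cen R i j := by rw [h]; exact ⟨hi, mem_centralizer_singleton_iff.2 rfl⟩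
    exact hne (mem_centralizer_singleton_iff.1 this.2)
  have h3 := two_mul_card_le h1
  have h4 := two_mul_card_le h2
  omega

theorem small_cen [Finite H] (hzc : ∀ h : H, z * h = h * z) (hz : z * z = 1) (hz1 : z ≠ 1) {M : Subgroup H}
    (hM : Nat.card M ≤ 8) (hzM : z ∈ M) {p q : H} (hp : p ∈ M) (hq : q ∈ M) (hpq : p * q = q * p * z) {w : H}
    (hw : w ∈ cen M p q) : w = 1 ∨ w = z := by
  have h1 := card_cen hz1 hp hq hpq
  have h2 : zpowers z ≤ cen M p q := by
    rw [zpowers_le, mem_cen]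
    exact ⟨hzM, hzc p, hzc q⟩
  have h3 : zpowers z = cen M p q := by
    refine SetLike.coe_injective (Set.eq_of_subset_of_ncard_le h2 ?_ (Set.toFinite _))
    rw [← Nat.card_coe_set_eq, ← Nat.card_coe_set_eq]
    have := card_zz hz1 hz
    show Nat.card (cen M p q) ≤ Nat.card (zpowers z)
    omega
  rw [← h3] at hw
  exact (mem_zz hz).1 hw

/-- every element of a group `M` of order at most 8 containing `p, q`, `[p, q] = z` is `y` or `yz` -/
theorem small_all [Finite H] (L : Loc z x R Y) (E : Ext z R) {M : Subgroup H} (hMR : M ≤ R)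
    (hM : Nat.card M ≤ 8) (hzM : z ∈ M) {p q : H} (hp : p ∈ M) (hq : q ∈ M) (hpq : p * q = q * p * z) {w : H}
    (hw : w ∈ M) : ∃ y : H, (y = 1 ∨ y = p ∨ y = q ∨ y = p * q) ∧ (w = y ∨ w = y * z) := by
  have hc : ∀ a ∈ M, ∀ b ∈ M, a * b = b * a ∨ a * b = b * a * z := fun a ha b hb =>
    comm_of_sq L (E.sq a (hMR ha)) (E.sq b (hMR hb)) (E.sq _ (hMR (M.mul_mem ha hb)))
  have h1 : w * p = p * w ∨ w * p = p * w * z := hc w hw p hp
  have h2 : w * q = q * w ∨ w * q = q * w * z := hc w hw q hq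
  obtain ⟨y, hy, h3, h4⟩ := pair L hpq h1 h2
  refine ⟨y, hy, ?_⟩
  have hyM : y ∈ M := by
    rcases hy with rfl | rfl | rfl | rfl
    · exact M.one_mem
    · exact hp
    · exact hq
    · exact M.mul_mem hp hq
  rcases small_cen L.zc L.z2 L.z1 hM hzM hp hq hpq (mem_cen.2 ⟨M.mul_mem (M.inv_mem hyM) hw, h3, h4⟩) with h | h
  · left
    exact (inv_mul_eq_one.1 h).symm
  · right
    rw [← h]; group

theorem zR (L : Loc z x R Y) : z ∈ R := L.YR L.zY

theorem comm_R (L : Loc z x R Y) (E : Ext z R) {a b : H} (ha : a ∈ R) (hb : b ∈ R) :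
    a * b = b * a ∨ a * b = b * a * z :=
  comm_of_sq L (E.sq a ha) (E.sq b hb) (E.sq _ (R.mul_mem ha hb))

theorem card_R [Finite H] (L : Loc z x R Y) (E : Ext z R) : Nat.card R ≤ 32 := by
  have h1 : ElemSection 2 R (zpowers z) := by
    refine ⟨by rw [zpowers_le]; exact zR L, fun a ha b hb => ?_, fun a ha => ?_⟩
    · rw [mem_zz L.z2]
      rcases comm_R L E ha hb with h | h
      · left; rw [h]; group
      · right
        calc a * b * a⁻¹ * b⁻¹ = b * a * z * a⁻¹ * b⁻¹ := by rw [h]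
          _ = b * a * (z * (a⁻¹ * b⁻¹)) := by group
          _ = z := by rw [L.zc]; group
    · rw [mem_zz L.z2, pow_two]
      exact E.sq a ha
  have h2 := L.rank R (zpowers z) le_rfl h1
  rw [card_zz L.z1 L.z2] at h2
  omega

/-- the data needed below -/
structure Dat (z x : H) (R Y : Subgroup H) (i j : H) : Prop where
  L : Loc z x R Y
  E : Ext z R
  G : Gen z Y i j

variable {i j : H}

theorem Dat.card_W [Finite H] (D : Dat z x R Y i j) : Nat.card (cen R i j) ≤ 8 := by
  have h1 := card_cen D.L.z1 (D.L.YR D.G.iY) (D.L.YR D.G.jY) D.G.ij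
  have h2 := card_R D.L D.E
  omega

theorem Dat.split (D : Dat z x R Y i j) {r : H} (hr : r ∈ R) : ∃ y ∈ Y, ∃ w ∈ cen R i j, r = y * w := by
  have L := D.L
  have h1 := comm_R L D.E hr (L.YR D.G.iY)
  have h2 := comm_R L D.E hr (L.YR D.G.jY)
  obtain ⟨y, hy, h3, h4⟩ := pair L D.G.ij h1 h2
  have hyY : y ∈ Y := by
    rcases hy with rfl | rfl | rfl | rfl
    · exact Y.one_mem
    · exact D.G.iY
    · exact D.G.jY
    · exact Y.mul_mem D.G.iY D.G.jY
  exact ⟨y, hyY, y⁻¹ * r, mem_cen.2 ⟨R.mul_mem (R.inv_mem (L.YR hyY)) hr, h3, h4⟩, by group⟩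

theorem Dat.zW (D : Dat z x R Y i j) : z ∈ cen R i j := mem_cen.2 ⟨zR D.L, D.L.zc i, D.L.zc j⟩

/-- `w ∈ W` commutes with `Y` -/
theorem Dat.comm_Y (D : Dat z x R Y i j) {w y : H} (hw : w ∈ cen R i j) (hy : y ∈ Y) : w * y = y * w :=
  Gen.comm D.L D.G (mem_cen.1 hw).2.1 (mem_cen.1 hw).2.2 y hy

/-- an element commuting with `Y` and `W` is in `R` -/
theorem Dat.mem_R (D : Dat z x R Y i j) {g : H} (hY : ∀ y ∈ Y, g * y = y * g)
    (hW : ∀ w ∈ cen R i j, g * w = w * g) : g ∈ R := by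
  refine D.L.Rc g fun r hr => ?_
  obtain ⟨y, hy, w, hw, rfl⟩ := D.split hr
  rw [← mul_assoc, hY y hy, mul_assoc, hW w hw, mul_assoc]

theorem Dat.central (D : Dat z x R Y i j) {g : H} (hg : g ∈ R) (hY : ∀ y ∈ Y, g * y = y * g)
    (hW : ∀ w ∈ cen R i j, g * w = w * g) : g = 1 ∨ g = z := by
  refine D.E.cen g hg fun r hr => ?_
  obtain ⟨y, hy, w, hw, rfl⟩ := D.split hr
  rw [← mul_assoc, hY y hy, mul_assoc, hW w hw, mul_assoc]

/-- an element of `H` normalising `Y` pointwise normalises `W` -/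
theorem Dat.conj_W (D : Dat z x R Y i j) {g : H} (hY : ∀ y ∈ Y, g * y = y * g) {w : H} (hw : w ∈ cen R i j) :
    g * w * g⁻¹ ∈ cen R i j := by
  rw [mem_cen] at hw ⊢
  have h1 : ∀ y ∈ Y, w * y = y * w → g * w * g⁻¹ * y = y * (g * w * g⁻¹) := by
    intro y hy h
    have h2 : g⁻¹ * y = y * g⁻¹ := by
      rw [inv_mul_eq_iff_eq_mul, ← mul_assoc, hY y hy, mul_assoc, mul_inv_cancel, mul_one]
    calc g * w * g⁻¹ * y = g * w * (g⁻¹ * y) := by group
      _ = g * (w * y) * g⁻¹ := by rw [h2]; group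
      _ = (g * y) * w * g⁻¹ := by rw [h]; group
      _ = y * (g * w * g⁻¹) := by rw [hY y hy]; group
  exact ⟨D.L.Rn.conj_mem w hw.1 g, h1 i D.G.iY hw.2.1, h1 j D.G.jY hw.2.2⟩

theorem Dat.comm_W (D : Dat z x R Y i j) {a b : H} (ha : a ∈ cen R i j) (hb : b ∈ cen R i j) :
    a * b = b * a ∨ a * b = b * a * z := comm_R D.L D.E (mem_cen.1 ha).1 (mem_cen.1 hb).1

/-- `W` is not commutative -/
theorem Dat.noncomm [Finite H] (D : Dat z x R Y i j) : ∃ p ∈ cen R i j, ∃ q ∈ cen R i j, p * q = q * p * z := by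
  by_contra hcon
  push Not at hcon
  have hW : ∀ a ∈ cen R i j, a = 1 ∨ a = z := by
    intro a ha
    refine D.central (mem_cen.1 ha).1 (fun y hy => D.comm_Y ha hy) fun w hw => ?_
    exact (D.comm_W ha hw).resolve_right (hcon a ha w hw)
  have hxR : x ∈ R := by
    refine D.mem_R D.L.xY fun w hw => ?_
    rcases hW w hw with rfl | rfl
    · simp
    · exact (D.L.zc x).symm
  have hxW : x ∈ cen R i j := mem_cen.2 ⟨hxR, D.L.xY i D.G.iY, D.L.xY j D.G.jY⟩
  rcases hW x hxW with h | h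
  · exact D.L.x1 h
  · exact D.L.xz h

theorem Dat.W_class [Finite H] (D : Dat z x R Y i j) {p q : H} (hp : p ∈ cen R i j) (hq : q ∈ cen R i j)
    (hpq : p * q = q * p * z) {w : H} (hw : w ∈ cen R i j) :
    ∃ y : H, (y = 1 ∨ y = p ∨ y = q ∨ y = p * q) ∧ (w = y ∨ w = y * z) :=
  small_all D.L D.E (fun _ h => (mem_cen.1 h).1) D.card_W D.zW hp hq hpq hw

/-- if `x ∉ R`, some `u ∈ W` is moved by `x` modulo `⟨z⟩` -/
theorem Dat.exists_u [Finite H] (D : Dat z x R Y i j) (hx : x ∉ R) :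
    ∃ u ∈ cen R i j, x * u * x⁻¹ ≠ u ∧ x * u * x⁻¹ ≠ u * z := by
  by_contra hcon
  push Not at hcon
  obtain ⟨p, hp, q, hq, hpq⟩ := D.noncomm
  have L := D.L
  have key : ∀ u ∈ cen R i j, x * u = u * x ∨ x * u = u * x * z := by
    intro u hu
    by_cases h : x * u * x⁻¹ = u
    · left
      exact mul_inv_eq_iff_eq_mul.1 h
    · right
      have h1 := mul_inv_eq_iff_eq_mul.1 (hcon u hu h)
      rw [h1, mul_assoc, L.zc, ← mul_assoc]
  obtain ⟨y, hy, h1, h2⟩ := pair L hpq (key p hp) (key q hq)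
  have hyW : y ∈ cen R i j := by
    rcases hy with rfl | rfl | rfl | rfl
    · exact one_mem _
    · exact hp
    · exact hq
    · exact mul_mem hp hq
  have h3 : y⁻¹ * x ∈ R := by
    refine D.mem_R (fun w hw => ?_) (fun w hw => ?_)
    · have e1 := L.xY w hw
      have e2 := D.comm_Y ((cen R i j).inv_mem hyW) hw
      rw [mul_assoc, e1, ← mul_assoc, e2, mul_assoc]
    · obtain ⟨v, hv, hwv⟩ := D.W_class hp hq hpq hw
      have e1 : (y⁻¹ * x) * v = v * (y⁻¹ * x) := by
        rcases hv with rfl | rfl | rfl | rfl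
        · simp
        · exact h1
        · exact h2
        · rw [← mul_assoc, h1, mul_assoc, h2, mul_assoc]
      rcases hwv with rfl | rfl
      · exact e1
      · rw [← mul_assoc, e1, mul_assoc, ← L.zc, mul_assoc]
  apply hx
  have h4 := R.mul_mem (mem_cen.1 hyW).1 h3
  rwa [mul_inv_cancel_left] at h4

/-- the configuration: `W = ⟨u, v, z⟩`, `x` swaps `u` and `v` -/
structure Swap (z x : H) (R Y : Subgroup H) (i j u v : H) : Prop extends Dat z x R Y i j where
  uW : u ∈ cen R i j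
  vW : v ∈ cen R i j
  xu : x * u * x⁻¹ = v
  xv : x * v * x⁻¹ = u
  uv : u * v = v * u * z
  ne : v ≠ u
  ne' : v ≠ u * z

theorem Dat.exists_swap [Finite H] (D : Dat z x R Y i j) (hx : x ∉ R) : ∃ u v : H, Swap z x R Y i j u v := by
  obtain ⟨u, hu, h1, h2⟩ := D.exists_u hx
  have L := D.L
  have hv : x * u * x⁻¹ ∈ cen R i j := D.conj_W L.xY hu
  refine ⟨u, x * u * x⁻¹, D, hu, hv, rfl, Loc.conj_inv_eq L rfl, ?_, h1, h2⟩
  refine (D.comm_W hu hv).resolve_left fun hcomm => ?_
  -- some `w₀ ∈ W` does not commute with `u`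
  have h3 : ∃ w ∈ cen R i j, u * w = w * u * z := by
    by_contra hcon
    push Not at hcon
    have h4 : u = 1 ∨ u = z := D.central (mem_cen.1 hu).1 (fun y hy => D.comm_Y hu hy) fun w hw =>
      (D.comm_W hu hw).resolve_right (hcon w hw)
    rcases h4 with rfl | rfl
    · exact h1 (by group)
    · apply h1
      exact L.conj_z x
  obtain ⟨w, hw, huw⟩ := h3
  have hwu : w * u ≠ u * w := by
    intro h
    rw [h] at huw
    exact L.z1 (by simpa using huw.symm)
  obtain ⟨y, hy, hvy⟩ := D.W_class hu hw huw hv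
  have hvu : ∀ g : H, (x * u * x⁻¹ = g ∨ x * u * x⁻¹ = g * z) → g * u = u * g := by
    rintro g (hg | hg)
    · rw [← hg]; exact hcomm.symm
    · have h5 : g = x * u * x⁻¹ * z := by rw [hg, mul_assoc, L.z2, mul_one]
      rw [h5, mul_assoc, L.zc u, ← mul_assoc, ← hcomm, mul_assoc]
  rcases hy with rfl | rfl | rfl | rfl
  · have h5 : u = 1 ∨ u = z := by
      rcases hvy with h | h
      · left; simpa using h
      · right
        rw [one_mul] at h
        have : u = x⁻¹ * z * x⁻¹⁻¹ := by rw [← h]; group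
        rw [this, L.conj_z]
    rcases h5 with rfl | rfl
    · exact h1 (by group)
    · exact h1 (L.conj_z x)
  · exact hvy.elim h1 h2
  · exact hwu (hvu _ hvy)
  · apply hwu
    have h6 := hvu _ hvy
    have h7 : u * (w * u) = u * (u * w) := by rw [← mul_assoc]; exact h6
    exact mul_left_cancel h7

variable {u v : H}

theorem Swap.u2 (S : Swap z x R Y i j u v) : u * u = 1 ∨ u * u = z := S.E.sq u (mem_cen.1 S.uW).1

theorem conj_sq (L : Loc z x R Y) {s : H} (hs : s = 1 ∨ s = z) (h : H) : h * s * h⁻¹ = s := by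
  rcases hs with rfl | rfl
  · group
  · exact L.conj_z h

theorem Swap.v2 (S : Swap z x R Y i j u v) : v * v = u * u := by
  calc v * v = x * (u * u) * x⁻¹ := by rw [← S.xu]; group
    _ = u * u := conj_sq S.L S.u2 x

theorem Swap.vu (S : Swap z x R Y i j u v) : v * u = u * v * z := by
  rw [S.uv, mul_assoc, S.L.z2, mul_one]

/-- elements `r ∈ R` with `r² = u²` -/
theorem Swap.three [Finite H] (S : Swap z x R Y i j u v) {r : H} (hr : r ∈ R) (hru : r * r = u * u) :
    (x * r * x⁻¹ = r ∨ x * r * x⁻¹ = r * z) ∨ (r = u ∨ r = u * z) ∨ (r = v ∨ r = v * z) := by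
  have L := S.L
  have hzc := L.zc
  have hzz := L.z2
  obtain ⟨y, hy, w, hw, rfl⟩ := S.split hr
  have hxy : x * y * x⁻¹ = y := by rw [L.xY y hy]; group
  have hconj : x * (y * w) * x⁻¹ = y * (x * w * x⁻¹) := by
    calc x * (y * w) * x⁻¹ = (x * y * x⁻¹) * (x * w * x⁻¹) := by group
      _ = y * (x * w * x⁻¹) := by rw [hxy]
  have hsq : (y * w) * (y * w) = (y * y) * (w * w) := by
    have := S.comm_Y hw hy
    calc (y * w) * (y * w) = y * (w * y) * w := by group
      _ = y * (y * w) * w := by rw [this]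
      _ = (y * y) * (w * w) := by group
  obtain ⟨q, hq, hwq⟩ := S.W_class S.uW S.vW S.uv hw
  -- `y = 1` or `y = z` as soon as `w² = u²`
  have hy1 : w * w = u * u → y = 1 ∨ y = z := by
    intro h
    rw [hsq, h] at hru
    exact L.Yinv y hy (by simpa using hru)
  have hsq2 : ∀ g : H, (g * z) * (g * z) = g * g := by
    intro g
    calc (g * z) * (g * z) = g * (z * g) * z := by group
      _ = g * g * (z * z) := by rw [hzc]; group
      _ = g * g := by rw [hzz, mul_one]
  rcases hq with rfl | rfl | rfl | rfl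
  · left; left
    rw [hconj]
    rcases hwq with rfl | rfl
    · simp
    · rw [one_mul, L.conj_z]
  · right; left
    have h1 : w * w = q * q := by
      rcases hwq with rfl | rfl
      · rfl
      · exact hsq2 q
    rcases hy1 h1 with rfl | rfl <;> rcases hwq with rfl | rfl
    · left; simp
    · right; simp
    · right; rw [hzc]
    · left; rw [hzc, mul_assoc, hzz, mul_one]
  · right; right
    have h1 : w * w = u * u := by
      rw [← S.v2]
      rcases hwq with rfl | rfl
      · rfl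
      · exact hsq2 q
    rcases hy1 h1 with rfl | rfl <;> rcases hwq with rfl | rfl
    · left; simp
    · right; simp
    · right; rw [hzc]
    · left; rw [hzc, mul_assoc, hzz, mul_one]
  · left; right
    have h1 : x * (u * v) * x⁻¹ = u * v * z := by
      calc x * (u * v) * x⁻¹ = (x * u * x⁻¹) * (x * v * x⁻¹) := by group
        _ = v * u := by rw [S.xu, S.xv]
        _ = u * v * z := S.vu
    rw [hconj]
    rcases hwq with rfl | rfl
    · rw [h1]; group
    · rw [L.zmul, h1]; group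

end Cfsg.Agent.GH.L3.LocSign
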