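import Mathlib
import Cfsg.Agent.GH.L3.LocSign

/-!
# GH-L3, case B: a normal cyclic subgroup `⟨c⟩` of order 4 (B4b)
-/

set_option autoImplicit false

namespace Cfsg.Agent.GH.L3.LocFour

open Subgroup
open Cfsg.Agent.GH.L3.LocBase Cfsg.Agent.GH.L3.LocExt Cfsg.Agent.GH.L3.LocSign
open Cfsg.Agent.TwoFusion.SectionalRank (ElemSection)
open scoped commutatorElement

variable {H : Type*} [Group H] {z x c : H} {R Y : Subgroup H}

/-- the configuration -/
structure Four (z x c : H) (R Y : Subgroup H) : Prop where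
  L : Loc z x R Y
  cA : ∃ A : Subgroup H, Loc.Ab A ∧ c ∈ A
  c2 : c * c = z
  xc : x * c = c * x

theorem mem_cc (hz : z * z = 1) (hzc : ∀ h : H, z * h = h * z) (hc : c * c = z) {g : H} :
    g ∈ zpowers c ↔ g = 1 ∨ g = z ∨ g = c ∨ g = c * z := by
  constructor
  · intro h
    obtain ⟨k, rfl⟩ := mem_zpowers_iff.1 h
    have h2 : ∀ j : ℤ, c ^ (2 * j) = 1 ∨ c ^ (2 * j) = z := by
      intro j
      rw [zpow_mul, zpow_ofNat, pow_two, hc]
      exact (mem_zz hz).1 (zpow_mem (mem_zpowers z) j)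
    rcases Int.even_or_odd k with ⟨j, hj⟩ | ⟨j, hj⟩
    · rw [hj, ← two_mul]
      rcases h2 j with h | h
      · exact Or.inl h
      · exact Or.inr (Or.inl h)
    · rw [hj, zpow_add_one]
      rcases h2 j with h | h
      · right; right; left
        rw [h, one_mul]
      · right; right; right
        rw [h, hzc]
  · rintro (rfl | rfl | rfl | rfl)
    · exact one_mem _
    · rw [← hc]; exact mul_mem (mem_zpowers c) (mem_zpowers c)
    · exact mem_zpowers _
    · rw [← hc]; exact mul_mem (mem_zpowers c) (mul_mem (mem_zpowers c) (mem_zpowers c))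

theorem card_cc (hz1 : z ≠ 1) (hz : z * z = 1) (hc : c * c = z) : Nat.card (zpowers c) = 4 := by
  rw [Nat.card_zpowers]
  have h1 : c ^ 2 ^ 2 = 1 := by
    rw [show 2 ^ 2 = 2 + 2 by norm_num, pow_add, pow_two, hc, hz]
  have h2 : ¬ c ^ 2 ^ 1 = 1 := by
    rw [pow_one, pow_two, hc]
    exact hz1
  have := orderOf_eq_prime_pow (p := 2) (n := 1) h2 h1
  simpa using this

namespace Four

theorem mc (F : Four z x c R Y) {g : H} : g ∈ zpowers c ↔ g = 1 ∨ g = z ∨ g = c ∨ g = c * z :=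
  mem_cc F.L.z2 F.L.zc F.c2

theorem c1 (F : Four z x c R Y) : c ≠ 1 := by
  intro h
  have := F.c2
  rw [h, one_mul] at this
  exact F.L.z1 this.symm

theorem cz (F : Four z x c R Y) : c ≠ z := by
  intro h
  have := F.c2
  rw [h, F.L.z2] at this
  exact F.L.z1 this.symm

theorem z_mem (F : Four z x c R Y) : z ∈ zpowers c := by
  rw [F.mc]; exact Or.inr (Or.inl rfl)

theorem conj_c [Finite H] (F : Four z x c R Y) (h : H) : h * c * h⁻¹ = c ∨ h * c * h⁻¹ = c * z := by
  obtain ⟨A, hA, hc⟩ := F.cA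
  refine Loc.root_two F.L hA hc (hA.n.conj_mem c hc h) ?_
  calc c * c = z := F.c2
    _ = h * z * h⁻¹ := (F.L.conj_z h).symm
    _ = h * c * h⁻¹ * (h * c * h⁻¹) := by rw [← F.c2]; group

/-- a normal abelian 2-subgroup containing `c` -/
theorem ab_c [Finite H] (F : Four z x c R Y) {B : Subgroup H} (hB : Loc.Ab B) (hc : c ∈ B) :
    ∀ b ∈ B, b ∈ zpowers c := by
  have L := F.L
  rcases Loc.abelian L hB with h | ⟨d, hd, hd2, -, h⟩
  · rcases h c hc with h1 | h1
    · exact absurd h1 F.c1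
    · exact absurd h1 F.cz
  · intro b hb
    rw [F.mc]
    have hcd : c = d ∨ c = d * z := by
      rcases h c hc with h1 | h1 | h1 | h1
      · exact absurd h1 F.c1
      · exact absurd h1 F.cz
      · exact Or.inl h1
      · exact Or.inr h1
    rcases hcd with rfl | rfl
    · exact h b hb
    · rcases h b hb with h1 | h1 | h1 | h1
      · exact Or.inl h1
      · exact Or.inr (Or.inl h1)
      · right; right; right
        rw [h1, mul_assoc, L.z2, mul_one]
      · exact Or.inr (Or.inr (Or.inl h1))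

/-- `C_R(c)` -/
def R0 (R : Subgroup H) (c : H) : Subgroup H := R ⊓ centralizer {c}

theorem mem_R0 {g : H} : g ∈ R0 R c ↔ g ∈ R ∧ g * c = c * g := by
  rw [R0, mem_inf, mem_centralizer_singleton_iff]

theorem comm_conj [Finite H] (F : Four z x c R Y) {g : H} (hg : g * c = c * g) (h : H) :
    (h * g * h⁻¹) * c = c * (h * g * h⁻¹) := by
  have h1 : g * (h⁻¹ * c * h) = (h⁻¹ * c * h) * g := by
    rcases F.conj_c h⁻¹ with h2 | h2 <;> rw [inv_inv] at h2 <;> rw [h2]
    · exact hg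
    · rw [← mul_assoc, hg, mul_assoc, ← F.L.zc g, ← mul_assoc]
  calc (h * g * h⁻¹) * c = h * (g * (h⁻¹ * c * h)) * h⁻¹ := by group
    _ = h * ((h⁻¹ * c * h) * g) * h⁻¹ := by rw [h1]
    _ = c * (h * g * h⁻¹) := by group

theorem R0n [Finite H] (F : Four z x c R Y) : (R0 R c).Normal := by
  constructor
  intro n hn g
  rw [mem_R0] at hn ⊢
  exact ⟨F.L.Rn.conj_mem n hn.1 g, F.comm_conj hn.2 g⟩

theorem cR (F : Four z x c R Y) : c ∈ R := by
  obtain ⟨A, hA, hc⟩ := F.cA
  exact F.L.Rm A hA.n hA.p hc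

theorem cR0 (F : Four z x c R Y) : c ∈ R0 R c := mem_R0.2 ⟨F.cR, rfl⟩

theorem cY (F : Four z x c R Y) {y : H} (hy : y ∈ Y) : c * y = y * c := by
  obtain ⟨A, hA, hc⟩ := F.cA
  exact F.L.comY A hA.n hA.p hA.c c hc F.xc.symm y hy

theorem YR0 (F : Four z x c R Y) : Y ≤ R0 R c := fun _ hy => mem_R0.2 ⟨F.L.YR hy, (F.cY hy).symm⟩

theorem comm_cc (F : Four z x c R Y) {r k : H} (hr : r ∈ R0 R c) (hk : k ∈ zpowers c) : r * k = k * r := by
  have hc := (mem_R0.1 hr).2
  rcases F.mc.1 hk with rfl | rfl | rfl | rfl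
  · simp
  · exact (F.L.zc r).symm
  · exact hc
  · rw [← mul_assoc, hc, mul_assoc, ← F.L.zc r, ← mul_assoc]

/-- the centre of `C_R(c)` -/
theorem center [Finite H] (F : Four z x c R Y) {r : H} (hr : r ∈ R0 R c) (h : ∀ s ∈ R0 R c, r * s = s * r) :
    r ∈ zpowers c := by
  have hn := F.R0n
  refine F.ab_c (ab_center F.L hn inf_le_left) ⟨F.cR0, mem_centralizer_iff.2 fun s hs => ?_⟩ r
    ⟨hr, mem_centralizer_iff.2 fun s hs => (h s hs).symm⟩
  exact (mem_R0.1 hs).2

/-- elements of `C_R(c)` whose image in `C_R(c)/⟨c⟩` is central of order at most 2 -/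
def Nn (R : Subgroup H) (c n : H) : Prop :=
  n ∈ R0 R c ∧ n * n ∈ zpowers c ∧ ∀ r ∈ R0 R c, ⁅r, n⁆ ∈ zpowers c

theorem cc_conj [Finite H] (F : Four z x c R Y) {k : H} (hk : k ∈ zpowers c) (h : H) : h * k * h⁻¹ ∈ zpowers c := by
  rcases F.mc.1 hk with rfl | rfl | rfl | rfl
  · rw [mul_one, mul_inv_cancel]; exact one_mem _
  · rw [F.L.conj_z]; exact hk
  · rw [F.mc]
    rcases F.conj_c h with h1 | h1
    · exact Or.inr (Or.inr (Or.inl h1))
    · exact Or.inr (Or.inr (Or.inr h1))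
  · rw [F.L.zmul, F.mc]
    rcases F.conj_c h with h1 | h1
    · right; right; right; rw [h1]
    · right; right; left; rw [h1, mul_assoc, F.L.z2, mul_one]

theorem Nn_conj [Finite H] (F : Four z x c R Y) {n : H} (hn : Nn R c n) (h : H) : Nn R c (h * n * h⁻¹) := by
  refine ⟨F.R0n.conj_mem n hn.1 h, ?_, fun r hr => ?_⟩
  · have : h * n * h⁻¹ * (h * n * h⁻¹) = h * (n * n) * h⁻¹ := by group
    rw [this]
    exact F.cc_conj hn.2.1 h
  · have h1 := F.cc_conj (hn.2.2 (h⁻¹ * r * h⁻¹⁻¹) (F.R0n.conj_mem r hr h⁻¹)) h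
    have : ⁅r, h * n * h⁻¹⁆ = h * ⁅h⁻¹ * r * h⁻¹⁻¹, n⁆ * h⁻¹ := by
      simp only [commutatorElement_def]; group
    rw [this]
    exact h1

theorem Nn_c (F : Four z x c R Y) : Nn R c c := by
  refine ⟨F.cR0, ?_, fun r hr => ?_⟩
  · rw [F.c2]; exact F.z_mem
  · have : ⁅r, c⁆ = 1 := by
      rw [commutatorElement_eq_one_iff_mul_comm]
      exact (mem_R0.1 hr).2
    rw [this]; exact one_mem _

/-- claim 1 -/
theorem mem_of_comm_Nn [Finite H] (F : Four z x c R Y) {r : H} (hr : r ∈ R0 R c)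
    (h : ∀ n, Nn R c n → r * n = n * r) : r ∈ zpowers c := by
  have : Fact (Nat.Prime 2) := ⟨Nat.prime_two⟩
  have L := F.L
  -- elements which are in `N` and commute with `N` lie in `⟨c⟩`
  have key : ∀ u, Nn R c u → (∀ n, Nn R c n → u * n = n * u) → u ∈ zpowers c := by
    intro u hu hun
    set S : Set H := {u | Nn R c u ∧ ∀ n, Nn R c n → u * n = n * u} with hS
    have hle : closure S ≤ R := by
      rw [closure_le]
      intro w hw
      exact (mem_R0.1 hw.1.1).1
    have hab : Loc.Ab (closure S) := by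
      refine ⟨?_, L.R2.to_le hle, ?_⟩
      · constructor
        intro n hn g
        induction hn using closure_induction with
        | mem y hy =>
          refine subset_closure ⟨F.Nn_conj hy.1 g, fun n hn => ?_⟩
          have h1 := hy.2 _ (F.Nn_conj hn g⁻¹)
          calc g * y * g⁻¹ * n = g * (y * (g⁻¹ * n * g⁻¹⁻¹)) * g⁻¹ := by group
            _ = g * ((g⁻¹ * n * g⁻¹⁻¹) * y) * g⁻¹ := by rw [h1]
            _ = n * (g * y * g⁻¹) := by group
        | one => rw [mul_one, mul_inv_cancel]; exact one_mem _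
        | mul a b _ _ ha hb =>
          have : g * (a * b) * g⁻¹ = (g * a * g⁻¹) * (g * b * g⁻¹) := by group
          rw [this]
          exact mul_mem ha hb
        | inv a _ ha =>
          have : g * a⁻¹ * g⁻¹ = (g * a * g⁻¹)⁻¹ := by group
          rw [this]
          exact inv_mem ha
      · intro a ha b hb
        have hcomm : closure S ≤ centralizer (S : Set H) := by
          rw [closure_le]
          intro w hw
          refine mem_centralizer_iff.2 fun w' hw' => ?_
          exact hw'.2 w hw.1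
        have h2 : S ⊆ (centralizer (closure S : Set H) : Set H) := by
          intro w hw
          refine mem_centralizer_iff.2 fun w' hw' => ?_
          exact (mem_centralizer_iff.1 (hcomm hw') w hw).symm
        have h3 : closure S ≤ centralizer (closure S : Set H) := by
          rw [closure_le]; exact h2
        exact (mem_centralizer_iff.1 (h3 ha) b hb).symm
    refine F.ab_c hab (subset_closure ⟨F.Nn_c, fun n hn => ?_⟩) u (subset_closure ⟨hu, hun⟩)
    exact (mem_R0.1 hn.1).2.symm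
  set U : Subgroup H := R0 R c ⊓ centralizer {n | Nn R c n} with hU
  have hUn : ∀ g : H, ∀ w ∈ U, g * w * g⁻¹ ∈ U := by
    intro g w hw
    refine ⟨F.R0n.conj_mem w hw.1 g, mem_centralizer_iff.2 fun n hn => ?_⟩
    have h1 := mem_centralizer_iff.1 hw.2 _ (F.Nn_conj hn g⁻¹)
    calc n * (g * w * g⁻¹) = g * ((g⁻¹ * n * g⁻¹⁻¹) * w) * g⁻¹ := by group
      _ = g * (w * (g⁻¹ * n * g⁻¹⁻¹)) * g⁻¹ := by rw [h1]
      _ = g * w * g⁻¹ * n := by group
  by_contra hcon
  obtain ⟨w, hw, hwc, hwr⟩ := Cfsg.Agent.GTwoFour.Tools.exists_fixed_mod (p := 2) (Y := R0 R c) (N := U)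
    (M := zpowers c) (L.R2.to_le inf_le_left) inf_le_left (fun y _ n hn => hUn y n hn)
    (fun y _ m hm => F.cc_conj hm y)
    ⟨r, ⟨hr, mem_centralizer_iff.2 fun n hn => (h n hn).symm⟩, hcon⟩
  -- a power of `w` is in `N`
  obtain ⟨k, hk⟩ := L.R2 ⟨w, (mem_R0.1 hw.1).1⟩
  have hk' : w ^ 2 ^ k = 1 := by simpa using congrArg Subtype.val hk
  classical
  have hex : ∃ k : ℕ, w ^ 2 ^ k ∈ zpowers c := ⟨k, by rw [hk']; exact one_mem _⟩
  obtain ⟨m, hm, hmin⟩ := Nat.findX hex
  match m, hm, hmin with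
  | 0, hm, _ => exact hwc (by simpa using hm)
  | m + 1, hm, hmin =>
    have h1 : w ^ 2 ^ m ∉ zpowers c := hmin m (Nat.lt_succ_self m)
    apply h1
    have hwU : w ^ 2 ^ m ∈ U := pow_mem hw _
    refine key _ ⟨hwU.1, ?_, ?_⟩ fun n hn => (mem_centralizer_iff.1 hwU.2 n hn).symm
    · rw [← pow_add, ← two_mul, ← pow_succ']
      exact hm
    · intro s hs
      have h2 : ∀ e : ℕ, ⁅s, w ^ e⁆ ∈ zpowers c := by
        intro e
        induction e with
        | zero => simp
        | succ e ih =>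
          have e1 : ⁅s, w ^ (e + 1)⁆ = ⁅s, w ^ e⁆ * (w ^ e * ⁅s, w⁆ * (w ^ e)⁻¹) := by
            simp only [commutatorElement_def, pow_succ]; group
          rw [e1]
          exact mul_mem ih (F.cc_conj (hwr s hs) _)
      exact h2 _

/-- claim 2 -/
theorem Nn_comm (F : Four z x c R Y) {n r : H} (hn : Nn R c n) (hr : r ∈ R0 R c) :
    r * n * r⁻¹ = n ∨ r * n * r⁻¹ = n * z := by
  have L := F.L
  have h1 := hn.2.2 r hr
  have h0 : n * ⁅r, n⁆ = ⁅r, n⁆ * n := F.comm_cc hn.1 h1
  have h2 : r * n * r⁻¹ = ⁅r, n⁆ * n := by rw [commutatorElement_def]; group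
  have h3 : r * (n * n) * r⁻¹ = n * n := by
    rw [mul_inv_eq_iff_eq_mul]
    exact F.comm_cc hr hn.2.1
  have h4 : ⁅r, n⁆ * ⁅r, n⁆ = 1 := by
    have h5 : (⁅r, n⁆ * ⁅r, n⁆) * (n * n) = n * n := by
      calc (⁅r, n⁆ * ⁅r, n⁆) * (n * n) = ⁅r, n⁆ * (⁅r, n⁆ * n) * n := by group
        _ = ⁅r, n⁆ * (n * ⁅r, n⁆) * n := by rw [h0]
        _ = (⁅r, n⁆ * n) * (⁅r, n⁆ * n) := by group
        _ = (r * n * r⁻¹) * (r * n * r⁻¹) := by rw [h2]
        _ = r * (n * n) * r⁻¹ := by group
        _ = n * n := h3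
    exact mul_eq_right.1 h5
  rcases F.mc.1 h1 with h | h | h | h
  · left; rw [h2, h, one_mul]
  · right; rw [h2, h, L.zc]
  · exfalso
    rw [h, F.c2] at h4
    exact L.z1 h4
  · exfalso
    rw [h] at h4
    have : c * z * (c * z) = z := by
      calc c * z * (c * z) = c * (z * c) * z := by group
        _ = (c * c) * (z * z) := by rw [L.zc]; group
        _ = z := by rw [F.c2, L.z2, mul_one]
    rw [this] at h4
    exact L.z1 h4

/-- claim 3 -/
theorem sq_mem [Finite H] (F : Four z x c R Y) {r : H} (hr : r ∈ R0 R c) : r * r ∈ zpowers c := by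
  refine F.mem_of_comm_Nn (mul_mem hr hr) fun n hn => ?_
  have h3 : r * r * n = r * (r * n * r⁻¹) * r⁻¹ * (r * r) := by group
  rw [h3]
  rcases F.Nn_comm hn hr with h2 | h2
  · rw [h2, h2]
  · rw [h2, F.L.zmul, h2, mul_assoc n z z, F.L.z2, mul_one]

/-- claim 4 -/
theorem all_Nn [Finite H] (F : Four z x c R Y) {r : H} (hr : r ∈ R0 R c) : Nn R c r := by
  refine ⟨hr, F.sq_mem hr, fun s hs => ?_⟩
  have e1 : ⁅s, r⁆ = (s * r) * (s * r) * (r⁻¹ * (s⁻¹ * s⁻¹) * r⁻¹⁻¹) * (r⁻¹ * r⁻¹) := by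
    rw [commutatorElement_def]; group
  rw [e1]
  refine mul_mem (mul_mem (F.sq_mem (mul_mem hs hr)) ?_) (F.sq_mem (inv_mem hr))
  exact F.cc_conj (F.sq_mem (inv_mem hs)) _

theorem comm0 [Finite H] (F : Four z x c R Y) {a b : H} (ha : a ∈ R0 R c) (hb : b ∈ R0 R c) :
    a * b = b * a ∨ a * b = b * a * z := by
  rcases F.Nn_comm (F.all_Nn hb) ha with h | h
  · exact Or.inl (mul_inv_eq_iff_eq_mul.1 h)
  · right
    rw [mul_inv_eq_iff_eq_mul.1 h, mul_assoc, F.L.zc, ← mul_assoc]

theorem zR0 (F : Four z x c R Y) : z ∈ R0 R c := F.YR0 F.L.zY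

theorem card_R0 [Finite H] (F : Four z x c R Y) : Nat.card (R0 R c) ≤ 64 := by
  have h1 : ElemSection 2 (R0 R c) (zpowers c) := by
    refine ⟨by rw [zpowers_le]; exact F.cR0, fun a ha b hb => ?_, fun a ha => ?_⟩
    · exact (F.all_Nn hb).2.2 a ha
    · rw [pow_two]; exact F.sq_mem ha
  have h2 := F.L.rank (R0 R c) (zpowers c) inf_le_left h1
  rw [card_cc F.L.z1 F.L.z2 F.c2] at h2
  omega

theorem card_R0' [Finite H] (F : Four z x c R Y) (h : ∀ r ∈ R0 R c, r * r = 1 ∨ r * r = z) :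
    Nat.card (R0 R c) ≤ 32 := by
  have L := F.L
  have h1 : ElemSection 2 (R0 R c) (zpowers z) := by
    refine ⟨by rw [zpowers_le]; exact F.zR0, fun a ha b hb => ?_, fun a ha => ?_⟩
    · rw [mem_zz L.z2]
      rcases F.comm0 ha hb with h | h
      · left; rw [h]; group
      · right
        calc a * b * a⁻¹ * b⁻¹ = b * a * z * a⁻¹ * b⁻¹ := by rw [h]
          _ = b * a * (z * (a⁻¹ * b⁻¹)) := by group
          _ = z := by rw [L.zc]; group
    · rw [mem_zz L.z2, pow_two]
      exact h a ha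
  have h2 := F.L.rank (R0 R c) (zpowers z) inf_le_left h1
  rw [card_zz L.z1 L.z2] at h2
  omega

variable {i j : H}

/-- `W₀ = C_{R₀}(Y)` -/
theorem split0 [Finite H] (F : Four z x c R Y) (G : Gen z Y i j) {r : H} (hr : r ∈ R0 R c) :
    ∃ y ∈ Y, ∃ w ∈ cen (R0 R c) i j, r = y * w := by
  have h1 := F.comm0 hr (F.YR0 G.iY)
  have h2 := F.comm0 hr (F.YR0 G.jY)
  obtain ⟨y, hy, h3, h4⟩ := pair F.L G.ij h1 h2
  have hyY : y ∈ Y := by
    rcases hy with rfl | rfl | rfl | rfl
    · exact Y.one_mem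
    · exact G.iY
    · exact G.jY
    · exact Y.mul_mem G.iY G.jY
  exact ⟨y, hyY, y⁻¹ * r, mem_cen.2 ⟨mul_mem (inv_mem (F.YR0 hyY)) hr, h3, h4⟩, by group⟩

theorem comm_Y0 (F : Four z x c R Y) (G : Gen z Y i j) {w y : H} (hw : w ∈ cen (R0 R c) i j) (hy : y ∈ Y) :
    w * y = y * w :=
  Gen.comm F.L G (mem_cen.1 hw).2.1 (mem_cen.1 hw).2.2 y hy

theorem central0 [Finite H] (F : Four z x c R Y) (G : Gen z Y i j) {g : H} (hg : g ∈ R0 R c)
    (hY : ∀ y ∈ Y, g * y = y * g) (hW : ∀ w ∈ cen (R0 R c) i j, g * w = w * g) : g ∈ zpowers c := by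
  refine F.center hg fun r hr => ?_
  obtain ⟨y, hy, w, hw, rfl⟩ := F.split0 G hr
  rw [← mul_assoc, hY y hy, mul_assoc, hW w hw, mul_assoc]

theorem card_W0 [Finite H] (F : Four z x c R Y) (G : Gen z Y i j) : 4 * Nat.card (cen (R0 R c) i j) ≤ Nat.card (R0 R c) :=
  card_cen F.L.z1 (F.YR0 G.iY) (F.YR0 G.jY) G.ij

theorem cW0 (F : Four z x c R Y) (G : Gen z Y i j) : c ∈ cen (R0 R c) i j :=
  mem_cen.2 ⟨F.cR0, F.cY G.iY, F.cY G.jY⟩

/-- the classes of `W₀` -/
theorem W0_class [Finite H] (F : Four z x c R Y) (G : Gen z Y i j) {p q : H} (hp : p ∈ cen (R0 R c) i j)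
    (hq : q ∈ cen (R0 R c) i j) (hpq : p * q = q * p * z) {w : H} (hw : w ∈ cen (R0 R c) i j) :
    ∃ y : H, (y = 1 ∨ y = p ∨ y = q ∨ y = p * q) ∧ y⁻¹ * w ∈ zpowers c := by
  have h0 := F.card_W0 G
  have h64 := F.card_R0
  have h1 := card_cen F.L.z1 hp hq hpq
  have hcle : zpowers c ≤ cen (cen (R0 R c) i j) p q := by
    rw [zpowers_le, mem_cen]
    exact ⟨F.cW0 G, (mem_R0.1 (mem_cen.1 hp).1).2.symm, (mem_R0.1 (mem_cen.1 hq).1).2.symm⟩
  have heq : zpowers c = cen (cen (R0 R c) i j) p q := by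
    refine SetLike.coe_injective (Set.eq_of_subset_of_ncard_le hcle ?_ (Set.toFinite _))
    rw [← Nat.card_coe_set_eq, ← Nat.card_coe_set_eq]
    have := card_cc F.L.z1 F.L.z2 F.c2
    show Nat.card (cen (cen (R0 R c) i j) p q) ≤ Nat.card (zpowers c)
    omega
  obtain ⟨y, hy, h3, h4⟩ := pair F.L hpq (F.comm0 (mem_cen.1 hw).1 (mem_cen.1 hp).1)
    (F.comm0 (mem_cen.1 hw).1 (mem_cen.1 hq).1)
  have hyW : y ∈ cen (R0 R c) i j := by
    rcases hy with rfl | rfl | rfl | rfl
    · exact one_mem _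
    · exact hp
    · exact hq
    · exact mul_mem hp hq
  refine ⟨y, hy, ?_⟩
  rw [heq, mem_cen]
  exact ⟨mul_mem (inv_mem hyW) hw, h3, h4⟩

theorem card_ge [Finite H] (F : Four z x c R Y) (G : Gen z Y i j) {p q : H} (hp : p ∈ cen (R0 R c) i j)
    (hq : q ∈ cen (R0 R c) i j) (hpq : p * q = q * p * z) : 64 ≤ Nat.card (R0 R c) := by
  have h0 := F.card_W0 G
  have h1 := card_cen F.L.z1 hp hq hpq
  have hcle : zpowers c ≤ cen (cen (R0 R c) i j) p q := by
    rw [zpowers_le, mem_cen]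
    exact ⟨F.cW0 G, (mem_R0.1 (mem_cen.1 hp).1).2.symm, (mem_R0.1 (mem_cen.1 hq).1).2.symm⟩
  have h2 := card_le_of_le hcle
  rw [card_cc F.L.z1 F.L.z2 F.c2] at h2
  omega

/-- squares of elements of `R₀` with square in `⟨z⟩` -/
def Q1 (z g : H) : Prop := g * g = 1 ∨ g * g = z

theorem q1_mul (F : Four z x c R Y) {a b : H} (ha : Q1 z a) (hb : Q1 z b) (hab : a * b = b * a ∨ a * b = b * a * z) :
    Q1 z (a * b) := by
  have L := F.L
  have e : (a * b) * (a * b) = (a * a) * (b * b) ∨ (a * b) * (a * b) = (a * a) * (b * b) * z := by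
    rcases hab with h | h
    · left
      calc (a * b) * (a * b) = a * (b * a) * b := by group
        _ = a * (a * b) * b := by rw [h]
        _ = (a * a) * (b * b) := by group
    · right
      have h' : b * a = a * b * z := by rw [h, mul_assoc, L.z2, mul_one]
      calc (a * b) * (a * b) = a * (b * a) * b := by group
        _ = a * (a * b * z) * b := by rw [h']
        _ = (a * a) * b * (z * b) := by group
        _ = (a * a) * (b * b) * z := by rw [L.zc]; group
  have hz2 := L.z2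
  rcases e with e | e <;> rcases ha with h1 | h1 <;> rcases hb with h2 | h2 <;> rw [h1, h2] at e
  · left; rw [e, one_mul]
  · right; rw [e, one_mul]
  · right; rw [e, mul_one]
  · left; rw [e, hz2]
  · right; rw [e, one_mul, one_mul]
  · left; rw [e, one_mul, hz2]
  · left; rw [e, mul_one, hz2]
  · right; rw [e, hz2, one_mul]

theorem q1_cc (F : Four z x c R Y) {k : H} (hk : k ∈ zpowers c) : Q1 z k := by
  have L := F.L
  rcases F.mc.1 hk with rfl | rfl | rfl | rfl
  · left; simp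
  · left; exact L.z2
  · right; exact F.c2
  · right
    calc c * z * (c * z) = c * (z * c) * z := by group
      _ = (c * c) * (z * z) := by rw [L.zc]; group
      _ = z := by rw [F.c2, L.z2, mul_one]

theorem ccW0 (F : Four z x c R Y) (G : Gen z Y i j) {k : H} (hk : k ∈ zpowers c) : k ∈ cen (R0 R c) i j := by
  have : zpowers c ≤ cen (R0 R c) i j := by rw [zpowers_le]; exact F.cW0 G
  exact this hk

/-- `W₀ = ⟨c⟩` -/
theorem W0_eq [Finite H] (F : Four z x c R Y) (G : Gen z Y i j) {w0 : H} (hw0 : w0 ∈ cen (R0 R c) i j) :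
    w0 ∈ zpowers c := by
  by_contra hw0c
  have L := F.L
  -- noncommuting partner
  have part : ∀ w ∈ cen (R0 R c) i j, w ∉ zpowers c → ∃ v ∈ cen (R0 R c) i j, w * v = v * w * z := by
    intro w hw hwc
    by_contra hcon
    push Not at hcon
    exact hwc (F.central0 G (mem_cen.1 hw).1 (fun y hy => F.comm_Y0 G hw hy) fun v hv =>
      (F.comm0 (mem_cen.1 hw).1 (mem_cen.1 hv).1).resolve_right (hcon v hv))
  have hone : ∀ g : H, g * z ≠ g := fun g h => L.z1 (by simpa using h)
  -- two noncommuting elements with square in `⟨z⟩`: contradiction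
  have kill : ∀ p ∈ cen (R0 R c) i j, ∀ q ∈ cen (R0 R c) i j, p * q = q * p * z → Q1 z p → Q1 z q → False := by
    intro p hp q hq hpq h1 h2
    have hW : ∀ w ∈ cen (R0 R c) i j, Q1 z w := by
      intro w hw
      obtain ⟨y, hy, hyw⟩ := F.W0_class G hp hq hpq hw
      have hyQ : Q1 z y := by
        rcases hy with rfl | rfl | rfl | rfl
        · left; simp
        · exact h1
        · exact h2
        · exact F.q1_mul h1 h2 (Or.inr hpq)
      have hyW : y ∈ cen (R0 R c) i j := by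
        rcases hy with rfl | rfl | rfl | rfl
        · exact one_mem _
        · exact hp
        · exact hq
        · exact mul_mem hp hq
      have h3 := F.q1_mul hyQ (F.q1_cc hyw) (F.comm0 (mem_cen.1 hyW).1 (mem_cen.1 (F.ccW0 G hyw)).1)
      rwa [mul_inv_cancel_left] at h3
    have h32 : Nat.card (R0 R c) ≤ 32 := by
      refine F.card_R0' fun r hr => ?_
      obtain ⟨y, hy, w, hw, rfl⟩ := F.split0 G hr
      exact F.q1_mul (L.Ysq y hy) (hW w hw) (F.comm0 (F.YR0 hy) (mem_cen.1 hw).1)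
    have h64 := F.card_ge G hp hq hpq
    omega
  -- some `w' ∈ W₀ - ⟨c⟩` has square in `⟨z⟩`
  have hex : ∃ w ∈ cen (R0 R c) i j, w ∉ zpowers c ∧ Q1 z w := by
    by_contra hcon
    push Not at hcon
    obtain ⟨w1, hw1, h01⟩ := part w0 hw0 hw0c
    have hw1c : w1 ∉ zpowers c := by
      intro h
      have h2 := F.comm_cc (mem_cen.1 hw0).1 h
      rw [h01] at h2
      exact hone _ h2
    have hsq : ∀ w ∈ cen (R0 R c) i j, w ∉ zpowers c → w * w = c ∨ w * w = c * z := by
      intro w hw hwc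
      have h3 := hcon w hw hwc
      rcases F.mc.1 (F.sq_mem (mem_cen.1 hw).1) with h | h | h | h
      · exact absurd (Or.inl h) h3
      · exact absurd (Or.inr h) h3
      · exact Or.inl h
      · exact Or.inr h
    have hprod : w0 * w1 ∉ zpowers c := by
      intro h
      have h2 := F.comm_cc (mem_cen.1 hw0).1 h
      have h3 : w0 * w1 = w1 * w0 := by
        have : w0 * (w0 * w1) = w0 * (w1 * w0) := by rw [h2]; group
        exact mul_left_cancel this
      rw [h01] at h3
      exact hone _ h3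
    refine hcon (w0 * w1) (mul_mem hw0 hw1) hprod ?_
    have h' : w1 * w0 = w0 * w1 * z := by rw [h01, mul_assoc, L.z2, mul_one]
    have e : (w0 * w1) * (w0 * w1) = (w0 * w0) * (w1 * w1) * z := by
      calc (w0 * w1) * (w0 * w1) = w0 * (w1 * w0) * w1 := by group
        _ = w0 * (w0 * w1 * z) * w1 := by rw [h']
        _ = (w0 * w0) * w1 * (z * w1) := by group
        _ = (w0 * w0) * (w1 * w1) * z := by rw [L.zc]; group
    have hcc := F.c2
    have hz2 := L.z2
    rcases hsq w0 hw0 hw0c with h1 | h1 <;> rcases hsq w1 hw1 hw1c with h2 | h2 <;> rw [h1, h2] at e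
    · left; rw [e, hcc, hz2]
    · right
      rw [e]
      calc c * (c * z) * z = (c * c) * (z * z) := by group
        _ = z := by rw [hcc, hz2, mul_one]
    · right
      rw [e]
      calc c * z * c * z = c * (z * c) * z := by group
        _ = (c * c) * (z * z) := by rw [L.zc]; group
        _ = z := by rw [hcc, hz2, mul_one]
    · left
      rw [e]
      calc c * z * (c * z) * z = c * (z * c) * (z * z) := by group
        _ = (c * c) * z * (z * z) := by rw [L.zc]; group
        _ = 1 := by rw [hcc, hz2, one_mul]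
  obtain ⟨w', hw', hwc', hwq'⟩ := hex
  -- `w'` is in the centre of `N₁ = {r ∈ R₀ | r² ∈ ⟨z⟩}`
  have hcen : ∀ r ∈ R0 R c, Q1 z r → r * w' = w' * r := by
    intro r hr hrq
    obtain ⟨y, hy, w, hw, rfl⟩ := F.split0 G hr
    have hyi : Q1 z y⁻¹ := by
      rcases L.Ysq _ (Y.inv_mem hy) with h | h
      · exact Or.inl h
      · exact Or.inr h
    have hwq : Q1 z w := by
      have h3 := F.q1_mul hyi hrq (F.comm0 (inv_mem (F.YR0 hy)) hr)
      rwa [inv_mul_cancel_left] at h3
    have h4 : w * w' = w' * w := by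
      rcases F.comm0 (mem_cen.1 hw).1 (mem_cen.1 hw').1 with h | h
      · exact h
      · exact (kill w hw w' hw' h hwq hwq').elim
    rw [mul_assoc, h4, ← mul_assoc, ← F.comm_Y0 G hw' hy, mul_assoc]
  set S : Set H := {u | (u ∈ R0 R c ∧ Q1 z u) ∧ ∀ r ∈ R0 R c, Q1 z r → r * u = u * r} with hS
  have hSconj : ∀ u ∈ S, ∀ g : H, g * u * g⁻¹ ∈ S := by
    rintro u ⟨⟨hu, huq⟩, huc⟩ g
    have hq : ∀ a : H, Q1 z a → ∀ g : H, Q1 z (g * a * g⁻¹) := by
      intro a ha g
      have e : g * a * g⁻¹ * (g * a * g⁻¹) = g * (a * a) * g⁻¹ := by group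
      rcases ha with h | h
      · left; rw [e, h]; group
      · right; rw [e, h, L.conj_z]
    refine ⟨⟨F.R0n.conj_mem u hu g, hq u huq g⟩, fun r hr hrq => ?_⟩
    have h1 := huc (g⁻¹ * r * g⁻¹⁻¹) (F.R0n.conj_mem r hr g⁻¹) (hq r hrq g⁻¹)
    calc r * (g * u * g⁻¹) = g * ((g⁻¹ * r * g⁻¹⁻¹) * u) * g⁻¹ := by group
      _ = g * (u * (g⁻¹ * r * g⁻¹⁻¹)) * g⁻¹ := by rw [h1]
      _ = g * u * g⁻¹ * r := by group
  have hle : closure S ≤ R := by
    rw [closure_le]
    intro w hw
    exact (mem_R0.1 hw.1.1).1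
  have hab : Loc.Ab (closure S) := by
    refine ⟨?_, L.R2.to_le hle, ?_⟩
    · constructor
      intro n hn g
      induction hn using closure_induction with
      | mem y hy => exact subset_closure (hSconj y hy g)
      | one => rw [mul_one, mul_inv_cancel]; exact one_mem _
      | mul a b _ _ ha hb =>
        have : g * (a * b) * g⁻¹ = (g * a * g⁻¹) * (g * b * g⁻¹) := by group
        rw [this]
        exact mul_mem ha hb
      | inv a _ ha =>
        have : g * a⁻¹ * g⁻¹ = (g * a * g⁻¹)⁻¹ := by group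
        rw [this]
        exact inv_mem ha
    · intro a ha b hb
      have hcomm : closure S ≤ centralizer (S : Set H) := by
        rw [closure_le]
        intro w hw
        refine mem_centralizer_iff.2 fun w' hw' => ?_
        exact (hw.2 w' hw'.1.1 hw'.1.2)
      have h2 : S ⊆ (centralizer (closure S : Set H) : Set H) := by
        intro w hw
        refine mem_centralizer_iff.2 fun w' hw' => ?_
        exact (mem_centralizer_iff.1 (hcomm hw') w hw).symm
      have h3 : closure S ≤ centralizer (closure S : Set H) := by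
        rw [closure_le]; exact h2
      exact (mem_centralizer_iff.1 (h3 ha) b hb).symm
  apply hwc'
  refine F.ab_c hab (subset_closure ⟨⟨F.cR0, Or.inr F.c2⟩, fun r hr _ => (mem_R0.1 hr).2⟩) w'
    (subset_closure ⟨⟨(mem_cen.1 hw').1, hwq'⟩, hcen⟩)

/-- **(B4b)** -/
theorem false_of_four [Finite H] (F : Four z x c R Y) : False := by
  have L := F.L
  obtain ⟨i, j, G⟩ := exists_gen L
  have hxR : x ∉ R := by
    intro hx
    have h1 : x ∈ cen (R0 R c) i j := mem_cen.2 ⟨mem_R0.2 ⟨hx, F.xc⟩, L.xY i G.iY, L.xY j G.jY⟩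
    have h2 := F.W0_eq G h1
    rcases F.mc.1 h2 with h | h | h | h
    · exact L.x1 h
    · exact L.xz h
    · have := L.x2
      rw [h, F.c2] at this
      exact L.z1 this
    · have := L.x2
      rw [h] at this
      rcases F.q1_cc (F.mc.2 (Or.inr (Or.inr (Or.inr rfl)))) with h3 | h3
      · have h4 : c * z * (c * z) = z := by
          calc c * z * (c * z) = c * (z * c) * z := by group
            _ = (c * c) * (z * z) := by rw [L.zc]; group
            _ = z := by rw [F.c2, L.z2, mul_one]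
        rw [h4] at h3
        exact L.z1 h3
      · rw [h3] at this
        exact L.z1 this
  have hn := F.R0n
  apply hxR
  refine L.Rm (centralizer (R0 R c : Set H)) inferInstance ?_ ?_
  · rintro ⟨h, hh⟩
    have hc : h * c = c * h := (mem_centralizer_iff.1 hh c F.cR0).symm
    have h8 : h ^ 8 ∈ R := by
      refine L.Rc _ fun r hr => ?_
      set ζ := r⁻¹ * (h * r * h⁻¹) with hζ
      have hζR : ζ ∈ R := mul_mem (inv_mem hr) (L.Rn.conj_mem r hr h)
      have hcr : h * (r * c * r⁻¹) * h⁻¹ = r * c * r⁻¹ := by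
        rcases F.conj_c r with h1 | h1 <;> rw [h1]
        · rw [hc]; group
        · rw [L.zmul, hc]; group
      have hζc : ζ * c = c * ζ := by
        have e1 : (h * r * h⁻¹) * c * (h * r * h⁻¹)⁻¹ = h * (r * (h⁻¹ * c * h) * r⁻¹) * h⁻¹ := by group
        have e2 : h⁻¹ * c * h = c := by rw [mul_assoc, ← hc, inv_mul_cancel_left]
        rw [e2, hcr] at e1
        have e3 : (h * r * h⁻¹) * c = r * c * r⁻¹ * (h * r * h⁻¹) := mul_inv_eq_iff_eq_mul.1 e1
        calc ζ * c = r⁻¹ * ((h * r * h⁻¹) * c) := by rw [hζ]; group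
          _ = r⁻¹ * (r * c * r⁻¹ * (h * r * h⁻¹)) := by rw [e3]
          _ = c * ζ := by rw [hζ]; group
      have hζ0 : ζ ∈ R0 R c := mem_R0.2 ⟨hζR, hζc⟩
      have hhζ : h * ζ = ζ * h := (mem_centralizer_iff.1 hh ζ hζ0).symm
      have hζ8 : ζ ^ 8 = 1 := by
        have h1 : ζ * ζ ∈ zpowers c := F.sq_mem hζ0
        have h2 : (ζ * ζ) * (ζ * ζ) = 1 ∨ (ζ * ζ) * (ζ * ζ) = z := F.q1_cc h1
        have h3 : ζ ^ 8 = ((ζ * ζ) * (ζ * ζ)) * ((ζ * ζ) * (ζ * ζ)) := by
          simp only [← pow_two, ← pow_mul]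
          norm_num
        rw [h3]
        rcases h2 with h2 | h2
        · rw [h2, one_mul]
        · rw [h2, L.z2]
      have hpow : ∀ n : ℕ, h ^ n * r = r * ζ ^ n * h ^ n := by
        intro n
        induction n with
        | zero => simp
        | succ n ih =>
          have hcomm : Commute h (ζ ^ n) := Commute.pow_right hhζ n
          have e1 : h * r = r * ζ * h := by rw [hζ]; group
          calc h ^ (n + 1) * r = h * (h ^ n * r) := by rw [pow_succ']; group
            _ = (h * r) * ζ ^ n * h ^ n := by rw [ih]; group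
            _ = r * ζ * (h * ζ ^ n) * h ^ n := by rw [e1]; group
            _ = r * ζ * (ζ ^ n * h) * h ^ n := by rw [hcomm.eq]
            _ = r * ζ ^ (n + 1) * h ^ (n + 1) := by rw [pow_succ' ζ, pow_succ' h]; group
      rw [hpow 8, hζ8, mul_one]
    obtain ⟨k, hk⟩ := L.R2 ⟨h ^ 8, h8⟩
    refine ⟨k + 3, Subtype.ext ?_⟩
    have hk' : (h ^ 8) ^ 2 ^ k = 1 := by simpa using congrArg Subtype.val hk
    show h ^ 2 ^ (k + 3) = 1
    rw [← pow_mul] at hk'
    rw [pow_add, mul_comm]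
    exact hk'
  · refine mem_centralizer_iff.2 fun r hr => ?_
    obtain ⟨y, hy, w, hw, rfl⟩ := F.split0 G hr
    have h1 : w * x = x * w := by
      rcases F.mc.1 (F.W0_eq G hw) with rfl | rfl | rfl | rfl
      · simp
      · exact L.zc x
      · exact F.xc.symm
      · rw [mul_assoc, L.zc, ← mul_assoc, ← F.xc, mul_assoc]
    rw [mul_assoc, h1, ← mul_assoc, ← L.xY y hy, mul_assoc]

end Four

/-- **(B3), (B4)**: the local theorem -/
theorem false_of_loc [Finite H] (L : Loc z x R Y)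
    (hs : LocExt.Small z → False) : False := by
  by_cases h : LocExt.Small z
  · exact hs h
  · unfold LocExt.Small at h
    push Not at h
    obtain ⟨A, hA, a, ha, ha1, haz⟩ := h
    rcases Loc.abelian L hA with h1 | ⟨c, hc, hc2, hxc, -⟩
    · rcases h1 a ha with h2 | h2
      · exact ha1 h2
      · exact haz h2
    · exact Four.false_of_four ⟨L, ⟨A, hA, hc⟩, hc2, hxc⟩

end Cfsg.Agent.GH.L3.LocFour
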