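import Mathlib
import Cfsg.Agent.GH.L3.LocSign

/-!
# GH-L3, case B: the sign of the action of `H` on `{r⟨z⟩ : r ∈ R, r² = u²}` is `-1` on `x`
-/

set_option autoImplicit false

namespace Cfsg.Agent.GH.L3.LocPerm

open Subgroup
open Cfsg.Agent.GH.L3.LocBase Cfsg.Agent.GH.L3.LocExt Cfsg.Agent.GH.L3.LocSign

variable {H : Type*} [Group H] {z x : H} {R Y : Subgroup H} {i j u v : H}

theorem zz_normal (hz : z * z = 1) (hzc : ∀ h : H, z * h = h * z) : (zpowers z).Normal := by
  constructor
  intro n hn g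
  rcases (mem_zz hz).1 hn with rfl | rfl
  · rw [mul_one, mul_inv_cancel]; exact one_mem _
  · rw [← hzc g, mul_assoc, mul_inv_cancel, mul_one]; exact mem_zpowers _

/-- the set on which `H` acts -/
def Om (R N : Subgroup H) (s : H) : Set (H ⧸ N) := {t | ∃ r ∈ R, r * r = s ∧ (r : H ⧸ N) = t}

/-- the action by conjugation -/
def act (R N : Subgroup H) [N.Normal] (hR : R.Normal) (s : H) (hs : ∀ h : H, h * s * h⁻¹ = s) :
    MulAction H (Om R N s) where
  smul h t := ⟨(h : H ⧸ N) * t.1 * (h : H ⧸ N)⁻¹, by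
    obtain ⟨t, r, hr, hrs, rfl⟩ := t
    refine ⟨h * r * h⁻¹, hR.conj_mem r hr h, ?_, rfl⟩
    calc h * r * h⁻¹ * (h * r * h⁻¹) = h * (r * r) * h⁻¹ := by group
      _ = s := by rw [hrs, hs h]⟩
  one_smul t := by
    apply Subtype.ext
    change ((1 : H) : H ⧸ N) * t.1 * ((1 : H) : H ⧸ N)⁻¹ = t.1
    simp
  mul_smul a b t := by
    apply Subtype.ext
    change ((a * b : H) : H ⧸ N) * t.1 * ((a * b : H) : H ⧸ N)⁻¹ =
      (a : H ⧸ N) * ((b : H ⧸ N) * t.1 * (b : H ⧸ N)⁻¹) * (a : H ⧸ N)⁻¹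
    rw [QuotientGroup.mk_mul]
    group

theorem false_of_swap [Finite H] (S : Swap z x R Y i j u v) : False := by
  classical
  have L := S.L
  have hzz := L.z2
  have hNn : (zpowers z).Normal := zz_normal hzz L.zc
  set N : Subgroup H := zpowers z with hN
  letI := act R N L.Rn (u * u) (fun h => conj_sq L S.u2 h)
  have hfin : Finite (H ⧸ N) := Quotient.finite _
  have : Fintype (Om R N (u * u)) := Fintype.ofFinite _
  have hmk : ∀ a b : H, ((a : H ⧸ N) = (b : H ⧸ N)) ↔ (b = a ∨ b = a * z) := by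
    intro a b
    rw [QuotientGroup.eq, hN, mem_zz hzz, inv_mul_eq_one, inv_mul_eq_iff_eq_mul]
    exact ⟨fun h => h.imp_left Eq.symm, fun h => h.imp_left Eq.symm⟩
  have huR := (mem_cen.1 S.uW).1
  have hvR := (mem_cen.1 S.vW).1
  set a : Om R N (u * u) := ⟨(u : H ⧸ N), u, huR, rfl, rfl⟩ with ha
  set b : Om R N (u * u) := ⟨(v : H ⧸ N), v, hvR, S.v2, rfl⟩ with hb
  have hab : a ≠ b := by
    intro h
    have h1 : (u : H ⧸ N) = (v : H ⧸ N) := congrArg Subtype.val h
    rcases (hmk u v).1 h1 with h2 | h2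
    · exact S.ne h2
    · exact S.ne' h2
  have hsw : MulAction.toPermHom H (Om R N (u * u)) x = Equiv.swap a b := by
    ext t
    obtain ⟨t, r, hr, hrs, rfl⟩ := t
    have hlhs : ((MulAction.toPermHom H (Om R N (u * u)) x) ⟨(r : H ⧸ N), r, hr, hrs, rfl⟩ :
        Om R N (u * u)).1 = ((x * r * x⁻¹ : H) : H ⧸ N) := rfl
    rw [hlhs, Equiv.swap_apply_def]
    by_cases h1 : (⟨(r : H ⧸ N), r, hr, hrs, rfl⟩ : Om R N (u * u)) = a
    · rw [if_pos h1]
      have h2 : (r : H ⧸ N) = (u : H ⧸ N) := congrArg Subtype.val h1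
      show ((x * r * x⁻¹ : H) : H ⧸ N) = (v : H ⧸ N)
      rw [QuotientGroup.mk_mul, QuotientGroup.mk_mul, h2, ← QuotientGroup.mk_mul,
        ← QuotientGroup.mk_mul, S.xu]
    · rw [if_neg h1]
      by_cases h3 : (⟨(r : H ⧸ N), r, hr, hrs, rfl⟩ : Om R N (u * u)) = b
      · rw [if_pos h3]
        have h2 : (r : H ⧸ N) = (v : H ⧸ N) := congrArg Subtype.val h3
        show ((x * r * x⁻¹ : H) : H ⧸ N) = (u : H ⧸ N)
        rw [QuotientGroup.mk_mul, QuotientGroup.mk_mul, h2, ← QuotientGroup.mk_mul,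
          ← QuotientGroup.mk_mul, S.xv]
      · rw [if_neg h3]
        show ((x * r * x⁻¹ : H) : H ⧸ N) = (r : H ⧸ N)
        rcases S.three hr hrs with h4 | h4 | h4
        · exact ((hmk r (x * r * x⁻¹)).2 h4).symm
        · exact absurd (Subtype.ext ((hmk u r).2 h4).symm) h1
        · exact absurd (Subtype.ext ((hmk v r).2 h4).symm) h3
  have h5 := L.star ((Equiv.Perm.sign).comp (MulAction.toPermHom H (Om R N (u * u))))
  rw [MonoidHom.comp_apply, hsw, Equiv.Perm.sign_swap hab] at h5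
  exact absurd h5 (by decide)

/-- `x ∈ R` in the graph case -/
theorem false_of_mem [Finite H] (D : Dat z x R Y i j) (hx : x ∈ R) {c : H} (hcY : ∀ y ∈ Y, c * y = y * c)
    (hcx : c * x = x * c) (h1 : c ≠ 1) (h2 : c ≠ z) (h3 : c ≠ x) (h4 : c ≠ x * z) : False := by
  have L := D.L
  have hzz := L.z2
  have hzc := L.zc
  have hxW : x ∈ cen R i j := mem_cen.2 ⟨hx, L.xY i D.G.iY, L.xY j D.G.jY⟩
  -- `w ∈ W` not commuting with `x`
  have hw : ∃ w ∈ cen R i j, x * w = w * x * z := by
    by_contra hcon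
    push Not at hcon
    rcases D.central hx L.xY (fun w hw => (D.comm_W hxW hw).resolve_right (hcon w hw)) with h | h
    · exact L.x1 h
    · exact L.xz h
  obtain ⟨w, hw, hxw⟩ := hw
  have hwW : c * w * c⁻¹ ∈ cen R i j := D.conj_W hcY hw
  have hw2 : w * w = 1 ∨ w * w = z := D.E.sq w (mem_cen.1 hw).1
  have hcw2 : (c * w * c⁻¹) * (c * w * c⁻¹) = w * w := by
    calc (c * w * c⁻¹) * (c * w * c⁻¹) = c * (w * w) * c⁻¹ := by group
      _ = w * w := conj_sq L hw2 c
  have hci : c⁻¹ * x * c = x := by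
    rw [mul_assoc, ← hcx, inv_mul_cancel_left]
  have hone : ∀ g : H, g * z ≠ g := fun g h => L.z1 (by simpa using h)
  -- `g w g⁻¹ = w` with `g` commuting with `Y`, `x` implies `g ∈ {1, z}`
  have key : ∀ g : H, (∀ y ∈ Y, g * y = y * g) → g * x = x * g → g * w = w * g → g = 1 ∨ g = z := by
    intro g hgY hgx hgw
    have hgW : ∀ v ∈ cen R i j, g * v = v * g := by
      intro v hv
      obtain ⟨q, hq, hvq⟩ := D.W_class hxW hw hxw hv
      have e1 : g * q = q * g := by
        rcases hq with rfl | rfl | rfl | rfl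
        · simp
        · exact hgx
        · exact hgw
        · rw [← mul_assoc, hgx, mul_assoc, hgw, mul_assoc]
      rcases hvq with rfl | rfl
      · exact e1
      · rw [← mul_assoc, e1, mul_assoc, ← hzc, mul_assoc]
    exact D.central (D.mem_R hgY hgW) hgY hgW
  obtain ⟨q, hq, hcq⟩ := D.W_class hxW hw hxw hwW
  have hback : ∀ g : H, c * w * c⁻¹ = g → w = c⁻¹ * g * c := by
    rintro g rfl; group
  have hzb : c⁻¹ * z * c = z := by rw [mul_assoc, hzc, inv_mul_cancel_left]
  have hsq2 : ∀ g : H, (g * z) * (g * z) = g * g := by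
    intro g
    calc (g * z) * (g * z) = g * (z * g) * z := by group
      _ = g * g * (z * z) := by rw [hzc]; group
      _ = g * g := by rw [hzz, mul_one]
  have hxwne : x * w ≠ w * x := by
    intro h
    rw [h] at hxw
    exact hone _ hxw.symm
  rcases hq with rfl | rfl | rfl | rfl
  · -- `w ∈ ⟨z⟩`
    apply hxwne
    rcases hcq with h | h
    · rw [hback _ h]; simp
    · rw [one_mul] at h
      rw [hback _ h, hzb, hzc]
  · apply hxwne
    rcases hcq with h | h
    · rw [hback _ h, hci]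
    · have : w = q * z := by
        rw [hback _ h]
        calc c⁻¹ * (q * z) * c = c⁻¹ * q * (z * c) := by group
          _ = (c⁻¹ * q * c) * z := by rw [hzc]; group
          _ = q * z := by rw [hci]
      rw [this, ← mul_assoc, mul_assoc q z q, hzc, ← mul_assoc]
  · rcases hcq with h | h
    · rcases key c hcY hcx (mul_inv_eq_iff_eq_mul.1 h) with h5 | h5
      · exact h1 h5
      · exact h2 h5
    · have h5 : c * q = q * c * z := by
        rw [mul_inv_eq_iff_eq_mul.1 h, mul_assoc, hzc, ← mul_assoc]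
      have h6 : (x * c) * q = q * (x * c) := by
        calc (x * c) * q = x * (c * q) := by group
          _ = (x * q) * c * z := by rw [h5]; group
          _ = q * x * (z * c) * z := by rw [hxw]; group
          _ = q * x * c * (z * z) := by rw [hzc]; group
          _ = q * (x * c) := by rw [hzz]; group
      have h7 : ∀ y ∈ Y, (x * c) * y = y * (x * c) := by
        intro y hy
        rw [mul_assoc, hcY y hy, ← mul_assoc, L.xY y hy, mul_assoc]
      have h8 : (x * c) * x = x * (x * c) := by rw [mul_assoc, hcx]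
      have hxi : x⁻¹ = x := inv_eq_of_mul_eq_one_left L.x2
      rcases key (x * c) h7 h8 h6 with h9 | h9
      · apply h3
        rw [eq_inv_of_mul_eq_one_right h9, hxi]
      · apply h4
        have : c = x⁻¹ * (x * c) := by group
        rw [this, h9, hxi]
  · -- squares
    have h5 : (x * w) * (x * w) = w * w * z := by
      calc (x * w) * (x * w) = x * w * x * w := by group
        _ = x * (w * x) * w := by group
        _ = x * (x * w * z) * w := by rw [hxw, mul_assoc (w * x), hzz, mul_one]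
        _ = (x * x) * w * (z * w) := by group
        _ = w * w * z := by rw [L.x2, hzc]; group
    rcases hcq with h | h
    · rw [h, h5] at hcw2
      exact hone _ hcw2
    · rw [h, hsq2, h5] at hcw2
      exact hone _ hcw2

/-- **(B4a)** -/
theorem false_of_small [Finite H] (L : Loc z x R Y) (hs : Small z)
    (hx : x ∈ R → ∃ c : H, (∀ y ∈ Y, c * y = y * c) ∧ c * x = x * c ∧ c ≠ 1 ∧ c ≠ z ∧ c ≠ x ∧ c ≠ x * z) :
    False := by
  obtain ⟨i, j, hG⟩ := exists_gen L
  have D : Dat z x R Y i j := ⟨L, ext L hs, hG⟩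
  by_cases h : x ∈ R
  · obtain ⟨c, hcY, hcx, h1, h2, h3, h4⟩ := hx h
    exact false_of_mem D h hcY hcx h1 h2 h3 h4
  · obtain ⟨u, v, S⟩ := D.exists_swap h
    exact false_of_swap S

end Cfsg.Agent.GH.L3.LocPerm
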