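import Mathlib
import Cfsg.Agent.GH.L3.LocFour
import Cfsg.Agent.GH.L3.LocPerm

/-!
# GH-L3, case B: the local theorem (B3), (B4)

`H = C(z)/O(C(z))`, `R = O₂(H)`, `C_H(R) ≤ R`, `x` an involution lying in every subgroup of index 2 of `H`,
`x ~ xz`, `⟨x, z⟩` not normal in `H`, `Y ≤ R` quaternion of order 8 centralised by `x`, sectional rank of `R` at
most 4, and a normal abelian 2-subgroup `A` has `C_A(x) ≤ C(Y)`, `I(C_A(x)) ⊆ {z, x, xz}`, `z` no fourth power in
`C_A(x)`.  Then `x ∈ R` and `C(Y) ∩ C(x) = ⟨x, z⟩`, or a contradiction.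
-/

set_option autoImplicit false

namespace Cfsg.Agent.GH.L3.LocMain

open Subgroup
open Cfsg.Agent.GH.L3.LocBase

variable {H : Type*} [Group H] {z x : H} {R Y : Subgroup H}

/-- **local theorem of case B** -/
theorem false_of_loc [Finite H] (L : Loc z x R Y)
    (hx : x ∈ R → ∃ c : H, (∀ y ∈ Y, c * y = y * c) ∧ c * x = x * c ∧ c ≠ 1 ∧ c ≠ z ∧ c ≠ x ∧ c ≠ x * z) :
    False :=
  LocFour.false_of_loc L fun hs => LocPerm.false_of_small L hs hx

end Cfsg.Agent.GH.L3.LocMain
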