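import Cfsg.Agent.GH.L3.Norm
import Cfsg.Agent.GH.L3.GLThree
import Cfsg.Agent.GH.L3.LocMain
import Cfsg.Agent.Lib.ThompsonPQ

/-!
# GH-L3, case B: the structure of `D = C_H(x)` and the end of case B at the level of `H = C(z)/O(C(z))`

`DStr z x e`: `e : GL₂(3) → H` injective, `e (-1) = z` central in `H`, the image is normal in `D = C_H(x)`,
`x` an involution of `D` outside the image, `⟨x, z⟩` has index at most 2 in `C_D(e(SL₂(3)))` and contains
its involutions.
-/

set_option autoImplicit false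
set_option linter.dupNamespace false

open Subgroup

namespace Cfsg.Agent.GH.L3.DStr

open Cfsg.Agent.GH.L3.GLThree (Γ)

variable {H : Type*} [Group H]

/-- the four elements `1, x, z, x z` -/
def W (x z n : H) : Prop := n = 1 ∨ n = x ∨ n = z ∨ n = x * z

/-- `N₁ = C_D(e(SL₂(3)))` -/
def Nx (x : H) (e : Γ →* H) (n : H) : Prop := n * x = x * n ∧ ∀ g ∈ GLThree.S, n * e g = e g * n

/-- the structure of `D = C_H(x)` -/
structure DStr (z x : H) (e : Γ →* H) : Prop where
  inj : Function.Injective e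
  ez : e GLThree.z = z
  zc : ∀ h : H, h * z = z * h
  xx : x * x = 1
  xe : ∀ g, e g * x = x * e g
  xr : ∀ g, e g ≠ x
  nrm : ∀ d, d * x = x * d → ∀ g, ∃ g', d * e g * d⁻¹ = e g'
  two : ∀ n n', Nx x e n → Nx x e n' → W x z n ∨ W x z n' ∨ W x z (n * n')
  noinv : ∀ n, Nx x e n → n * n = 1 → W x z n

namespace DStr

variable {z x : H} {e : Γ →* H}

theorem zz (h : DStr z x e) : z * z = 1 := by
  rw [← h.ez, ← map_mul, GLThree.zz, map_one]

theorem z_ne (h : DStr z x e) : z ≠ 1 := by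
  intro h1
  apply GLThree.z_ne
  apply h.inj
  rw [h.ez, h1, map_one]

theorem x_ne (h : DStr z x e) : x ≠ 1 := fun h1 => h.xr 1 (by rw [map_one, h1])

theorem xz_ne (h : DStr z x e) : x ≠ z := fun h1 => h.xr GLThree.z (by rw [h.ez, h1])

theorem Nx_mul {n n' : H} (hn : Nx x e n) (hn' : Nx x e n') : Nx x e (n * n') := by
  refine ⟨?_, fun m hm => ?_⟩
  · rw [mul_assoc, hn'.1, ← mul_assoc, hn.1, mul_assoc]
  · rw [mul_assoc, hn'.2 m hm, ← mul_assoc, hn.2 m hm, mul_assoc]

theorem W_cen (h : DStr z x e) {w : H} (hw : W x z w) {d : H} (hd : d * x = x * d) :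
    w * d = d * w := by
  rcases hw with rfl | rfl | rfl | rfl
  · rw [one_mul, mul_one]
  · exact hd.symm
  · exact (h.zc d).symm
  · rw [mul_assoc, ← h.zc d, ← mul_assoc, ← hd, mul_assoc]

theorem W_sq (h : DStr z x e) {w : H} (hw : W x z w) : w * w = 1 := by
  rcases hw with rfl | rfl | rfl | rfl
  · rw [one_mul]
  · exact h.xx
  · exact h.zz
  · calc x * z * (x * z) = x * (z * x) * z := by group
      _ = (x * x) * (z * z) := by rw [← h.zc x]; group
      _ = 1 := by rw [h.xx, h.zz, one_mul]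

theorem W_mul (h : DStr z x e) {w w' : H} (hw : W x z w) (hw' : W x z w') : W x z (w * w') := by
  have hzx : z * x = x * z := (h.zc x).symm
  have hxx := h.xx
  have hzz := h.zz
  rcases hw with rfl | rfl | rfl | rfl <;> rcases hw' with rfl | rfl | rfl | rfl
  · exact Or.inl (one_mul _)
  · exact Or.inr (Or.inl (one_mul _))
  · exact Or.inr (Or.inr (Or.inl (one_mul _)))
  · exact Or.inr (Or.inr (Or.inr (one_mul _)))
  · exact Or.inr (Or.inl (mul_one _))
  · exact Or.inl hxx
  · exact Or.inr (Or.inr (Or.inr rfl))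
  · exact Or.inr (Or.inr (Or.inl (by rw [← mul_assoc, hxx, one_mul])))
  · exact Or.inr (Or.inr (Or.inl (mul_one _)))
  · exact Or.inr (Or.inr (Or.inr hzx))
  · exact Or.inl hzz
  · exact Or.inr (Or.inl (by rw [← mul_assoc, hzx, mul_assoc, hzz, mul_one]))
  · exact Or.inr (Or.inr (Or.inr (mul_one _)))
  · exact Or.inr (Or.inr (Or.inl (by rw [mul_assoc, hzx, ← mul_assoc, hxx, one_mul])))
  · exact Or.inr (Or.inl (by rw [mul_assoc, hzz, mul_one]))
  · exact Or.inl (h.W_sq (Or.inr (Or.inr (Or.inr rfl))))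

/-- squares of elements of `N₁` are in `⟨x, z⟩` -/
theorem sq_W (h : DStr z x e) {n : H} (hn : Nx x e n) : W x z (n * n) := by
  rcases h.two n n hn hn with h1 | h1 | h1
  · exact Or.inl (h.W_sq h1)
  · exact Or.inl (h.W_sq h1)
  · exact h1

/-- `N₁` is abelian -/
theorem comm_N (h : DStr z x e) {n n' : H} (hn : Nx x e n) (hn' : Nx x e n') :
    n * n' = n' * n := by
  rcases h.two n n' hn hn' with h1 | h1 | h1
  · exact h.W_cen h1 hn'.1
  · exact (h.W_cen h1 hn.1).symm
  · have h2 := h.W_cen h1 hn.1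
    calc n * n' = n⁻¹ * (n * (n * n')) := by group
      _ = n' * n := by rw [← h2]; group

/-- `D` normalises `e(SL₂(3))` -/
theorem nrmS (h : DStr z x e) {d : H} (hd : d * x = x * d) (s : Γ) (hs : s ∈ GLThree.S) :
    ∃ s' ∈ GLThree.S, d * e s * d⁻¹ = e s' := by
  have key : ∀ t : Γ, t * t * t = 1 → ∃ s' ∈ GLThree.S, d * e t * d⁻¹ = e s' := by
    intro t ht
    obtain ⟨g', hg'⟩ := h.nrm d hd t
    refine ⟨g', ?_, hg'⟩
    have h1 : g' * g' * g' = 1 := by
      apply h.inj
      rw [map_mul, map_mul, map_one, ← hg']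
      calc d * e t * d⁻¹ * (d * e t * d⁻¹) * (d * e t * d⁻¹) = d * (e t * e t * e t) * d⁻¹ := by group
        _ = 1 := by rw [← map_mul, ← map_mul, ht, map_one]; group
    have h2 := congrArg GLThree.dt h1
    rw [GLThree.dt_mul, GLThree.dt_mul, GLThree.dt_one, GLThree.sq_dec _ (GLThree.dt_ne g'),
      one_mul] at h2
    exact h2
  rw [GLThree.S_eq] at hs
  refine closure_induction (p := fun s _ => ∃ s' ∈ GLThree.S, d * e s * d⁻¹ = e s') ?_ ?_ ?_ ?_ hs
  · rintro s (rfl | rfl)
    · exact key _ GLThree.uuu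
    · exact key _ GLThree.vvv
  · exact ⟨1, GLThree.S.one_mem, by rw [map_one]; group⟩
  · rintro s t _ _ ⟨s', hs', es⟩ ⟨t', ht', et⟩
    refine ⟨s' * t', GLThree.S.mul_mem hs' ht', ?_⟩
    rw [map_mul, map_mul, ← es, ← et]
    group
  · rintro s _ ⟨s', hs', es⟩
    refine ⟨s'⁻¹, GLThree.S.inv_mem hs', ?_⟩
    rw [map_inv, map_inv, ← es]
    group

/-- `D = e(Γ) N₁` -/
theorem dec (h : DStr z x e) {d : H} (hd : d * x = x * d) : ∃ g n, Nx x e n ∧ d = e g * n := by
  choose f hf1 hf2 using fun s : GLThree.S => h.nrmS hd s s.2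
  let φ : GLThree.S →* GLThree.S :=
    { toFun := fun s => ⟨f s, hf1 s⟩
      map_one' := by
        apply Subtype.ext
        apply h.inj
        change e (f 1) = e 1
        rw [← hf2, map_one]
        change d * e 1 * d⁻¹ = 1
        rw [map_one]; group
      map_mul' := fun s t => by
        apply Subtype.ext
        apply h.inj
        change e (f (s * t)) = e (f s * f t)
        rw [← hf2, map_mul, ← hf2, ← hf2]
        change d * e (s * t) * d⁻¹ = _
        rw [map_mul]; group }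
  have hφ : Function.Injective φ := by
    rw [injective_iff_map_eq_one]
    intro s hs
    have h1 : f s = 1 := congrArg Subtype.val hs
    have h2 := hf2 s
    rw [h1, map_one] at h2
    apply Subtype.ext
    apply h.inj
    change e s = e 1
    calc e s = d⁻¹ * (d * e s * d⁻¹) * d := by group
      _ = e 1 := by rw [h2, map_one]; group
  have hφ2 : Function.Bijective φ := Finite.injective_iff_bijective.1 hφ
  obtain ⟨g, hg⟩ := GLThree.aut (MulEquiv.ofBijective φ hφ2)
  have hg' : ∀ s : GLThree.S, f s = g * s * g⁻¹ := hg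
  refine ⟨g, e g⁻¹ * d, ⟨?_, ?_⟩, ?_⟩
  · rw [mul_assoc, hd, ← mul_assoc, h.xe, mul_assoc]
  · intro s hs
    have h1 := hf2 ⟨s, hs⟩
    rw [hg'] at h1
    calc e g⁻¹ * d * e s = e g⁻¹ * (d * e s * d⁻¹) * d := by group
      _ = e g⁻¹ * e (g * s * g⁻¹) * d := by rw [h1]
      _ = e s * (e g⁻¹ * d) := by
        rw [map_mul, map_mul, map_inv]; group
  · rw [map_inv]; group

/-- elements of `N₁` commute with `e(Γ)` up to `z` -/
theorem comm_e (h : DStr z x e) {n : H} (hn : Nx x e n) (g : Γ) :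
    n * e g = e g * n ∨ n * e g = e g * n * z := by
  obtain ⟨g', hg'⟩ := h.nrm n hn.1 g
  have h1 : ∀ s ∈ GLThree.S, (g⁻¹ * g') * s = s * (g⁻¹ * g') := by
    intro s hs
    have hs' : g * s * g⁻¹ ∈ GLThree.S := GLThree.S_normal.conj_mem s hs g
    apply h.inj
    have h3 := hn.2 _ hs'
    have h4 : e g' * e s = e (g * s * g⁻¹) * e g' := by
      rw [← hg', map_mul, map_mul, map_inv] at *
      have h5 : n⁻¹ * (e g * e s * (e g)⁻¹) = (e g * e s * (e g)⁻¹) * n⁻¹ := by
        calc n⁻¹ * (e g * e s * (e g)⁻¹) = n⁻¹ * ((e g * e s * (e g)⁻¹) * n) * n⁻¹ := by group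
          _ = (e g * e s * (e g)⁻¹) * n⁻¹ := by rw [← h3]; group
      calc n * e g * n⁻¹ * e s = n * e g * (n⁻¹ * e s) := by group
        _ = n * e g * (e s * n⁻¹) := by
          have h6 : n⁻¹ * e s = e s * n⁻¹ := by
            have := hn.2 s hs
            calc n⁻¹ * e s = n⁻¹ * (e s * n) * n⁻¹ := by group
              _ = e s * n⁻¹ := by rw [← this]; group
          rw [h6]
        _ = n * (e g * e s * (e g)⁻¹) * e g * n⁻¹ := by group
        _ = (e g * e s * (e g)⁻¹) * (n * e g * n⁻¹) := by rw [h3]; group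
    rw [map_mul, map_mul, map_mul, map_mul, map_inv]
    calc (e g)⁻¹ * e g' * e s = (e g)⁻¹ * (e g' * e s) := by group
      _ = e s * ((e g)⁻¹ * e g') := by
        rw [h4, map_mul, map_mul, map_inv]; group
  rcases GLThree.cen_S _ h1 with h2 | h2
  · left
    have h3 : g' = g := by
      calc g' = g * (g⁻¹ * g') := by group
        _ = g := by rw [h2, mul_one]
    rw [h3] at hg'
    calc n * e g = (n * e g * n⁻¹) * n := by group
      _ = e g * n := by rw [hg']
  · right
    have h3 : g' = g * GLThree.z := by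
      calc g' = g * (g⁻¹ * g') := by group
        _ = g * GLThree.z := by rw [h2]
    rw [h3, map_mul, h.ez] at hg'
    calc n * e g = (n * e g * n⁻¹) * n := by group
      _ = e g * (z * n) := by rw [hg']; group
      _ = e g * n * z := by rw [← h.zc n]; group

/-- the image of `SL₂(3)` -/
def Lz (e : Γ →* H) : Subgroup H := GLThree.S.map e

theorem mem_Lz {l : H} : l ∈ Lz e ↔ ∃ s ∈ GLThree.S, e s = l := Iff.rfl

theorem zL (h : DStr z x e) : z ∈ Lz e := ⟨GLThree.z, GLThree.zS, h.ez⟩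

/-- commutators of `D` -/
theorem comm (h : DStr z x e) {d d' : H} (hd : d * x = x * d) (hd' : d' * x = x * d') :
    d * d' * d⁻¹ * d'⁻¹ ∈ Lz e := by
  obtain ⟨g, n, hn, rfl⟩ := h.dec hd
  obtain ⟨g', n', hn', rfl⟩ := h.dec hd'
  obtain ⟨ζ, hζ, hζc, h1⟩ : ∃ ζ ∈ Lz e, (∀ y, ζ * y = y * ζ) ∧ n * e g' = e g' * n * ζ := by
    rcases h.comm_e hn g' with h1 | h1
    · exact ⟨1, one_mem _, fun y => by rw [one_mul, mul_one], by rw [h1, mul_one]⟩
    · exact ⟨z, h.zL, fun y => (h.zc y).symm, h1⟩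
  obtain ⟨ξ, hξ, hξc, h2⟩ : ∃ ξ ∈ Lz e, (∀ y, ξ * y = y * ξ) ∧ n' * e g⁻¹ = e g⁻¹ * n' * ξ := by
    rcases h.comm_e hn' g⁻¹ with h1 | h1
    · exact ⟨1, one_mem _, fun y => by rw [one_mul, mul_one], by rw [h1, mul_one]⟩
    · exact ⟨z, h.zL, fun y => (h.zc y).symm, h1⟩
  have h3 := h.comm_N hn hn'
  have h4 : n' * n⁻¹ = n⁻¹ * n' := by
    calc n' * n⁻¹ = n⁻¹ * (n * n') * n⁻¹ := by group
      _ = n⁻¹ * n' := by rw [h3]; group
  have h5 : e g * n * (e g' * n') * (e g * n)⁻¹ * (e g' * n')⁻¹ =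
      e (g * g' * g⁻¹ * g'⁻¹) * (ζ * ξ) := by
    calc e g * n * (e g' * n') * (e g * n)⁻¹ * (e g' * n')⁻¹ =
        e g * (n * e g') * (n' * n⁻¹) * (e g)⁻¹ * n'⁻¹ * (e g')⁻¹ := by group
      _ = e g * (e g' * n * ζ) * (n⁻¹ * n') * (e g)⁻¹ * n'⁻¹ * (e g')⁻¹ := by rw [h1, h4]
      _ = e g * (e g' * (n * (ζ * n⁻¹))) * n' * (e g)⁻¹ * n'⁻¹ * (e g')⁻¹ := by group
      _ = e g * e g' * ζ * (n' * (e g)⁻¹) * n'⁻¹ * (e g')⁻¹ := by rw [hζc n⁻¹]; group
      _ = e g * e g' * ζ * (n' * e g⁻¹) * n'⁻¹ * (e g')⁻¹ := by rw [map_inv]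
      _ = e g * e g' * ζ * (e g⁻¹ * (n' * (ξ * n'⁻¹))) * (e g')⁻¹ := by rw [h2]; group
      _ = e g * e g' * (ζ * e g⁻¹) * (ξ * (e g')⁻¹) := by rw [hξc n'⁻¹]; group
      _ = e g * e g' * e g⁻¹ * ((ζ * (e g')⁻¹) * ξ) := by rw [hζc, hξc]; group
      _ = e (g * g' * g⁻¹ * g'⁻¹) * (ζ * ξ) := by
        rw [hζc, map_mul, map_mul, map_mul, map_inv e g']; group
  rw [h5]
  exact mul_mem ⟨_, GLThree.comm_S g g', rfl⟩ (mul_mem hζ hξ)

/-- fourth powers of elements of `D` lie in `e(SL₂(3))` -/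
theorem four_L (h : DStr z x e) {d : H} (hd : d * x = x * d) : d * d * (d * d) ∈ Lz e := by
  obtain ⟨g, n, hn, rfl⟩ := h.dec hd
  obtain ⟨ζ, hζ, hζc, h1⟩ : ∃ ζ ∈ Lz e, (∀ y, ζ * y = y * ζ) ∧ n * e g = e g * n * ζ := by
    rcases h.comm_e hn g with h1 | h1
    · exact ⟨1, one_mem _, fun y => by rw [one_mul, mul_one], by rw [h1, mul_one]⟩
    · exact ⟨z, h.zL, fun y => (h.zc y).symm, h1⟩
  have h2 : e g * n * (e g * n) = (e (g * g) * ζ) * (n * n) := by
    calc e g * n * (e g * n) = e g * (n * e g) * n := by group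
      _ = e g * e g * n * (ζ * n) := by rw [h1]; group
      _ = e g * e g * (n * n) * ζ := by rw [hζc]; group
      _ = (e (g * g) * ζ) * (n * n) := by
        rw [mul_assoc _ ζ (n * n), hζc (n * n), map_mul]; group
  have h3 : e (g * g) * ζ ∈ Lz e := by
    refine mul_mem ⟨g * g, ?_, rfl⟩ hζ
    change GLThree.dt (g * g) = 1
    rw [GLThree.dt_mul, GLThree.sq_dec _ (GLThree.dt_ne g)]
  have h4 := h.sq_W hn
  have h5 : (n * n) * (e (g * g) * ζ) = (e (g * g) * ζ) * (n * n) := by
    obtain ⟨s, hs, hs'⟩ := h3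
    rw [← hs']
    exact h.W_cen h4 (h.xe s)
  rw [h2]
  have h6 : (e (g * g) * ζ) * (n * n) * ((e (g * g) * ζ) * (n * n)) =
      (e (g * g) * ζ) * (e (g * g) * ζ) := by
    calc (e (g * g) * ζ) * (n * n) * ((e (g * g) * ζ) * (n * n)) =
        (e (g * g) * ζ) * ((n * n) * (e (g * g) * ζ)) * (n * n) := by group
      _ = (e (g * g) * ζ) * (e (g * g) * ζ) * ((n * n) * (n * n)) := by rw [h5]; group
      _ = _ := by rw [h.W_sq h4, mul_one]
  rw [h6]
  exact mul_mem h3 h3

/-- The reflection `b`. -/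
theorem toNorm (h : DStr z x e) (hn : ∀ g, g * x * g⁻¹ = x ∨ g * x * g⁻¹ = x * z)
    (hb : ∀ g, g * e GLThree.b * g⁻¹ ≠ e GLThree.b * x ∧
      g * e GLThree.b * g⁻¹ ≠ e GLThree.b * (x * z)) :
    ∃ c, Norm.Data x z (e GLThree.b) c (Lz e) := by
  obtain ⟨c, hc, hcW⟩ : ∃ c, Nx x e c ∧ ∀ n, Nx x e n → W x z n ∨ W x z (c⁻¹ * n) := by
    by_cases hex : ∃ n, Nx x e n ∧ ¬ W x z n
    · obtain ⟨c, hc, hcW⟩ := hex
      refine ⟨c, hc, fun n hn => ?_⟩
      rcases h.two c n hc hn with h1 | h1 | h1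
      · exact absurd h1 hcW
      · exact Or.inl h1
      · right
        have h2 := h.sq_W hc
        have h3 : c⁻¹ * n = (c * c) * (c * n) := by
          have h4 : c * c * (c * c) = 1 := h.W_sq h2
          calc c⁻¹ * n = c⁻¹ * (c * c * (c * c)) * n := by rw [h4, mul_one]
            _ = (c * c) * (c * n) := by group
        rw [h3]
        exact h.W_mul h2 h1
    · push Not at hex
      exact ⟨1, ⟨by rw [one_mul, mul_one], fun g _ => by rw [one_mul, mul_one]⟩,
        fun n hn => Or.inl (hex n hn)⟩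
  refine ⟨c, ?_⟩
  have hcomL : ∀ {n : H}, Nx x e n → ∀ m ∈ Lz e, n * m = m * n := by
    rintro n hn m ⟨s, hs, rfl⟩
    exact hn.2 s hs
  have hNx : ∀ {n : H}, n * x = x * n → (∀ m ∈ Lz e, n * m = m * n) → Nx x e n :=
    fun h1 h2 => ⟨h1, fun s hs => h2 _ ⟨s, hs, rfl⟩⟩
  exact
    { zz := h.zz
      zcen := h.zc
      xx := h.xx
      zL := h.zL
      xL := by
        rintro ⟨s, _, hs⟩
        exact h.xr s hs
      norm := hn
      LD := by
        rintro l ⟨s, _, rfl⟩
        exact h.xe s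
      cenL := by
        rintro l ⟨s, hs, rfl⟩ hl
        have h1 : ∀ t ∈ GLThree.S, s * t = t * s := fun t ht => h.inj (by
          rw [map_mul, map_mul]
          exact hl _ ⟨t, ht, rfl⟩)
        rcases GLThree.cen_S s h1 with h2 | h2
        · left; rw [h2, map_one]
        · right; rw [h2, h.ez]
      comm := fun d d' hd hd' => h.comm hd hd'
      gen := by
        refine ⟨{e GLThree.u, e GLThree.v}, ?_, ?_⟩
        · rw [Lz, GLThree.S_eq, MonoidHom.map_closure, Set.image_pair]
        · have key : ∀ t : Γ, t * t * t = 1 → Odd (orderOf (e t)) := by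
            intro t ht
            have h1 : orderOf (e t) ∣ 3 := by
              rw [orderOf_dvd_iff_pow_eq_one, pow_succ, pow_two, ← map_mul, ← map_mul, ht, map_one]
            exact Odd.of_dvd_nat (by decide) h1
          rintro t (rfl | rfl)
          · exact key _ GLThree.uuu
          · exact key _ GLThree.vvv
      odd := by
        intro d hd ho
        have h1 := h.four_L hd
        have h2 : d ^ 4 ∈ Lz e := by
          have : d ^ 4 = d * d * (d * d) := by
            rw [show (4 : ℕ) = 2 * 2 from rfl, pow_mul, pow_two, pow_two]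
          rw [this]; exact h1
        have hc : (orderOf d).Coprime 4 := by
          have : (4 : ℕ) = 2 ^ 2 := by norm_num
          rw [this]
          exact (Nat.Coprime.pow_right 2 (Nat.Coprime.symm (Nat.coprime_two_left.2 ho)))
        have h3 := Nat.gcd_eq_gcd_ab (orderOf d) 4
        rw [hc] at h3
        have h4 : d = (d ^ orderOf d) ^ Nat.gcdA (orderOf d) 4 * (d ^ 4) ^ Nat.gcdB (orderOf d) 4 := by
          rw [← zpow_natCast d (orderOf d), ← zpow_natCast d 4, ← zpow_mul, ← zpow_mul, ← zpow_add]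
          have h5 : ((orderOf d : ℕ) : ℤ) * Nat.gcdA (orderOf d) 4 +
              ((4 : ℕ) : ℤ) * Nat.gcdB (orderOf d) 4 = 1 := by
            rw [← h3]; rfl
          rw [h5, zpow_one]
        rw [h4, pow_orderOf_eq_one, one_zpow, one_mul]
        exact zpow_mem h2 _
      bD := h.xe _
      bb := by rw [← map_mul, GLThree.bb, map_one]
      cov := by
        intro d hd
        obtain ⟨g, n, hn, rfl⟩ := h.dec hd
        rcases GLThree.S_or g with hg | hg
        · exact ⟨e g, ⟨g, hg, rfl⟩, n, hn.1, hcomL hn, Or.inl rfl⟩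
        · refine ⟨e (g * GLThree.b), ⟨_, hg, rfl⟩, n, hn.1, hcomL hn, Or.inr ?_⟩
          rw [← map_mul, mul_assoc g, GLThree.bb, mul_one]
      cD := hc.1
      cL := hcomL hc
      cenD := by
        intro n h1 h2
        rcases hcW n (hNx h1 h2) with h3 | h3
        · exact Or.inl h3
        · right
          rcases h3 with h3 | h3 | h3 | h3
          · left; rw [inv_mul_eq_iff_eq_mul.1 h3, mul_one]
          · right; left; exact inv_mul_eq_iff_eq_mul.1 h3
          · right; right; left; exact inv_mul_eq_iff_eq_mul.1 h3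
          · right; right; right; exact inv_mul_eq_iff_eq_mul.1 h3
      aut := by
        intro φ
        let eS : GLThree.S ≃* Lz e := GLThree.S.equivMapOfInjective e h.inj
        have heS : ∀ s : GLThree.S, ((eS s : Lz e) : H) = e s := fun s => rfl
        obtain ⟨g, hg⟩ := GLThree.aut ((eS.trans φ).trans eS.symm)
        refine ⟨e g, h.xe g, fun l => ?_⟩
        obtain ⟨s, rfl⟩ := eS.surjective l
        have h1 := hg s
        have h2 : ((eS.trans φ).trans eS.symm) s = eS.symm (φ (eS s)) := rfl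
        rw [h2] at h1
        have h3 : ((φ (eS s) : Lz e) : H) = e (eS.symm (φ (eS s))) := by
          rw [← heS, MulEquiv.apply_symm_apply]
        rw [h3, h1, map_mul, map_mul, map_inv, heS]
      nb := hb }

/-- `[e, G₁] ≤ ⟨z⟩` for `e` in an abelian normal subgroup. -/
theorem comm_of_abelian (h : DStr z x e) {A : Subgroup H} (hA : A.Normal)
    (hab : ∀ a ∈ A, ∀ b ∈ A, a * b = b * a) {d : H} (hd : d ∈ A) (hdx : d * x = x * d) :
    Nx x e d := by
  have h1 : ∀ g : Γ, d * e g * d⁻¹ * (e g)⁻¹ = 1 ∨ d * e g * d⁻¹ * (e g)⁻¹ = z := by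
    intro g
    obtain ⟨g', hg'⟩ := h.nrm d hdx g
    have h2 : e (g' * g⁻¹) ∈ A := by
      have h3 : e (g' * g⁻¹) = d * (e g * d⁻¹ * (e g)⁻¹) := by
        rw [map_mul, map_inv, ← hg']; group
      rw [h3]
      exact A.mul_mem hd (hA.conj_mem _ (A.inv_mem hd) (e g))
    have h4 : ∀ s ∈ GLThree.S, (g' * g⁻¹) * (s * (g' * g⁻¹) * s⁻¹) =
        (s * (g' * g⁻¹) * s⁻¹) * (g' * g⁻¹) := by
      intro s _
      apply h.inj
      have h5 := hab _ h2 _ (hA.conj_mem _ h2 (e s))
      rw [map_mul e (g' * g⁻¹), map_mul e _ (g' * g⁻¹), map_mul e _ s⁻¹, map_mul e s, map_inv e s]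
      exact h5
    rcases GLThree.eq_of_comm_conj _ h4 with h5 | h5
    · left
      rw [hg', ← map_inv, ← map_mul, h5, map_one]
    · right
      rw [hg', ← map_inv, ← map_mul, h5, h.ez]
  have h3 : ∀ t : Γ, t * t * t = 1 → d * e t = e t * d := by
    intro t ht
    rcases h1 t with h2 | h2
    · rw [mul_inv_eq_one, mul_inv_eq_iff_eq_mul] at h2
      exact h2
    · exfalso
      have h4 : d * e t * d⁻¹ = z * e t := by
        rw [← h2]; group
      have h5 : (d * e t * d⁻¹) * (d * e t * d⁻¹) * (d * e t * d⁻¹) = 1 := by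
        calc (d * e t * d⁻¹) * (d * e t * d⁻¹) * (d * e t * d⁻¹) = d * (e t * e t * e t) * d⁻¹ := by
              group
          _ = 1 := by rw [← map_mul, ← map_mul, ht, map_one]; group
      rw [h4] at h5
      have h6 : z * e t * (z * e t) * (z * e t) = z := by
        calc z * e t * (z * e t) * (z * e t) = z * (e t * z) * e t * (z * e t) := by group
          _ = (z * z) * (e t * e t) * (z * e t) := by rw [h.zc (e t)]; group
          _ = (e t * e t) * z * e t := by rw [h.zz]; group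
          _ = z * (e t * e t * e t) := by rw [h.zc (e t * e t)]; group
          _ = z := by rw [← map_mul, ← map_mul, ht, map_one, mul_one]
      rw [h6] at h5
      exact h.z_ne h5
  refine ⟨hdx, fun s hs => ?_⟩
  rw [GLThree.S_eq] at hs
  refine closure_induction (p := fun s _ => d * e s = e s * d) ?_ ?_ ?_ ?_ hs
  · rintro s (rfl | rfl)
    · exact h3 _ GLThree.uuu
    · exact h3 _ GLThree.vvv
  · rw [map_one, one_mul, mul_one]
  · intro s t _ _ hs ht
    rw [map_mul, ← mul_assoc, hs, mul_assoc, ht, mul_assoc]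
  · intro s _ hs
    rw [map_inv]
    calc d * (e s)⁻¹ = (e s)⁻¹ * (e s * d) * (e s)⁻¹ := by group
      _ = (e s)⁻¹ * d := by rw [← hs]; group

/-- `Y ≤ R` (Thompson's `A × B` lemma) -/
theorem Y_le [Finite H] (h : DStr z x e) {R : Subgroup H} (hRn : R.Normal) (hR : IsPGroup 2 R)
    (hRc : ∀ g : H, (∀ r ∈ R, g * r = r * g) → g ∈ R) : GLThree.Y.map e ≤ R := by
  have : Fact (Nat.Prime 2) := ⟨Nat.prime_two⟩
  -- an element of `C_R(x)` not commuting with `e u`
  have hu3 : e GLThree.u * e GLThree.u * e GLThree.u = 1 := by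
    rw [← map_mul, ← map_mul, GLThree.uuu, map_one]
  have hu1 : e GLThree.u ≠ 1 := fun h1 => GLThree.u_ne_one (h.inj (by rw [h1, map_one]))
  have huR : e GLThree.u ∉ R := by
    intro hu
    obtain ⟨n, hn⟩ := hR ⟨_, hu⟩
    have h1 : (e GLThree.u) ^ 2 ^ n = 1 := congrArg Subtype.val hn
    have h2 : orderOf (e GLThree.u) ∣ 2 ^ n := orderOf_dvd_of_pow_eq_one h1
    have h3 : orderOf (e GLThree.u) ∣ 3 := by
      rw [orderOf_dvd_iff_pow_eq_one, pow_succ, pow_two, hu3]
    have h4 : orderOf (e GLThree.u) ∣ 1 := by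
      have hc : (2 ^ n).Coprime 3 := Nat.Coprime.pow_left n (by norm_num)
      rw [← hc]
      exact Nat.dvd_gcd h2 h3
    exact hu1 (orderOf_eq_one_iff.1 (Nat.dvd_one.1 h4))
  have hnorm : ∀ y : H, y ∈ normalizer (R : Set H) := by
    intro y
    rw [mem_normalizer_iff]
    refine fun r => ⟨fun hr => hRn.conj_mem r hr y, fun hr => ?_⟩
    have h1 := hRn.conj_mem _ hr y⁻¹
    have h2 : y⁻¹ * (y * r * y⁻¹) * y⁻¹⁻¹ = r := by group
    rwa [h2] at h1
  obtain ⟨r, hr, hrx, hru⟩ : ∃ r ∈ R, r * x = x * r ∧ r * e GLThree.u ≠ e GLThree.u * r := by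
    by_contra hcon
    push Not at hcon
    apply huR
    have hle := Lib.ThompsonPQ.thompson_p_times_q 2 (zpowers x) (zpowers (e GLThree.u)) R ?_ ?_ hR
      ?_ ?_ ?_ ?_
    · refine hRc _ fun r hr => ?_
      exact (mem_centralizer_iff.1 (hle (mem_zpowers _)) r hr).symm
    · intro y
      obtain ⟨k, hk⟩ := mem_zpowers_iff.1 y.2
      refine ⟨1, Subtype.ext ?_⟩
      change (y : H) ^ 2 ^ 1 = 1
      rw [← hk, pow_one, ← zpow_natCast, ← zpow_mul, mul_comm, zpow_mul, zpow_natCast, pow_two,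
        h.xx, one_zpow]
    · rw [Nat.card_zpowers]
      have h3 : orderOf (e GLThree.u) ∣ 3 := by
        rw [orderOf_dvd_iff_pow_eq_one, pow_succ, pow_two, hu3]
      exact Nat.Coprime.coprime_dvd_left h3 (by norm_num)
    · rw [zpowers_le, mem_centralizer_iff]
      intro y hy
      obtain ⟨k, rfl⟩ := mem_zpowers_iff.1 hy
      rw [← map_zpow]
      exact h.xe _
    · exact fun y _ => hnorm y
    · exact fun y _ => hnorm y
    · rintro r ⟨hr, hrx⟩
      have h1 : r * x = x * r := (mem_centralizer_iff.1 hrx x (mem_zpowers x)).symm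
      rw [mem_centralizer_iff]
      intro y hy
      obtain ⟨k, rfl⟩ := mem_zpowers_iff.1 hy
      have h2 : Commute r (e GLThree.u) := hcon r hr h1
      exact ((h2.zpow_right k).eq).symm
  -- `g = [r, u]`
  obtain ⟨u', hu', hu''⟩ := h.nrmS hrx _ GLThree.uS
  obtain ⟨g, hg⟩ : ∃ g, g = u' * GLThree.u⁻¹ := ⟨_, rfl⟩
  have hgS : g ∈ GLThree.S := by
    rw [hg]; exact GLThree.S.mul_mem hu' (GLThree.S.inv_mem GLThree.uS)
  have hgR : e g ∈ R := by
    have h1 : e g = r * (e GLThree.u * r⁻¹ * (e GLThree.u)⁻¹) := by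
      rw [hg, map_mul, map_inv, ← hu'']; group
    rw [h1]
    exact R.mul_mem hr (hRn.conj_mem _ (R.inv_mem hr) _)
  have hgY : g ∈ GLThree.Y := by
    obtain ⟨n, hn⟩ := hR ⟨_, hgR⟩
    have h1 : (e g) ^ 2 ^ n = 1 := congrArg Subtype.val hn
    rw [← map_pow] at h1
    exact GLThree.mem_Y_of_pow g hgS (h.inj (by rw [h1, map_one]))
  have hg1 : g ≠ 1 := by
    intro h1
    apply hru
    rw [h1] at hg
    have h2 : u' = GLThree.u := by rw [eq_comm, mul_inv_eq_one] at hg; exact hg
    rw [h2, mul_inv_eq_iff_eq_mul] at hu''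
    exact hu''
  have hgz : g ≠ GLThree.z := by
    intro h1
    have h2 : u' = GLThree.z * GLThree.u := by
      rw [← h1, hg]; group
    have h3 : u' * u' * u' = 1 := by
      apply h.inj
      rw [map_mul, map_mul, map_one, ← hu'']
      calc r * e GLThree.u * r⁻¹ * (r * e GLThree.u * r⁻¹) * (r * e GLThree.u * r⁻¹) =
          r * (e GLThree.u * e GLThree.u * e GLThree.u) * r⁻¹ := by group
        _ = 1 := by rw [hu3]; group
    have h4 : GLThree.z * GLThree.u * (GLThree.z * GLThree.u) * (GLThree.z * GLThree.u) =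
        GLThree.z := by
      calc GLThree.z * GLThree.u * (GLThree.z * GLThree.u) * (GLThree.z * GLThree.u) =
          GLThree.z * (GLThree.u * GLThree.z) * GLThree.u * (GLThree.z * GLThree.u) := by group
        _ = (GLThree.z * GLThree.z) * (GLThree.u * GLThree.u) * (GLThree.z * GLThree.u) := by
          rw [GLThree.zcen GLThree.u]; group
        _ = (GLThree.u * GLThree.u) * GLThree.z * GLThree.u := by rw [GLThree.zz]; group
        _ = GLThree.z * (GLThree.u * GLThree.u * GLThree.u) := by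
          rw [GLThree.zcen (GLThree.u * GLThree.u)]; group
        _ = GLThree.z := by rw [GLThree.uuu, mul_one]
    rw [h2, h4] at h3
    exact GLThree.z_ne h3
  have hzR : z ∈ R := by
    have h1 : e (g * g) ∈ R := by rw [map_mul]; exact R.mul_mem hgR hgR
    rcases GLThree.Ysq g hgY with h2 | h2
    · rcases GLThree.Yinv g hgY h2 with h3 | h3
      · exact absurd h3 hg1
      · exact absurd h3 hgz
    · rw [h2, h.ez] at h1
      exact h1
  rintro _ ⟨y, hy, rfl⟩
  by_cases hy1 : y = 1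
  · rw [hy1, map_one]; exact R.one_mem
  by_cases hyz : y = GLThree.z
  · rw [hyz, h.ez]; exact hzR
  obtain ⟨s, _, hs⟩ := GLThree.Yconj g y hgY hy hg1 hgz hy1 hyz
  have h1 : e y = e s * e g * (e s)⁻¹ := by
    rw [← map_mul, hs, map_mul]; group
  rw [h1]
  exact hRn.conj_mem _ hgR _

/-- **End of case B** at the level of `H = C(z)/O(C(z))`. -/
theorem false_of_dstr [Finite H] (h : DStr z x e) {R : Subgroup H} (hRn : R.Normal)
    (hR : IsPGroup 2 R) (hRc : ∀ g : H, (∀ r ∈ R, g * r = r * g) → g ∈ R)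
    (hRm : ∀ N : Subgroup H, N.Normal → IsPGroup 2 N → N ≤ R)
    (hrank : ∀ A B : Subgroup H, A ≤ R → Cfsg.Agent.TwoFusion.SectionalRank.ElemSection 2 A B →
      Nat.card A ≤ 2 ^ 4 * Nat.card B)
    (star : ∀ f : H →* ℤˣ, f x = 1) (conj : ∃ s : H, s * x * s⁻¹ = x * z)
    (hb : ∀ g, g * e GLThree.b * g⁻¹ ≠ e GLThree.b * x ∧
      g * e GLThree.b * g⁻¹ ≠ e GLThree.b * (x * z))
    (ho : (∃ n, Nx x e n ∧ ¬ W x z n) ∨ ∃ g, g * x * g⁻¹ = x * e GLThree.b) : False := by
  by_cases hn : ∀ g, g * x * g⁻¹ = x ∨ g * x * g⁻¹ = x * z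
  · obtain ⟨c, hc⟩ := h.toNorm hn hb
    obtain ⟨s, hs⟩ := conj
    obtain ⟨f, hf⟩ := hc.exists_hom ⟨s, by
      rw [hs]
      intro h1
      exact h.z_ne (by simpa using h1)⟩
    rw [star f] at hf
    exact absurd hf (by decide)
  · push Not at hn
    have hYR := h.Y_le hRn hR hRc
    have L : LocBase.Loc z x R (GLThree.Y.map e) :=
      { zc := fun g => (h.zc g).symm
        z1 := h.z_ne
        z2 := h.zz
        x1 := h.x_ne
        xz := h.xz_ne
        x2 := h.xx
        Rn := hRn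
        R2 := hR
        Rc := hRc
        Rm := hRm
        star := star
        conj := conj
        nn := hn
        YR := hYR
        Ycard := by
          rw [card_map_of_injective h.inj]; exact GLThree.card_Y
        zY := ⟨GLThree.z, GLThree.zY, h.ez⟩
        Ysq := by
          rintro _ ⟨y, hy, rfl⟩
          rcases GLThree.Ysq y hy with h1 | h1
          · left; rw [← map_mul, h1, map_one]
          · right; rw [← map_mul, h1, h.ez]
        Yinv := by
          rintro _ ⟨y, hy, rfl⟩ h1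
          have h2 : y * y = 1 := h.inj (by rw [map_mul, h1, map_one])
          rcases GLThree.Yinv y hy h2 with h3 | h3
          · left; rw [h3, map_one]
          · right; rw [h3, h.ez]
        xY := by
          rintro _ ⟨y, hy, rfl⟩
          exact (h.xe y).symm
        rank := hrank
        inv := by
          intro A hA _ hab d hd hdx hdd
          have h1 := h.noinv d (h.comm_of_abelian hA hab hd hdx) hdd
          rcases h1 with h1 | h1 | h1 | h1
          · exact Or.inl h1
          · exact Or.inr (Or.inr (Or.inl h1))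
          · exact Or.inr (Or.inl h1)
          · exact Or.inr (Or.inr (Or.inr h1))
        four := by
          intro A hA _ hab d hd hdx h1
          have h2 := h.W_sq (h.sq_W (h.comm_of_abelian hA hab hd hdx))
          rw [h2] at h1
          exact h.z_ne h1.symm
        comY := by
          rintro A hA _ hab d hd hdx _ ⟨y, hy, rfl⟩
          exact (h.comm_of_abelian hA hab hd hdx).2 y (GLThree.Y_le hy) }
    refine LocMain.false_of_loc L fun hx => ?_
    rcases ho with ⟨n, hn1, hn2⟩ | ⟨g, hg⟩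
    · refine ⟨n, ?_, hn1.1, ?_, ?_, ?_, ?_⟩
      · rintro _ ⟨y, hy, rfl⟩
        exact hn1.2 y (GLThree.Y_le hy)
      · exact fun h1 => hn2 (Or.inl h1)
      · exact fun h1 => hn2 (Or.inr (Or.inr (Or.inl h1)))
      · exact fun h1 => hn2 (Or.inr (Or.inl h1))
      · exact fun h1 => hn2 (Or.inr (Or.inr (Or.inr h1)))
    · exfalso
      have h1 : x * e GLThree.b ∈ R := by rw [← hg]; exact hRn.conj_mem _ hx _
      have h2 : e GLThree.b ∈ R := (R.mul_mem_cancel_left hx).1 h1
      have h3 : e GLThree.u ∈ R := by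
        have h4 : GLThree.u = GLThree.b * (GLThree.u * GLThree.b⁻¹ * GLThree.u⁻¹) := by
          have h5 : GLThree.b * GLThree.u = GLThree.u * (GLThree.u * GLThree.b) := by
            simp only [GLThree.ext_iff', GLThree.mul00, GLThree.mul01, GLThree.mul10, GLThree.mul11]
            decide
          calc GLThree.u = GLThree.u * (GLThree.u * GLThree.b) * GLThree.b⁻¹ * GLThree.u⁻¹ := by
                group
            _ = _ := by rw [← h5]; group
        rw [h4, map_mul, map_mul, map_mul, map_inv, map_inv]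
        exact R.mul_mem h2 (hRn.conj_mem _ (R.inv_mem h2) _)
      obtain ⟨n, hn⟩ := hR ⟨_, h3⟩
      have h4 : (e GLThree.u) ^ 2 ^ n = 1 := congrArg Subtype.val hn
      have h5 : orderOf (e GLThree.u) ∣ 2 ^ n := orderOf_dvd_of_pow_eq_one h4
      have h6 : orderOf (e GLThree.u) ∣ 3 := by
        rw [orderOf_dvd_iff_pow_eq_one, pow_succ, pow_two, ← map_mul, ← map_mul, GLThree.uuu,
          map_one]
      have h7 : orderOf (e GLThree.u) ∣ 1 := by
        have hc : (2 ^ n).Coprime 3 := Nat.Coprime.pow_left n (by norm_num)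
        rw [← hc]
        exact Nat.dvd_gcd h5 h6
      have h8 : e GLThree.u = 1 := orderOf_eq_one_iff.1 (Nat.dvd_one.1 h7)
      exact GLThree.u_ne_one (h.inj (by rw [h8, map_one]))

end DStr

end Cfsg.Agent.GH.L3.DStr
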