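import Cfsg.Agent.GH.XSet
import Cfsg.Agent.GH.Comp
import Cfsg.Agent.Walter.SylowIn

/-!
# GH-L3 SD: the T-level frame (helper242 bb GH #6844)

`Frame X N`: `X` an `XSet` of involutions; for `y ∈ X`, `KK y` is the 2-component of `C(y)`.
Since `KK y` is normal in `C(y)`, the 2-elements of `KK y * O(C(y))` are in `KK y`, so `KO y` of the text is
`KK y` here, and `t ∈ BO y` is `Fixes t (KK y)` (`t ∈ fixer (KK y)`).

* `Ctr y T z`: `P = T ⊓ KK y` is not commutative, `z ∈ Z(T)` is the only involution of `Z(P) = {1, z}`, and `P` has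
  another involution.
* `Full y T z`: moreover `P` is semidihedral of order 16, the elements of `T` centralizing `P` are in `Q × ⟨z⟩`,
  `Q = T ⊓ fixer (KK y)`, and `|T| ≤ 32 |Q|`.
* `Outer y u T z`: `u` acts on `KK y` as an outer involution, `|P| = 8`, `C_T(P) ≤ Q × ⟨u⟩ × ⟨z⟩`, `u` is conjugate to
  `u z` in `KK y`.
-/

set_option autoImplicit false

open Cfsg Subgroup
open Cfsg.Agent.SignalizersComponents Cfsg.Agent.Lib
open Cfsg.Agent.SignalizersComponents.IntrinsicBasic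
open Cfsg.Agent.Intrinsic.Basic Cfsg.Agent.Intrinsic.Cen
open Cfsg.Agent.GH.Defs Cfsg.Agent.GH.XSet
open Cfsg.Agent.Walter.SylowIn
open scoped commutatorElement

namespace Cfsg.Agent.GH.L3.TFrame

variable {G : Type*} [Group G]

/-- `C(y)` -/
abbrev C (y : G) : Subgroup G := centralizer ({y} : Set G)

/-- `z` is the central involution of `P = T ⊓ KK y`. -/
structure Ctr (y : G) (T : Subgroup G) (z : G) : Prop where
  mem : z ∈ T ⊓ KK y
  ord : orderOf z = 2
  comm : ∀ t ∈ T, Commute t z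
  uniq : ∀ a ∈ T ⊓ KK y, (∀ p ∈ T ⊓ KK y, Commute a p) → a = 1 ∨ a = z
  nonab : ∃ a ∈ T ⊓ KK y, ∃ b ∈ T ⊓ KK y, ¬ Commute a b
  four : ∃ b ∈ T ⊓ KK y, orderOf b = 2 ∧ b ≠ z

/-- `P = T ⊓ KK y` is semidihedral of order 16. -/
structure Full (y : G) (T : Subgroup G) (z : G) : Prop extends Ctr y T z where
  sd : IsQuasiDihedral ↥(T ⊓ KK y : Subgroup G)
  card : Nat.card ↥(T ⊓ KK y : Subgroup G) = 16
  cent : ∀ t ∈ T, (∀ p ∈ T ⊓ KK y, Commute t p) → Fixes t (KK y) ∨ Fixes (t * z) (KK y)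
  index : Nat.card T ≤ 32 * Nat.card ↥(T ⊓ fixer (KK y) : Subgroup G)

/-- `u` acts on `KK y` as an outer involution; `P = T ⊓ KK y` is dihedral of order 8. -/
structure Outer (y u : G) (T : Subgroup G) (z : G) : Prop extends Ctr y T z where
  card : Nat.card ↥(T ⊓ KK y : Subgroup G) = 8
  outer : ∀ k ∈ KK y, ¬ Fixes (u * k) (KK y)
  cent : ∀ t ∈ T, (∀ p ∈ T ⊓ KK y, Commute t p) →
    Fixes t (KK y) ∨ Fixes (t * z) (KK y) ∨ Fixes (t * u) (KK y) ∨ Fixes (t * u * z) (KK y)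
  fus : ∃ c ∈ KK y, c * u * c⁻¹ = u * z

/-- The T-level frame. -/
structure Frame (X : Set G) (N : ℕ) : Prop extends XSet X N where
  odd : ∀ y ∈ X, ¬ EvenCenter (KK y)
  rank : SectionalPRankLE 2 4 G
  /-- all the involutions of `KK y` are conjugate in `KK y` -/
  conjK : ∀ y ∈ X, ∀ a ∈ KK y, ∀ b ∈ KK y, orderOf a = 2 → orderOf b = 2 →
    ∃ c ∈ KK y, c * a * c⁻¹ = b
  /-- `T` Sylow in `C(y)` -/
  full : ∀ y ∈ X, ∀ T : Subgroup G, SylIn 2 T (C y) → ∃ z, Full y T z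
  /-- `y, u ∈ X` commuting and not the same, `T` Sylow in `C(y) ∩ C(u)` -/
  pair : ∀ y ∈ X, ∀ u ∈ X, Commute y u → ¬ Fixes u (KK y) →
    ∀ T : Subgroup G, SylIn 2 T (C y ⊓ C u) →
      ∃ z, (Full y T z ∧ Fixes (u * z) (KK y)) ∨ Outer y u T z

variable {X : Set G} {N : ℕ}

theorem mem_C {a y : G} : a ∈ C y ↔ Commute a y := mem_centralizer_singleton_iff

theorem Ctr.sq {y z : G} {T : Subgroup G} (h : Ctr y T z) : z * z = 1 := by
  rw [← pow_two, ← h.ord, pow_orderOf_eq_one]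

theorem Ctr.ne {y z : G} {T : Subgroup G} (h : Ctr y T z) : z ≠ 1 := by
  rintro rfl
  have := h.ord
  simp at this

theorem exists_pow {T : Subgroup G} (hT : IsPGroup 2 T) {t : G} (ht : t ∈ T) :
    ∃ n : ℕ, t ^ 2 ^ n = 1 := by
  obtain ⟨n, hn⟩ := hT ⟨t, ht⟩
  exact ⟨n, by simpa using congrArg Subtype.val hn⟩

theorem orderOf_eq_two {a : G} (h : a * a = 1) (h1 : a ≠ 1) : orderOf a = 2 :=
  orderOf_eq_prime (by rw [pow_two, h]) h1

theorem mul_self_of_orderOf {a : G} (h : orderOf a = 2) : a * a = 1 := by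
  rw [← pow_two, ← h, pow_orderOf_eq_one]

theorem conj_orderOf (g a : G) : orderOf (g * a * g⁻¹) = orderOf a := by
  have h := orderOf_injective (MulAut.conj g).toMonoidHom (MulAut.conj g).injective a
  exact h

/-- Involutions fixing `KK y` are in `X`. -/
theorem Frame.mem_X (h : Frame X N) {y u : G} (hy : y ∈ X) (hu : orderOf u = 2)
    (hc : Commute u y) (hf : Fixes u (KK y)) : u ∈ X := h.closed y hy u hu hc hf

variable [Finite G]

/-- A 2-element of `KK y` fixing `KK y` is trivial. -/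
theorem Frame.eq_one (h : Frame X N) {y a : G} (hy : y ∈ X) (ha : a ∈ KK y) (hf : Fixes a (KK y))
    {n : ℕ} (hn : a ^ 2 ^ n = 1) : a = 1 :=
  Cfsg.Agent.GH.Comp.eq_one_of_odd (h.comp y hy) (h.odd y hy) hf ⟨a, ha, by
    rw [inv_mul_cancel]; exact one_mem _⟩ hn

/-- `w` same as `x` and same as `u`: `u` is the same as `x`. -/
theorem Frame.trans (h : Frame X N) {x u w : G} (hx : x ∈ X) (hu : u ∈ X) (hw : w ∈ X)
    (hxu : Commute x u) (hxw : Commute x w) (huw : Commute u w) (h1 : Fixes w (KK x))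
    (h2 : Fixes w (KK u)) : Fixes u (KK x) := by
  have h3 : Fixes x (KK w) := h.toXSet.fixes_symm hx hw hxw h1
  have h4 : Fixes u (KK w) := h.toXSet.fixes_symm hu hw huw h2
  have h5 := h.toXBase.cen_sup hx hw hxw h1
  have h6 := h.toXBase.cen_sup hw hx hxw.symm h3
  have h7 := h.toXBase.cen_eq hx hw hxw h1 h3
  have h8 : u ∈ normalizer (Intrinsic.Cen.cen (KK x) w : Set G) :=
    mem_normalizer_cen (h.toXBase.mem_normalizer hx hxu.symm) huw.eq
  rw [← h7] at h6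
  have h9 := (fixes_iff_of_sup h6 h8 h4.1).mpr h4
  exact (fixes_iff_of_sup h5 h8 (h.toXBase.mem_normalizer hx hxu.symm)).mp h9

end Cfsg.Agent.GH.L3.TFrame
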