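import Cfsg.Agent.GH.L3.CaseBS
import Cfsg.Agent.GH.L3.Cycle
import Cfsg.Agent.GH.L3.DStr
import Cfsg.Agent.GH.L3S.WFrame
import Cfsg.Agent.GH.L3S.BOne
import Cfsg.Agent.GH.WLift
import Cfsg.Agent.GH.Rank

/-!
# GH-L3 SD: the end of CASE B

`HData`: the description of `C_H(x)`, `H = C(z)/M`, `M` normal of odd order in `C(z)`.
`false_of_hdata`: contradiction.
-/

set_option autoImplicit false
set_option linter.unusedSectionVars false

open Cfsg Subgroup
open Cfsg.Agent.Intrinsic.Basic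
open Cfsg.Agent.GH.Defs Cfsg.Agent.GH.XSet
open Cfsg.Agent.Walter.SylowIn
open Cfsg.Agent.GH.L3.TFrame
open Cfsg.Agent.GH.L3.GLThree (Γ)

namespace Cfsg.Agent.GH.L3.CaseBEnd

/-- two noncentral involutions of `GL₂(3)` are conjugate -/
def RP (a b c d : ZMod 3) : Prop :=
  ∃ p q r s : ZMod 3, p * s - q * r ≠ 0 ∧ p * 1 + q * 0 = a * p + b * r ∧
    p * 0 + q * (-1) = a * q + b * s ∧ r * 1 + s * 0 = c * p + d * r ∧
    r * 0 + s * (-1) = c * q + d * s

instance (a b c d : ZMod 3) : Decidable (RP a b c d) := by unfold RP; infer_instance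

theorem refl_dec : ∀ a b c d : ZMod 3, a * d - b * c ≠ 0 →
    (a * a + b * c = 1 ∧ a * b + b * d = 0 ∧ c * a + d * c = 0 ∧ c * b + d * d = 1) →
    ¬ (a = 1 ∧ b = 0 ∧ c = 0 ∧ d = 1) → ¬ (a = -1 ∧ b = 0 ∧ c = 0 ∧ d = -1) → RP a b c d := by
  decide +kernel

/-- a noncentral involution of `GL₂(3)` is conjugate to `b` -/
theorem exists_conj_b {g : Γ} (h : g * g = 1) (h1 : g ≠ 1) (hz : g ≠ GLThree.z) :
    ∃ k : Γ, k * GLThree.b * k⁻¹ = g := by
  rw [GLThree.ext_iff', GLThree.mul00, GLThree.mul01, GLThree.mul10, GLThree.mul11] at h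
  rw [Ne, GLThree.ext_iff'] at h1 hz
  obtain ⟨p, q, r, s, h2, h3⟩ := refl_dec _ _ _ _ (GLThree.dt_ne g) h h1 hz
  refine ⟨GLThree.mk p q r s h2, ?_⟩
  rw [mul_inv_eq_iff_eq_mul, GLThree.ext_iff', GLThree.mul00, GLThree.mul01, GLThree.mul10,
    GLThree.mul11, GLThree.mul00, GLThree.mul01, GLThree.mul10, GLThree.mul11]
  exact h3

/-- two noncentral involutions of `GL₂(3)` are conjugate -/
theorem exists_conj_inv {g h : Γ} (hg : g * g = 1) (hg1 : g ≠ 1) (hgz : g ≠ GLThree.z)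
    (hh : h * h = 1) (hh1 : h ≠ 1) (hhz : h ≠ GLThree.z) : ∃ k : Γ, k * g * k⁻¹ = h := by
  obtain ⟨k, hk⟩ := exists_conj_b hg hg1 hgz
  obtain ⟨l, hl⟩ := exists_conj_b hh hh1 hhz
  refine ⟨l * k⁻¹, ?_⟩
  rw [← hk, ← hl]; group

variable {G : Type*} [Group G] {X : Set G} {N : ℕ} {x z : G} {T : Subgroup G}

/-- The description of `C_H(x)`, `H = C(z)/M`. -/
structure HData (x z : G) (hx : x ∈ C z) (M : Subgroup ↥(C z)) [M.Normal]
    (e : Γ →* (↥(C z) ⧸ M)) : Prop where
  odd : Odd (Nat.card M)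
  ds : DStr.DStr (QuotientGroup.mk ⟨z, mem_C.2 (Commute.refl z)⟩ : ↥(C z) ⧸ M)
    (QuotientGroup.mk ⟨x, hx⟩) e
  eK : ∀ g, ∃ k : ↥(C z), (k : G) ∈ KK x ∧ (QuotientGroup.mk k : ↥(C z) ⧸ M) = e g

section

variable [Finite G]

/-- an involution of `GL₂(3)` lifts to an involution of `KK x ⊓ C(z)` -/
theorem HData.exists_inv {hx : x ∈ C z} {M : Subgroup ↥(C z)} [M.Normal] {e : Γ →* (↥(C z) ⧸ M)}
    (hd : HData x z hx M e) {g : Γ} (hg : g * g = 1) (hg1 : g ≠ 1) :
    ∃ k : ↥(C z), (k : G) ∈ KK x ∧ k * k = 1 ∧ orderOf (k : G) = 2 ∧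
      (QuotientGroup.mk k : ↥(C z) ⧸ M) = e g := by
  obtain ⟨k0, hk0, e0⟩ := hd.eK g
  obtain ⟨m, hm⟩ := hd.odd
  have h1 : k0 * k0 ∈ M := by
    rw [← QuotientGroup.eq_one_iff, QuotientGroup.mk_mul, e0, ← map_mul, hg, map_one]
  have h2 : (k0 * k0) ^ Nat.card M = 1 := by
    have := pow_card_eq_one' (x := (⟨k0 * k0, h1⟩ : M))
    exact congrArg Subtype.val this
  have h3 : k0 ^ Nat.card M * k0 ^ Nat.card M = 1 := by
    rw [← pow_add, ← two_mul, pow_mul, pow_two, h2]
  have h4 : (QuotientGroup.mk (k0 ^ Nat.card M) : ↥(C z) ⧸ M) = e g := by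
    rw [QuotientGroup.mk_pow, e0, hm, pow_succ, pow_mul, pow_two, ← map_mul, hg, map_one, one_pow,
      one_mul]
  have h5 : k0 ^ Nat.card M ≠ 1 := by
    intro h5
    rw [h5, QuotientGroup.mk_one] at h4
    exact hg1 (hd.ds.inj (by rw [← h4, map_one]))
  refine ⟨k0 ^ Nat.card M, ?_, h3, ?_, h4⟩
  · rw [Subgroup.coe_pow]
    exact (KK x).pow_mem hk0 _
  · apply orderOf_eq_two
    · rw [← Subgroup.coe_mul, h3, Subgroup.coe_one]
    · intro h6
      exact h5 (Subtype.ext h6)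

theorem conj_of_mk_eq {A : Type*} [Group A] [Finite A] {M : Subgroup A} [M.Normal]
    (hM : Odd (Nat.card M)) {a b : A} (ha : a * a = 1) (hb : b * b = 1)
    (h : (QuotientGroup.mk a : A ⧸ M) = QuotientGroup.mk b) : ∃ r ∈ M, r * a * r⁻¹ = b := by
  apply L3S.WFrame.conj_of_odd hM ha hb
  rw [← QuotientGroup.eq_one_iff, QuotientGroup.mk_mul, h, ← QuotientGroup.mk_mul, hb,
    QuotientGroup.mk_one]

section main

variable {hx : x ∈ C z} {M : Subgroup ↥(C z)} [M.Normal] {e : Γ →* (↥(C z) ⧸ M)}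

/-- involutions of `KK x` are not in `X`, their products with `x` are in `X`. -/
theorem mul_mem_X (B : BData X N x z T) {v : G} (hv : v ∈ KK x) (hv2 : orderOf v = 2) :
    x * v ∈ X := by
  obtain ⟨c, hc, h1⟩ := B.frame.conjK x B.hx v hv z B.full.mem.2 hv2 B.full.ord
  have hcx : Commute c x := B.frame.toXBase.comm_of_mem B.hx hc
  have h2 : c * (x * v) * c⁻¹ = x * z := by
    calc c * (x * v) * c⁻¹ = (c * x) * v * c⁻¹ := by group
      _ = (x * c) * v * c⁻¹ := by rw [hcx.eq]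
      _ = x * (c * v * c⁻¹) := by group
      _ = x * z := by rw [h1]
  have h3 := B.frame.conj _ B.xz c⁻¹
  rw [← h2] at h3
  have h4 : c⁻¹ * (c * (x * v) * c⁻¹) * c⁻¹⁻¹ = x * v := by group
  rwa [h4] at h3

/-- no element of `X` is conjugate to an involution of `KK x` -/
theorem not_conj (B : BData X N x z T) {v w : G} (hv : v ∈ KK x) (hv2 : orderOf v = 2)
    (hw : w ∈ X) (g : G) : g * v * g⁻¹ ≠ w := by
  intro h
  apply B.noX x B.hx v hv hv2
  have h1 := B.frame.conj _ hw g⁻¹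
  rw [← h] at h1
  have h2 : g⁻¹ * (g * v * g⁻¹) * g⁻¹⁻¹ = v := by group
  rwa [h2] at h1

/-- (nb) -/
theorem nb (B : BData X N x z T) (hd : HData x z hx M e) (h : ↥(C z) ⧸ M) :
    h * e GLThree.b * h⁻¹ ≠ e GLThree.b * QuotientGroup.mk ⟨x, hx⟩ ∧
      h * e GLThree.b * h⁻¹ ≠ e GLThree.b * (QuotientGroup.mk ⟨x, hx⟩ *
        QuotientGroup.mk ⟨z, mem_C.2 (Commute.refl z)⟩) := by
  have hD := hd.ds
  have hb1 : GLThree.b ≠ 1 := fun h1 => GLThree.bS (h1 ▸ GLThree.S.one_mem)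
  have hbz : GLThree.b ≠ GLThree.z := fun h1 => GLThree.bS (h1 ▸ GLThree.zS)
  obtain ⟨k, hk, hkk, hk2, ek⟩ := hd.exists_inv GLThree.bb hb1
  have hbz1 : GLThree.b * GLThree.z * (GLThree.b * GLThree.z) = 1 := by
    calc GLThree.b * GLThree.z * (GLThree.b * GLThree.z) =
        GLThree.b * (GLThree.z * GLThree.b) * GLThree.z := by group
      _ = (GLThree.b * GLThree.b) * (GLThree.z * GLThree.z) := by
        rw [← GLThree.zcen]; group
      _ = 1 := by rw [GLThree.bb, GLThree.zz, one_mul]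
  have hbz2 : GLThree.b * GLThree.z ≠ 1 := by
    intro h1
    apply hbz
    calc GLThree.b = GLThree.b * (GLThree.z * GLThree.z) := by rw [GLThree.zz, mul_one]
      _ = (GLThree.b * GLThree.z) * GLThree.z := by group
      _ = GLThree.z := by rw [h1, one_mul]
  obtain ⟨l, hl, hll, hl2, el⟩ := hd.exists_inv hbz1 hbz2
  obtain ⟨y, rfl⟩ := QuotientGroup.mk_surjective h
  have hyk : (y * k * y⁻¹) * (y * k * y⁻¹) = 1 := by
    calc (y * k * y⁻¹) * (y * k * y⁻¹) = y * (k * k) * y⁻¹ := by group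
      _ = 1 := by rw [hkk]; group
  have key : ∀ v : ↥(C z), (v : G) ∈ KK x → v * v = 1 → orderOf (v : G) = 2 →
      (QuotientGroup.mk (y * k * y⁻¹) : ↥(C z) ⧸ M) ≠ QuotientGroup.mk (⟨x, hx⟩ * v) := by
    intro v hv hvv hv2 h1
    have hvx : Commute (v : G) x := B.frame.toXBase.comm_of_mem B.hx hv
    have h2 : (⟨x, hx⟩ * v) * (⟨x, hx⟩ * v) = (1 : ↥(C z)) := by
      apply Subtype.ext
      change (x * v) * (x * v) = 1
      calc (x * v) * (x * v) = x * (v * x) * v := by group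
        _ = (x * x) * (v * v) := by rw [hvx.eq]; group
        _ = 1 := by
          rw [B.xsq, one_mul]
          exact congrArg Subtype.val hvv
    obtain ⟨r, -, hr⟩ := conj_of_mk_eq hd.odd hyk h2 h1
    have h3 : (r * y : ↥(C z)) * k * (r * y : ↥(C z))⁻¹ = ⟨x, hx⟩ * v := by
      rw [← hr]; group
    exact not_conj B hk hk2 (mul_mem_X B hv hv2) ((r * y : ↥(C z)) : G) (congrArg Subtype.val h3)
  constructor
  · intro h1
    refine key k hk hkk hk2 ?_
    rw [QuotientGroup.mk_mul, QuotientGroup.mk_mul, QuotientGroup.mk_inv, ek, h1,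
      QuotientGroup.mk_mul, ek, hD.xe]
  · intro h1
    refine key l hl hll hl2 ?_
    rw [QuotientGroup.mk_mul, QuotientGroup.mk_mul, QuotientGroup.mk_inv, ek, h1,
      QuotientGroup.mk_mul, el, map_mul, ← mul_assoc, ← mul_assoc, hD.xe, hD.ez]

/-- commuting involutions generate an elementary abelian group -/
theorem closure_facts {A : Type*} [Group A] {S : Set A} (hc : ∀ a ∈ S, ∀ b ∈ S, a * b = b * a)
    (hs : ∀ a ∈ S, a * a = 1) : ∀ a ∈ closure S, a * a = 1 := by
  have h1 : closure S ≤ centralizer S := by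
    rw [closure_le]
    intro a ha
    rw [SetLike.mem_coe, mem_centralizer_iff]
    exact fun b hb => hc b hb a ha
  have h2 : closure S ≤ centralizer (closure S : Set A) := by
    rw [closure_le]
    intro a ha
    rw [SetLike.mem_coe, mem_centralizer_iff]
    intro b hb
    exact ((mem_centralizer_iff.1 (h1 hb)) a ha).symm
  intro a ha
  induction ha using closure_induction with
  | mem x hx => exact hs x hx
  | one => rw [one_mul]
  | mul u v hu hv h3 h4 =>
    have h5 : v * u = u * v := mem_centralizer_iff.1 (h2 hu) v hv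
    calc u * v * (u * v) = u * (v * u) * v := by group
      _ = (u * u) * (v * v) := by rw [h5]; group
      _ = 1 := by rw [h3, h4, one_mul]
  | inv u hu h3 =>
    rw [← mul_inv_rev, h3, inv_one]

theorem isPGroup_closure {A : Type*} [Group A] {S : Set A} (hc : ∀ a ∈ S, ∀ b ∈ S, a * b = b * a)
    (hs : ∀ a ∈ S, a * a = 1) : IsPGroup 2 (closure S) := by
  intro a
  refine ⟨1, Subtype.ext ?_⟩
  rw [pow_one, pow_two]
  exact closure_facts hc hs a a.2

/-- **fusion**: if no element outside of `⟨x, z⟩` centralizes `e(SL₂(3))` and `x`, then `x` is conjugate to `x b`. -/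
theorem fusion (B : BData X N x z T) (hd : HData x z hx M e) {s : G} (hsx : s * x * s⁻¹ = x * z)
    (hsz : Commute s z) (hout : ∀ n, DStr.Nx (QuotientGroup.mk ⟨x, hx⟩ : ↥(C z) ⧸ M) e n →
      DStr.W (QuotientGroup.mk ⟨x, hx⟩ : ↥(C z) ⧸ M)
        (QuotientGroup.mk ⟨z, mem_C.2 (Commute.refl z)⟩) n) :
    ∃ g : ↥(C z) ⧸ M, g * QuotientGroup.mk ⟨x, hx⟩ * g⁻¹ =
      QuotientGroup.mk ⟨x, hx⟩ * e GLThree.b := by
  have hD := hd.ds
  obtain ⟨zC, hzC⟩ : ∃ zC : ↥(C z), zC = ⟨z, mem_C.2 (Commute.refl z)⟩ := ⟨_, rfl⟩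
  obtain ⟨xC, hxC⟩ : ∃ xC : ↥(C z), xC = ⟨x, hx⟩ := ⟨_, rfl⟩
  obtain ⟨sC, hsC⟩ : ∃ sC : ↥(C z), sC = ⟨s, mem_C.2 hsz⟩ := ⟨_, rfl⟩
  rw [← hzC, ← hxC] at hD
  rw [← hzC, ← hxC] at hout
  rw [← hxC]
  have hb1 : GLThree.b ≠ 1 := fun h1 => GLThree.bS (h1 ▸ GLThree.S.one_mem)
  have hbz : GLThree.b ≠ GLThree.z := fun h1 => GLThree.bS (h1 ▸ GLThree.zS)
  obtain ⟨k, hk, hkk, hk2, ek⟩ := hd.exists_inv GLThree.bb hb1
  -- relations in `C(z)`
  have xx : xC * xC = 1 := by rw [hxC]; exact Subtype.ext B.xsq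
  have zz : zC * zC = 1 := by rw [hzC]; exact Subtype.ext B.zsq
  have xz : xC * zC = zC * xC := by rw [hxC, hzC]; exact Subtype.ext B.zx.eq
  have zc : ∀ c : ↥(C z), c * zC = zC * c := by
    intro c
    rw [hzC]
    exact Subtype.ext (mem_C.1 c.2).eq
  have sx : sC * xC * sC⁻¹ = xC * zC := by rw [hxC, hzC, hsC]; exact Subtype.ext hsx
  have sxz : sC * (xC * zC) * sC⁻¹ = xC := by
    calc sC * (xC * zC) * sC⁻¹ = (sC * xC * sC⁻¹) * (sC * zC) * sC⁻¹ := by group
      _ = (xC * zC) * (zC * sC) * sC⁻¹ := by rw [sx, zc sC]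
      _ = xC * (zC * zC) := by group
      _ = xC := by rw [zz, mul_one]
  have kx : k * xC = xC * k := by
    rw [hxC]
    exact Subtype.ext (B.frame.toXBase.comm_of_mem B.hx hk).eq
  -- the element `d`
  have hdx : QuotientGroup.mk (sC * k * sC⁻¹) * QuotientGroup.mk xC =
      (QuotientGroup.mk xC * QuotientGroup.mk (sC * k * sC⁻¹) : ↥(C z) ⧸ M) := by
    rw [← QuotientGroup.mk_mul, ← QuotientGroup.mk_mul]
    congr 1
    calc sC * k * sC⁻¹ * xC = sC * k * sC⁻¹ * (sC * (xC * zC) * sC⁻¹) := by rw [sxz]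
      _ = sC * (k * xC) * zC * sC⁻¹ := by group
      _ = sC * xC * (k * zC) * sC⁻¹ := by rw [kx]; group
      _ = sC * (xC * zC) * k * sC⁻¹ := by rw [zc]; group
      _ = (sC * (xC * zC) * sC⁻¹) * (sC * k * sC⁻¹) := by group
      _ = xC * (sC * k * sC⁻¹) := by rw [sxz]
  have hdd : (sC * k * sC⁻¹) * (sC * k * sC⁻¹) = 1 := by
    calc (sC * k * sC⁻¹) * (sC * k * sC⁻¹) = sC * (k * k) * sC⁻¹ := by group
      _ = 1 := by rw [hkk]; group
  obtain ⟨g, n, hn, hgn⟩ := hD.dec hdx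
  -- normalise: `d = e g'` or `d = e g' * x`
  have hcase : ∃ g' : Γ, (QuotientGroup.mk (sC * k * sC⁻¹) : ↥(C z) ⧸ M) = e g' ∨
      (QuotientGroup.mk (sC * k * sC⁻¹) : ↥(C z) ⧸ M) = e g' * QuotientGroup.mk xC := by
    rcases hout n hn with h1 | h1 | h1 | h1
    · exact ⟨g, Or.inl (by rw [hgn, h1, mul_one])⟩
    · exact ⟨g, Or.inr (by rw [hgn, h1])⟩
    · exact ⟨g * GLThree.z, Or.inl (by rw [hgn, h1, map_mul, hD.ez])⟩
    · refine ⟨g * GLThree.z, Or.inr ?_⟩
      rw [hgn, h1, map_mul, hD.ez, mul_assoc, hD.zc]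
  obtain ⟨g', hg'⟩ := hcase
  have hdd' : (QuotientGroup.mk (sC * k * sC⁻¹) * QuotientGroup.mk (sC * k * sC⁻¹) :
      ↥(C z) ⧸ M) = 1 := by
    rw [← QuotientGroup.mk_mul, hdd, QuotientGroup.mk_one]
  rcases hg' with hg' | hg'
  · -- `d = e g'`
    have hgg : g' * g' = 1 := by
      apply hD.inj
      rw [map_mul, ← hg', hdd', map_one]
    have hd1 : e GLThree.b = (QuotientGroup.mk sC)⁻¹ * e g' * QuotientGroup.mk sC := by
      rw [← hg', QuotientGroup.mk_mul, QuotientGroup.mk_mul, QuotientGroup.mk_inv, ek]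
      group
    have hg1 : g' ≠ 1 := by
      intro h1
      apply hb1
      apply hD.inj
      rw [hd1, h1, map_one]
      group
    have hgz : g' ≠ GLThree.z := by
      intro h1
      apply hbz
      apply hD.inj
      rw [hd1, h1, hD.ez, ← QuotientGroup.mk_inv, ← QuotientGroup.mk_mul, zc]
      rw [← QuotientGroup.mk_mul]
      congr 1
      group
    obtain ⟨c, hc⟩ := exists_conj_b hgg hg1 hgz
    -- `q := e(c)⁻¹ s`
    obtain ⟨q, hq⟩ : ∃ q : ↥(C z) ⧸ M, q = (e c)⁻¹ * QuotientGroup.mk sC := ⟨_, rfl⟩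
    have qb : q * QuotientGroup.mk k * q⁻¹ = QuotientGroup.mk k := by
      calc q * QuotientGroup.mk k * q⁻¹ =
          (e c)⁻¹ * (QuotientGroup.mk sC * QuotientGroup.mk k * (QuotientGroup.mk sC)⁻¹) * e c := by
            rw [hq]; group
        _ = (e c)⁻¹ * QuotientGroup.mk (sC * k * sC⁻¹) * e c := by
            rw [QuotientGroup.mk_mul, QuotientGroup.mk_mul, QuotientGroup.mk_inv]
        _ = e (c⁻¹ * g' * c) := by rw [hg', map_mul, map_mul, map_inv]
        _ = e GLThree.b := by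
            congr 1
            rw [← hc]; group
        _ = QuotientGroup.mk k := ek.symm
    have qx : q * QuotientGroup.mk xC * q⁻¹ = (QuotientGroup.mk (xC * zC) : ↥(C z) ⧸ M) := by
      calc q * QuotientGroup.mk xC * q⁻¹ =
          (e c)⁻¹ * (QuotientGroup.mk sC * QuotientGroup.mk xC * (QuotientGroup.mk sC)⁻¹) *
            e c := by rw [hq]; group
        _ = (e c)⁻¹ * QuotientGroup.mk (sC * xC * sC⁻¹) * e c := by
            rw [QuotientGroup.mk_mul, QuotientGroup.mk_mul, QuotientGroup.mk_inv]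
        _ = (e c)⁻¹ * (QuotientGroup.mk xC * (QuotientGroup.mk zC * e c)) := by
            rw [sx, QuotientGroup.mk_mul]; group
        _ = (e c)⁻¹ * (QuotientGroup.mk xC * e c) * QuotientGroup.mk zC := by
            rw [← hD.zc]; group
        _ = QuotientGroup.mk xC * QuotientGroup.mk zC := by rw [← hD.xe]; group
        _ = QuotientGroup.mk (xC * zC) := by rw [QuotientGroup.mk_mul]
    have qz : q * QuotientGroup.mk zC * q⁻¹ = (QuotientGroup.mk zC : ↥(C z) ⧸ M) := by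
      rw [hD.zc]; group
    -- lift
    have kz : k * zC = zC * k := zc k
    obtain ⟨U, hU⟩ : ∃ U : Subgroup ↥(C z), U = closure {k, xC, zC} := ⟨_, rfl⟩
    have hUp : IsPGroup 2 U := by
      rw [hU]
      apply isPGroup_closure
      · rintro a (rfl | rfl | rfl) b (rfl | rfl | rfl)
        · rfl
        · exact kx
        · exact kz
        · exact kx.symm
        · rfl
        · exact xz
        · exact kz.symm
        · exact xz.symm
        · rfl
      · rintro a (rfl | rfl | rfl)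
        · exact hkk
        · exact xx
        · exact zz
    have kU : k ∈ U := hU ▸ subset_closure (Or.inl rfl)
    have xU : xC ∈ U := hU ▸ subset_closure (Or.inr (Or.inl rfl))
    have zU : zC ∈ U := hU ▸ subset_closure (Or.inr (Or.inr rfl))
    obtain ⟨r, hr, hrU⟩ := WLift.exists_normalizer_lift hd.odd hUp (q := q) (by
      intro u hu
      rw [hU] at hu
      induction hu using closure_induction with
      | mem y hy =>
        rcases hy with rfl | rfl | rfl
        · exact ⟨y, kU, qb⟩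
        · exact ⟨y * zC, U.mul_mem xU zU, qx⟩
        · exact ⟨y, zU, qz⟩
      | one => exact ⟨1, U.one_mem, by rw [map_one]; group⟩
      | mul a b _ _ h1 h2 =>
        obtain ⟨a', ha', e1⟩ := h1
        obtain ⟨b', hb', e2⟩ := h2
        refine ⟨a' * b', U.mul_mem ha' hb', ?_⟩
        rw [map_mul, map_mul, ← e1, ← e2]
        group
      | inv a _ h1 =>
        obtain ⟨a', ha', e1⟩ := h1
        refine ⟨a'⁻¹, U.inv_mem ha', ?_⟩
        rw [map_inv, map_inv, ← e1]
        group)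
    have hr' : ∀ u : ↥(C z), QuotientGroup.mk' M (r * u * r⁻¹) = q * QuotientGroup.mk u * q⁻¹ := by
      intro u
      rw [map_mul, map_mul, map_inv, hr]
      rfl
    have rk : r * k * r⁻¹ = k := WLift.injOn hd.odd hUp (hrU k kU) kU ((hr' k).trans qb)
    have rx : r * xC * r⁻¹ = xC * zC :=
      WLift.injOn hd.odd hUp (hrU xC xU) (U.mul_mem xU zU) ((hr' xC).trans qx)
    have hne : z ≠ (k : G) := by
      intro h1
      apply hbz
      apply hD.inj
      rw [← ek, hD.ez, hzC]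
      congr 1
      exact Subtype.ext h1.symm
    have rx' : (r : G) * x * (r : G)⁻¹ = x * z := by
      have := congrArg Subtype.val rx
      rw [hxC, hzC] at this
      exact this
    have rk' : Commute (r : G) (k : G) := by
      have := congrArg Subtype.val rk
      exact mul_inv_eq_iff_eq_mul.1 this
    obtain ⟨c', hc1, hc2⟩ := B.frame.exists_conj_mul B.hx B.full.mem.2 B.full.ord hk hk2
      (mem_C.1 k.2).symm hne rx' rk' (mem_C.1 r.2)
    refine ⟨QuotientGroup.mk ⟨c', mem_C.2 hc1⟩, ?_⟩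
    rw [← ek, ← QuotientGroup.mk_inv, ← QuotientGroup.mk_mul, ← QuotientGroup.mk_mul,
      ← QuotientGroup.mk_mul]
    congr 1
    rw [hxC]
    exact Subtype.ext hc2
  · -- `d = e g' * x`
    exfalso
    have hgg : g' * g' = 1 := by
      apply hD.inj
      rw [map_mul, map_one, ← hdd', hg']
      calc e g' * e g' = e g' * e g' * (QuotientGroup.mk xC * QuotientGroup.mk xC) := by
            rw [hD.xx, mul_one]
        _ = e g' * (e g' * QuotientGroup.mk xC) * QuotientGroup.mk xC := by group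
        _ = e g' * (QuotientGroup.mk xC * e g') * QuotientGroup.mk xC := by rw [hD.xe g']
        _ = e g' * QuotientGroup.mk xC * (e g' * QuotientGroup.mk xC) := by group
    by_cases hg1 : g' = 1
    · rw [hg1, map_one, one_mul] at hg'
      obtain ⟨r, -, hr⟩ := conj_of_mk_eq hd.odd hdd xx hg'
      have h3 : (r * sC : ↥(C z)) * k * (r * sC : ↥(C z))⁻¹ = xC := by
        rw [← hr]; group
      rw [hxC] at h3
      exact not_conj B hk hk2 B.hx ((r * sC : ↥(C z)) : G) (congrArg Subtype.val h3)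
    · obtain ⟨l, hl, hll, hl2, el⟩ := hd.exists_inv hgg hg1
      have lx : l * xC = xC * l := by
        rw [hxC]
        exact Subtype.ext (B.frame.toXBase.comm_of_mem B.hx hl).eq
      have h2 : (xC * l) * (xC * l) = 1 := by
        calc (xC * l) * (xC * l) = xC * (l * xC) * l := by group
          _ = (xC * xC) * (l * l) := by rw [lx]; group
          _ = 1 := by rw [xx, hll, one_mul]
      rw [← el, ← QuotientGroup.mk_mul, lx] at hg'
      obtain ⟨r, -, hr⟩ := conj_of_mk_eq hd.odd hdd h2 hg'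
      have h3 : (r * sC : ↥(C z)) * k * (r * sC : ↥(C z))⁻¹ = xC * l := by
        rw [← hr]; group
      rw [hxC] at h3
      exact not_conj B hk hk2 (mul_mem_X B hl hl2) ((r * sC : ↥(C z)) : G)
        (congrArg Subtype.val h3)

/-- **contradiction** -/
theorem false_of_hdata (B : BData X N x z T) (hd : HData x z hx M e) {s : G}
    (hsx : s * x * s⁻¹ = x * z) (hsz : Commute s z)
    (star : ∀ f : ↥(C z) ⧸ M →* ℤˣ, f (QuotientGroup.mk ⟨x, hx⟩) = 1)
    (hcon : centralizer (pCore 2 (↥(C z) ⧸ M) : Set (↥(C z) ⧸ M)) ≤ pCore 2 (↥(C z) ⧸ M)) :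
    False := by
  have hp : Fact (Nat.Prime 2) := ⟨Nat.prime_two⟩
  refine hd.ds.false_of_dstr (R := pCore 2 (↥(C z) ⧸ M)) (Lib.Cores.pCore_normal 2)
    (Lib.Cores.pCore_isPGroup 2) ?_ (fun N hN hN2 => Lib.Cores.le_pCore hN hN2) ?_ star ?_
    (nb B hd) ?_
  · intro g hg
    apply hcon
    rw [mem_centralizer_iff]
    exact fun r hr => (hg r hr).symm
  · intro A A' _ hA
    have h1 : SectionalPRankLE 2 4 (↥(C z) ⧸ M) :=
      GH.Rank.of_quotient (GH.Rank.of_subgroup B.frame.rank _) M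
    exact TwoFusion.SectionalRank.sectionalPRankLE_iff.1 h1 A A' hA
  · refine ⟨QuotientGroup.mk ⟨s, mem_C.2 hsz⟩, ?_⟩
    rw [← QuotientGroup.mk_inv, ← QuotientGroup.mk_mul, ← QuotientGroup.mk_mul,
      ← QuotientGroup.mk_mul]
    congr 1
    exact Subtype.ext hsx
  · by_cases h : ∃ n, DStr.Nx (QuotientGroup.mk ⟨x, hx⟩ : ↥(C z) ⧸ M) e n ∧
        ¬ DStr.W (QuotientGroup.mk ⟨x, hx⟩ : ↥(C z) ⧸ M)
          (QuotientGroup.mk ⟨z, mem_C.2 (Commute.refl z)⟩) n
    · exact Or.inl h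
    · right
      apply fusion B hd hsx hsz
      intro n hn
      by_contra h1
      exact h ⟨n, hn, h1⟩

/-- the start data of helper885 -/
theorem toBStart (B : BData X N x z T) (hs : IsSimpleGroup G) (hnc : ¬ IsMulCommutative G) :
    L3S.BOne.BStart X x z T where
  mem := B.hx
  syl := B.syl
  full := B.full
  notMem := B.zX
  Q := fun _ ht hf => B.eq_of_fixes ht hf
  con := B.isConj hs hnc

end main

/-- **CASE B is impossible**, from `HData` for `H = C(z)/O(C(z))`. -/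
theorem false_of_hbar (B : BData X N x z T) (hy : Hyp G) (ho : AllOdd G) {hx : x ∈ C z}
    {e : Γ →* (↥(C z) ⧸ pPrimeCore 2 ↥(C z))} (hd : HData x z hx (pPrimeCore 2 ↥(C z)) e) :
    False := by
  have b := toBStart B hy.simple hy.nonComm
  obtain ⟨s, -, -, hsx, hsz⟩ := b.exists_swap B.frame
  have hsz' : Commute s z := mul_inv_eq_iff_eq_mul.1 hsz
  exact false_of_hdata B hd hsx hsz' (fun f => b.homQ B.frame hy (QuotientGroup.mk' _) f)
    (b.constrained B.frame hy ho)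

end

end Cfsg.Agent.GH.L3.CaseBEnd
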