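import Cfsg.Agent.GH.L3.Pair
import Cfsg.Agent.GH.QAZStar
import Cfsg.Agent.GH.KeyTransfer

/-!
# GH-L3 SD: the start of CASE B (helper242 bb GH #6844)

`BData X N x z T`: `T` Sylow in `C(x)`, `x ∈ X`, `z` the central involution of `T ⊓ KK x`, `x z ∈ X`, no involution of
any `KK y`, `y ∈ X`, is in `X`.

* `exists_bdata`: CASE B of the trichotomy gives such data.
* `BData.symm`: the same data for `x z`, `z`, `T`.
* `BData.eq_of_fixes`: `T ⊓ fixer (KK x) = {1, x}`.
* `BData.center`: `Z(T) = {1, x, z, x z}`.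
* `BData.unique`: `z` is the only conjugate of `z` centralizing `T`.
* `BData.isConj` (B0): `x ~ x z`.
* `BData.exists_s` (B1): `T < S`, `s ∈ N_S(T) - T`, `x ^ s = x z`, `S ≤ C(z)`, `T = C_S(x)`.
* `BData.mem_of_index_two`: `x` is in all the subgroups of index 2 of `C(z)`.
-/

set_option autoImplicit false
set_option linter.unusedSectionVars false

open Cfsg Subgroup
open Cfsg.Agent.SignalizersComponents Cfsg.Agent.Lib
open Cfsg.Agent.SignalizersComponents.IntrinsicBasic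
open Cfsg.Agent.Intrinsic.Basic Cfsg.Agent.Intrinsic.Cen
open Cfsg.Agent.GH.Defs Cfsg.Agent.GH.XSet
open Cfsg.Agent.Walter.SylowIn
open scoped commutatorElement

namespace Cfsg.Agent.GH.L3.TFrame

variable {G : Type*} [Group G] {X : Set G} {N : ℕ} {x u y z z' : G} {T : Subgroup G}

/-- The situation of CASE B. -/
structure BData (X : Set G) (N : ℕ) (x z : G) (T : Subgroup G) : Prop where
  frame : Frame X N
  noX : ∀ y ∈ X, ∀ v ∈ KK y, orderOf v = 2 → v ∉ X
  hx : x ∈ X
  syl : SylIn 2 T (C x)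
  full : Full x T z
  xz : x * z ∈ X

variable [Finite G]

theorem exists_bdata (h : Frame X N) (hB : ∀ y ∈ X, ∀ v ∈ KK y, orderOf v = 2 → v ∉ X)
    (hx : x ∈ X) (hz : z ∈ KK x) (hz2 : orderOf z = 2) (hxz : x * z ∈ X) {T : Subgroup G}
    (hT : SylIn 2 T (C x)) : ∃ z', BData X N x z' T := by
  obtain ⟨z', hz'⟩ := h.full x hx T hT
  refine ⟨z', h, hB, hx, hT, hz', ?_⟩
  obtain ⟨c, hc, e⟩ := h.conjK x hx z hz z' hz'.mem.2 hz2 hz'.ord
  have hcx : Commute c x := h.toXBase.comm_of_mem hx hc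
  have h1 := h.conj (x * z) hxz c
  have h2 : c * (x * z) * c⁻¹ = x * z' := by
    calc c * (x * z) * c⁻¹ = (c * x) * z * c⁻¹ := by group
      _ = (x * c) * z * c⁻¹ := by rw [hcx.eq]
      _ = x * (c * z * c⁻¹) := by group
      _ = x * z' := by rw [e]
  rwa [h2] at h1

/-- A 2-element `a ≠ 1` has a power which is an involution. -/
theorem exists_pow_inv {a : G} (ha1 : a ≠ 1) {n : ℕ} (hn : a ^ 2 ^ n = 1) :
    ∃ k : ℕ, orderOf (a ^ k) = 2 := by
  induction n generalizing a with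
  | zero => exact absurd (by simpa using hn) ha1
  | succ n ih =>
    by_cases h : a ^ 2 = 1
    · exact ⟨1, by rw [pow_one]; exact orderOf_eq_prime h ha1⟩
    · obtain ⟨k, hk⟩ := ih (a := a ^ 2) h (by rw [← pow_mul, ← pow_succ']; exact hn)
      exact ⟨2 * k, by rw [pow_mul]; exact hk⟩

theorem isPGroup_zpowers {g : G} (hg : ∃ k : ℕ, g ^ 2 ^ k = 1) : IsPGroup 2 (zpowers g) := by
  rintro ⟨_, i, rfl⟩
  obtain ⟨k, hk⟩ := hg
  refine ⟨k, Subtype.ext ?_⟩
  change (g ^ i) ^ 2 ^ k = 1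
  rw [← zpow_natCast, ← zpow_mul, mul_comm, zpow_mul, zpow_natCast, hk, one_zpow]

namespace BData

theorem two (B : BData X N x z T) : IsPGroup 2 T := B.syl.isPGroup

theorem zx (B : BData X N x z T) : Commute x z := (mem_C.mp (B.syl.le B.full.mem.1)).symm

theorem zsq (B : BData X N x z T) : z * z = 1 := B.full.sq

theorem xsq (B : BData X N x z T) : x * x = 1 := B.frame.toXBase.sq B.hx

theorem zX (B : BData X N x z T) : z ∉ X := B.noX x B.hx z B.full.mem.2 B.full.ord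

/-- A 2-element of `C(x)` is conjugate in `C(x)` to an element of `T`. -/
theorem conj_mem_T (B : BData X N x z T) {w : G} (hw : Commute w x) (hw2 : ∃ n : ℕ, w ^ 2 ^ n = 1) :
    ∃ c, Commute c x ∧ c * w * c⁻¹ ∈ T := by
  have hp2 : Fact (Nat.Prime 2) := ⟨Nat.prime_two⟩
  obtain ⟨g, hg, h1⟩ := B.syl.conj_le (R := zpowers w) (by
    rw [zpowers_le]; exact mem_C.mpr hw) (isPGroup_zpowers hw2)
  exact ⟨g, mem_C.mp hg, h1 w (mem_zpowers w)⟩

theorem x_mem (B : BData X N x z T) : x ∈ T := by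
  obtain ⟨c, hc, h⟩ := B.conj_mem_T (Commute.refl x) ⟨1, by rw [pow_one, pow_two, B.xsq]⟩
  rwa [hc.eq, mul_inv_cancel_right] at h

theorem commx (B : BData X N x z T) {t : G} (ht : t ∈ T) : Commute t x := mem_C.mp (B.syl.le ht)

theorem commz (B : BData X N x z T) {t : G} (ht : t ∈ T) : Commute t z := B.full.comm t ht

theorem xz_sq (B : BData X N x z T) : (x * z) * (x * z) = 1 := B.frame.toXBase.sq B.xz

theorem xz_z (B : BData X N x z T) : x * z * z = x := by rw [mul_assoc, B.zsq, mul_one]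

theorem not_fixes_z (B : BData X N x z T) : ¬ Fixes z (KK x) := fun h =>
  B.full.ne (B.frame.eq_one B.hx B.full.mem.2 h (n := 1) (by rw [pow_one, pow_two, B.zsq]))

theorem not_fixes (B : BData X N x z T) : ¬ Fixes (x * z) (KK x) := by
  intro h
  apply B.not_fixes_z
  have h1 := fixes_mul (B.frame.toXBase.fixes_self B.hx) h
  rwa [← mul_assoc, B.xsq, one_mul] at h1

theorem comm_xz (B : BData X N x z T) : Commute x (x * z) := (Commute.refl x).mul_right B.zx

theorem le_xz (B : BData X N x z T) : T ≤ C (x * z) := fun _ ht =>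
  mem_C.mpr ((B.commx ht).mul_right (B.commz ht))

theorem sylPair (B : BData X N x z T) : SylIn 2 T (C x ⊓ C (x * z)) := by
  have hp2 : Fact (Nat.Prime 2) := ⟨Nat.prime_two⟩
  exact B.syl.of_le (le_inf B.syl.le B.le_xz) inf_le_left

/-- `z ∈ KK (x z)`, and `T` is Sylow in `C(x z)`. -/
theorem symm (B : BData X N x z T) : BData X N (x * z) z T := by
  have hp2 : Fact (Nat.Prime 2) := ⟨Nat.prime_two⟩
  have h := B.frame
  have hn := B.not_fixes
  have hn' : ¬ Fixes x (KK (x * z)) := fun h1 =>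
    hn (h.toXSet.fixes_symm B.xz B.hx B.comm_xz.symm h1)
  have hT' : SylIn 2 T (C (x * z) ⊓ C x) := by rw [inf_comm]; exact B.sylPair
  obtain ⟨z1, hz1⟩ := h.pair x B.hx (x * z) B.xz B.comm_xz hn T B.sylPair
  obtain ⟨z2, hz2⟩ := h.pair (x * z) B.xz x B.hx B.comm_xz.symm hn' T hT'
  have e1 : z1 = z := by
    rcases B.full.uniq z1 (Alt.ctr hz1).mem (fun p hp => ((Alt.ctr hz1).comm p hp.1).symm) with h1 | h1
    · exact absurd h1 (Alt.ctr hz1).ne
    · exact h1
  have e2 : z1 = z2 := by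
    rcases h.lemmaP B.hx B.xz B.comm_xz hn B.sylPair hz1 hz2 with h1 | ⟨h1, -⟩
    · exact h1
    · exfalso
      rw [e1] at h1
      exact h.toXBase.ne_one B.hx (by simpa using h1)
  subst e2
  subst e1
  -- `x = (x z) z` is inner on `KK (x z)`
  have hfull : Full (x * z1) T z1 := by
    rcases hz2 with hz2 | hz2
    · exact hz2.1
    · exfalso
      apply hz2.outer z1 hz2.mem.2
      exact h.toXBase.fixes_self B.xz
  refine ⟨h, B.noX, B.xz, ?_, hfull, by rw [B.xz_z]; exact B.hx⟩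
  -- Sylow
  obtain ⟨T1, hT1⟩ := exists_sylIn 2 (C (x * z1))
  obtain ⟨z3, hz3⟩ := h.full (x * z1) B.xz T1 hT1
  obtain ⟨c, hc, e3⟩ := h.conjK (x * z1) B.xz z3 hz3.mem.2 z1 hfull.mem.2 hz3.ord B.full.ord
  have hcc : Commute c (x * z1) := h.toXBase.comm_of_mem B.xz hc
  have h1 : T1.map (MulAut.conj c).toMonoidHom ≤ C (x * z1) ⊓ C x := by
    rintro _ ⟨t, ht, rfl⟩
    have ht1 : Commute t (x * z1) := mem_C.mp (hT1.le ht)
    have h2 : Commute (c * t * c⁻¹) (x * z1) :=
      (hcc.mul_left ht1).mul_left hcc.inv_left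
    have h3 : Commute (c * t * c⁻¹) z1 := by
      have h4 : Commute t z3 := hz3.comm t ht
      have h5 := h4.map (MulAut.conj c).toMonoidHom
      change Commute (c * t * c⁻¹) (c * z3 * c⁻¹) at h5
      rwa [e3] at h5
    refine ⟨mem_C.mpr h2, mem_C.mpr ?_⟩
    have h6 := h2.mul_right h3
    rwa [B.xz_z] at h6
  have h2 : IsPGroup 2 (T1.map (MulAut.conj c).toMonoidHom) := hT1.isPGroup.map _
  have h3 := hT'.card_le h1 h2
  rw [Subgroup.card_map_of_injective (MulAut.conj c).injective] at h3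
  exact sylIn_of_card_le hT1 (hT'.le.trans inf_le_left) B.two h3

/-- an element of `T` fixing `KK x` and `KK (x z)` is trivial -/
theorem eq_one_of_both (B : BData X N x z T) {q : G} (hq : q ∈ T) (h1 : Fixes q (KK x))
    (h2 : Fixes q (KK (x * z))) : q = 1 := by
  by_contra hne
  obtain ⟨n, hn⟩ := exists_pow B.two hq
  obtain ⟨k, hk⟩ := exists_pow_inv hne hn
  have hkT : q ^ k ∈ T := T.pow_mem hq k
  have hf1 : Fixes (q ^ k) (KK x) := (fixer (KK x)).pow_mem h1 k
  have hf2 : Fixes (q ^ k) (KK (x * z)) := (fixer (KK (x * z))).pow_mem h2 k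
  have hX : q ^ k ∈ X := B.frame.mem_X B.hx hk (B.commx hkT) hf1
  exact B.not_fixes (B.frame.trans B.hx B.xz hX B.comm_xz (B.commx hkT).symm
    (mem_C.mp (B.le_xz hkT)).symm hf1 hf2)

/-- `T ⊓ fixer (KK (x z)) = {1, x z}`. -/
theorem eq_of_fixes' (B : BData X N x z T) {q : G} (hq : q ∈ T) (hf : Fixes q (KK (x * z))) :
    q = 1 ∨ q = x * z := by
  have h := B.frame
  -- `P ∩ Q_u = 1`
  have hPQ : ∀ a ∈ T ⊓ KK x, Fixes a (KK (x * z)) → a = 1 := by
    intro a ha hfa
    by_contra hne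
    obtain ⟨n, hn⟩ := exists_pow B.two ha.1
    obtain ⟨k, hk⟩ := exists_pow_inv hne hn
    have hkT : a ^ k ∈ T := T.pow_mem ha.1 k
    refine B.noX x B.hx (a ^ k) ((KK x).pow_mem ha.2 k) hk ?_
    exact h.mem_X B.xz hk (mem_C.mp (B.le_xz hkT)) ((fixer (KK (x * z))).pow_mem hfa k)
  have hc : ∀ p ∈ T ⊓ KK x, Commute q p := by
    intro p hp
    have h1 : p * q * p⁻¹ * q⁻¹ ∈ T ⊓ KK x := by
      have h2 := h.conj_mem B.hx B.syl.le hq ((T ⊓ KK x).inv_mem hp)
      have e : p * q * p⁻¹ * q⁻¹ = p * (q * p⁻¹ * q⁻¹) := by group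
      rw [e]
      exact (T ⊓ KK x).mul_mem hp h2
    have h3 : Fixes (p * q * p⁻¹ * q⁻¹) (KK (x * z)) :=
      fixes_mul (h.conj_fixes B.xz (mem_C.mp (B.le_xz hp.1)) hf) (fixes_inv hf)
    have h4 := hPQ _ h1 h3
    rw [mul_inv_eq_one, mul_inv_eq_iff_eq_mul] at h4
    exact h4.symm
  rcases B.full.cent q hq hc with h1 | h1
  · exact Or.inl (B.eq_one_of_both hq h1 hf)
  · right
    have h2 : q * (x * z) = 1 := by
      refine B.eq_one_of_both (T.mul_mem hq (T.mul_mem B.x_mem B.full.mem.1)) ?_ ?_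
      · have h3 := fixes_mul h1 (h.toXBase.fixes_self B.hx)
        have e : q * z * x = q * (x * z) := by rw [mul_assoc, B.zx.eq]
        rwa [e] at h3
      · exact fixes_mul hf (h.toXBase.fixes_self B.xz)
    calc q = q * (x * z) * (x * z) := by rw [mul_assoc, B.xz_sq, mul_one]
      _ = x * z := by rw [h2, one_mul]

/-- **`|Q| = 2`**: `T ⊓ fixer (KK x) = {1, x}`. -/
theorem eq_of_fixes (B : BData X N x z T) {q : G} (hq : q ∈ T) (hf : Fixes q (KK x)) :
    q = 1 ∨ q = x := by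
  have h1 := B.symm.eq_of_fixes' hq (by rw [B.xz_z]; exact hf)
  rwa [B.xz_z] at h1

theorem fixer_eq (B : BData X N x z T) : T ⊓ fixer (KK x) = zpowers x := by
  apply le_antisymm
  · rintro q ⟨hq, hf⟩
    rcases B.eq_of_fixes hq hf with rfl | rfl
    · exact one_mem _
    · exact mem_zpowers _
  · rw [zpowers_le]
    exact ⟨B.x_mem, B.frame.toXBase.fixes_self B.hx⟩

theorem card_fixer (B : BData X N x z T) : Nat.card ↥(T ⊓ fixer (KK x) : Subgroup G) = 2 := by
  rw [B.fixer_eq, Nat.card_zpowers, B.frame.inv x B.hx]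

/-- the elements of `T` centralizing `P` are `1, x, z, x z` -/
theorem cent (B : BData X N x z T) {t : G} (ht : t ∈ T) (hc : ∀ p ∈ T ⊓ KK x, Commute t p) :
    t = 1 ∨ t = x ∨ t = z ∨ t = x * z := by
  rcases B.full.cent t ht hc with h1 | h1
  · rcases B.eq_of_fixes ht h1 with h2 | h2
    · exact Or.inl h2
    · exact Or.inr (Or.inl h2)
  · have e : t * z * z = t := by rw [mul_assoc, B.zsq, mul_one]
    rcases B.eq_of_fixes (T.mul_mem ht B.full.mem.1) h1 with h2 | h2
    · right; right; left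
      rw [← e, h2, one_mul]
    · right; right; right
      rw [← e, h2]

/-- `Z(T) = {1, x, z, x z}` -/
theorem center (B : BData X N x z T) {t : G} (ht : t ∈ T) (hc : ∀ s ∈ T, Commute t s) :
    t = 1 ∨ t = x ∨ t = z ∨ t = x * z := B.cent ht fun p hp => hc p hp.1

/-- `|T| ≤ 64` -/
theorem card_le (B : BData X N x z T) : Nat.card T ≤ 64 := by
  have h := B.full.index
  rw [B.card_fixer] at h
  exact h

/-- a 2-element of `C(T)` is in `Z(T)` -/
theorem mem_T_of_comm (B : BData X N x z T) {t : G} (ht : ∃ n : ℕ, t ^ 2 ^ n = 1)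
    (hc : ∀ s ∈ T, Commute t s) : t ∈ T := by
  have hp2 : Fact (Nat.Prime 2) := ⟨Nat.prime_two⟩
  have h1 : T ≤ normalizer (zpowers t : Set G) := by
    intro s hs
    rw [mem_normalizer_iff]
    intro a
    have h2 : ∀ a ∈ zpowers t, s * a * s⁻¹ = a := by
      rintro _ ⟨i, rfl⟩
      have h3 : Commute s (t ^ i) := (hc s hs).symm.zpow_right i
      change s * t ^ i * s⁻¹ = t ^ i
      rw [h3.eq, mul_inv_cancel_right]
    constructor
    · intro ha
      rw [h2 a ha]; exact ha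
    · intro ha
      have h3 := h2 _ ha
      have h4 : s * a * s⁻¹ = a := by
        have h5 : s * (s * a * s⁻¹) * s⁻¹ = s * a * s⁻¹ := h3
        have h6 : s * a * s⁻¹ = a := by
          calc s * a * s⁻¹ = s⁻¹ * (s * (s * a * s⁻¹) * s⁻¹) * s := by group
            _ = s⁻¹ * (s * a * s⁻¹) * s := by rw [h5]
            _ = a := by group
        exact h6
      rw [← h4]; exact ha
  have h2 : IsPGroup 2 (T ⊔ zpowers t : Subgroup G) :=
    B.two.to_sup_of_normal_right' (isPGroup_zpowers ht) h1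
  have h3 : T ⊔ zpowers t ≤ C x := sup_le B.syl.le (by
    rw [zpowers_le]; exact mem_C.mpr (hc x B.x_mem))
  have h4 := B.syl.eq_of_le le_sup_left h3 h2
  rw [← h4]
  exact mem_sup_right (mem_zpowers t)

theorem conj_not_mem_X (B : BData X N x z T) (g : G) : g * z * g⁻¹ ∉ X := by
  intro h
  apply B.zX
  have h1 := B.frame.conj _ h g⁻¹
  have e : g⁻¹ * (g * z * g⁻¹) * g⁻¹⁻¹ = z := by group
  rwa [e] at h1

/-- `z` is the only conjugate of `z` centralizing `T`. -/
theorem unique (B : BData X N x z T) {g : G} (hg : ∀ t ∈ T, Commute (g * z * g⁻¹) t) :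
    g * z * g⁻¹ = z := by
  have h1 : (g * z * g⁻¹) * (g * z * g⁻¹) = 1 := by
    calc (g * z * g⁻¹) * (g * z * g⁻¹) = g * (z * z) * g⁻¹ := by group
      _ = 1 := by rw [B.zsq, mul_one, mul_inv_cancel]
  have h2 := B.mem_T_of_comm ⟨1, by rw [pow_one, pow_two, h1]⟩ hg
  have h3 := B.conj_not_mem_X g
  rcases B.center h2 hg with h4 | h4 | h4 | h4
  · exfalso
    apply B.full.ne
    have : z = g⁻¹ * (g * z * g⁻¹) * g := by group
    rw [this, h4, mul_one, inv_mul_cancel]
  · exact absurd (h4 ▸ B.hx) h3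
  · exact h4
  · exact absurd (h4 ▸ B.xz) h3

/-- an involution of `C(x)` fixing `KK x` is `x` -/
theorem eq_x (B : BData X N x z T) {w : G} (hw : w * w = 1) (hc : Commute w x)
    (hf : Fixes w (KK x)) : w = 1 ∨ w = x := by
  obtain ⟨c, hcx, hcT⟩ := B.conj_mem_T hc ⟨1, by rw [pow_one, pow_two, hw]⟩
  have h1 := B.frame.conj_fixes B.hx hcx hf
  have e : w = c⁻¹ * (c * w * c⁻¹) * c := by group
  rcases B.eq_of_fixes hcT h1 with h2 | h2
  · left
    rw [e, h2, mul_one, inv_mul_cancel]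
  · right
    rw [e, h2, mul_assoc, ← hcx.eq, inv_mul_cancel_left]

/-- **(B0)** `x` is conjugate to `x z`. -/
theorem isConj (B : BData X N x z T) (hs : IsSimpleGroup G) (hnc : ¬ IsMulCommutative G) :
    ∃ g : G, g * x * g⁻¹ = x * z := by
  have h := B.frame
  -- `x v ~ x z` for the involutions `v` of `KK x`
  have key : ∀ v ∈ KK x, orderOf v = 2 → ∃ g : G, g * (x * v) * g⁻¹ = x * z := by
    intro v hv hv2
    obtain ⟨c, hc, e⟩ := h.conjK x B.hx v hv z B.full.mem.2 hv2 B.full.ord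
    have hcx : Commute c x := h.toXBase.comm_of_mem B.hx hc
    refine ⟨c, ?_⟩
    calc c * (x * v) * c⁻¹ = (c * x) * v * c⁻¹ := by group
      _ = (x * c) * v * c⁻¹ := by rw [hcx.eq]
      _ = x * (c * v * c⁻¹) := by group
      _ = x * z := by rw [e]
  obtain ⟨g, hg, hne⟩ := QA.not_isolated hs hnc B.xsq (h.toXBase.ne_one B.hx)
  obtain ⟨w, hw⟩ : ∃ w, w = g * x * g⁻¹ := ⟨_, rfl⟩
  rw [← hw] at hg hne
  have hwX : w ∈ X := hw ▸ h.conj x B.hx g
  have hxw : Commute x w := hg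
  have hn : ¬ Fixes w (KK x) := by
    intro h1
    rcases B.eq_x (h.toXBase.sq hwX) hxw.symm h1 with h2 | h2
    · exact h.toXBase.ne_one hwX h2
    · exact hne h2
  have hn' : ¬ Fixes x (KK w) := fun h1 => hn (h.toXSet.fixes_symm hwX B.hx hxw.symm h1)
  obtain ⟨T1, hT1⟩ := exists_sylIn 2 (C x ⊓ C w)
  have hT1' : SylIn 2 T1 (C w ⊓ C x) := by rw [inf_comm]; exact hT1
  obtain ⟨v, hv⟩ := h.pair x B.hx w hwX hxw hn T1 hT1
  obtain ⟨v', hv'⟩ := h.pair w hwX x B.hx hxw.symm hn' T1 hT1'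
  have hvw : Commute v w := (mem_C.mp (hT1.le (Alt.ctr hv).mem.1).2)
  have hvx : Commute v x := (mem_C.mp (hT1.le (Alt.ctr hv).mem.1).1)
  have hvsq := (Alt.ctr hv).sq
  have hwv : w ≠ v := fun h1 => B.noX x B.hx v (Alt.ctr hv).mem.2 (Alt.ctr hv).ord (h1 ▸ hwX)
  by_cases hin : Fixes (w * v) (KK x)
  · -- inner
    have hsq : (w * v) * (w * v) = 1 := by
      calc (w * v) * (w * v) = w * (v * w) * v := by group
        _ = w * (w * v) * v := by rw [hvw.eq]
        _ = (w * w) * (v * v) := by group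
        _ = 1 := by rw [h.toXBase.sq hwX, hvsq, mul_one]
    have e : w = w * v * v := by rw [mul_assoc, hvsq, mul_one]
    rcases B.eq_x hsq (hxw.symm.mul_left hvx) hin with h2 | h2
    · exfalso
      apply hwv
      rw [e, h2, one_mul]
    · rw [h2] at e
      obtain ⟨k, hk⟩ := key v (Alt.ctr hv).mem.2 (Alt.ctr hv).ord
      refine ⟨k * g, ?_⟩
      calc k * g * x * (k * g)⁻¹ = k * (g * x * g⁻¹) * k⁻¹ := by group
        _ = k * (x * v) * k⁻¹ := by rw [← hw, ← e]
        _ = x * z := hk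
  · -- outer
    have hout : Outer x w T1 v := by
      rcases hv with h1 | h1
      · exact absurd h1.2 hin
      · exact h1
    have hvv : v = v' := by
      rcases h.lemmaP B.hx hwX hxw hn hT1 hv hv' with h1 | ⟨h1, -⟩
      · exact h1
      · exact absurd h1 hwv
    have hvK : v ∈ KK w := hvv ▸ (Alt.ctr hv').mem.2
    obtain ⟨c, -, hc⟩ := hout.fus
    -- transport by `g`
    have h1 : g⁻¹ * v * g ∈ KK x := by
      have h2 : cj g (KK x) = KK w := by rw [hw]; exact h.toXBase.cj_KK B.hx g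
      rw [← h2] at hvK
      exact mem_cj.mp hvK
    have h2 : orderOf (g⁻¹ * v * g) = 2 := by
      have h3 := conj_orderOf g⁻¹ v
      rw [inv_inv] at h3
      rw [h3]
      exact (Alt.ctr hv).ord
    obtain ⟨k, hk⟩ := key _ h1 h2
    refine ⟨k * g⁻¹ * c * g, ?_⟩
    have e1 : x = g⁻¹ * w * g := by rw [hw]; group
    calc k * g⁻¹ * c * g * x * (k * g⁻¹ * c * g)⁻¹
        = k * (g⁻¹ * (c * (g * x * g⁻¹) * c⁻¹) * g) * k⁻¹ := by group
      _ = k * (g⁻¹ * (w * v) * g) * k⁻¹ := by rw [← hw, hc]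
      _ = k * ((g⁻¹ * w * g) * (g⁻¹ * v * g)) * k⁻¹ := by group
      _ = x * z := by rw [← e1, hk]

/-- `x` is in all the subgroups of index 2 of `C(z)`. -/
theorem mem_of_index_two (B : BData X N x z T) (hG : ∀ H : Subgroup G, H.index ≠ 2)
    {M : Subgroup G} (hM : M ≤ C z) (hi : M.relIndex (C z) = 2) : x ∈ M := by
  by_contra hxM
  exact KeyTransfer.false_of_cen hG B.xsq hM hi B.two (fun t ht => (B.commx ht).eq)
    (fun t ht => (B.commz ht).eq) B.zx.eq hxM fun g _ h2 => B.unique fun t ht => h2 t ht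

end BData

end Cfsg.Agent.GH.L3.TFrame
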