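import Cfsg.Agent.GH.L3.CaseB

/-!
# GH-L3 SD: CASE B, the step (B1)

`BData.exists_s`: `S ≥ T` a Sylow 2-subgroup of the simple group `G`: `T < S`, there is `s ∈ S - T` normalising `T` with
`x ^ s = x z`, `z ^ s = z`; `S ≤ C(z)`, `C_S(x) = T`, `Z(S) = {1, z}`.
-/

set_option autoImplicit false
set_option linter.unusedSectionVars false

open Cfsg Subgroup
open Cfsg.Agent.SignalizersComponents Cfsg.Agent.Lib
open Cfsg.Agent.SignalizersComponents.IntrinsicBasic
open Cfsg.Agent.Intrinsic.Basic Cfsg.Agent.Intrinsic.Cen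
open Cfsg.Agent.GH.Defs Cfsg.Agent.GH.XSet
open Cfsg.Agent.Walter.SylowIn
open scoped commutatorElement

namespace Cfsg.Agent.GH.L3.TFrame

variable {G : Type*} [Group G] {X : Set G} {N : ℕ} {x u y z z' : G} {T : Subgroup G}

/-- The result of (B1). -/
structure SData (x z : G) (T S : Subgroup G) (s : G) : Prop where
  le : T ≤ S
  mem : s ∈ S
  not_mem : s ∉ T
  norm : ∀ t ∈ T, s * t * s⁻¹ ∈ T
  conjx : s * x * s⁻¹ = x * z
  conjz : s * z * s⁻¹ = z
  commz : ∀ t ∈ S, Commute t z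
  cenx : ∀ t ∈ S, Commute t x → t ∈ T
  center : ∀ t ∈ S, (∀ r ∈ S, Commute t r) → t = 1 ∨ t = z

variable [Finite G]

/-- A 2-element normalising a Sylow 2-subgroup is in it. -/
theorem mem_sylow_of (S : Sylow 2 G) {a : G} (ha : a ∈ normalizer ((S : Subgroup G) : Set G))
    (hn : ∃ n : ℕ, a ^ 2 ^ n = 1) : a ∈ (S : Subgroup G) := by
  have h2 : IsPGroup 2 ↥(zpowers a ⊔ (S : Subgroup G)) :=
    IsPGroup.to_sup_of_normal_right' (isPGroup_zpowers hn) S.2 (by rw [zpowers_le]; exact ha)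
  have h3 := S.3 h2 le_sup_right
  rw [← h3]
  exact mem_sup_left (mem_zpowers a)

namespace BData

/-- `T` is not a Sylow 2-subgroup of `G`. -/
theorem ne_sylow (B : BData X N x z T) (hs : IsSimpleGroup G) (hnc : ¬ IsMulCommutative G)
    (S : Sylow 2 G) : T ≠ S := by
  intro hTS
  have hp2 : Fact (Nat.Prime 2) := ⟨Nat.prime_two⟩
  obtain ⟨g, hg⟩ := B.isConj hs hnc
  have hx : x ∈ centralizer ((S : Subgroup G) : Set G) := by
    rw [mem_centralizer_iff]
    intro t ht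
    exact (B.commx (hTS ▸ ht : t ∈ T)).eq
  have hxz : (g⁻¹)⁻¹ * x * g⁻¹ ∈ centralizer ((S : Subgroup G) : Set G) := by
    rw [inv_inv, hg, mem_centralizer_iff]
    intro t ht
    exact ((B.commx (hTS ▸ ht : t ∈ T)).mul_right (B.commz (hTS ▸ ht : t ∈ T))).eq
  obtain ⟨n, hn, e⟩ := S.conj_eq_normalizer_conj_of_mem_centralizer x g⁻¹ hx hxz
  rw [inv_inv, hg] at e
  -- `n⁻¹ x n = x z`, `n⁻¹ z n = z`
  have hnT : ∀ t ∈ T, n * t * n⁻¹ ∈ T := by
    intro t ht
    rw [hTS] at ht ⊢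
    exact (mem_normalizer_iff.mp hn t).mp ht
  have hnz : n⁻¹ * z * n⁻¹⁻¹ = z := by
    apply B.unique
    intro t ht
    have h1 := (B.commz (hnT t ht)).symm
    have h2 := h1.map (MulAut.conj n⁻¹).toMonoidHom
    change Commute (n⁻¹ * z * n⁻¹⁻¹) (n⁻¹ * (n * t * n⁻¹) * n⁻¹⁻¹) at h2
    have e2 : n⁻¹ * (n * t * n⁻¹) * n⁻¹⁻¹ = t := by group
    rwa [e2] at h2
  rw [inv_inv] at hnz
  have h2 : (n * n)⁻¹ * x * (n * n) = x := by
    calc (n * n)⁻¹ * x * (n * n) = n⁻¹ * (n⁻¹ * x * n) * n := by group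
      _ = n⁻¹ * (x * z) * n := by rw [← e]
      _ = (n⁻¹ * x * n) * (n⁻¹ * z * n) := by group
      _ = x * z * z := by rw [← e, hnz]
      _ = x := B.xz_z
  have h3 : Commute (n * n) x := by
    have h4 : x * (n * n) = (n * n) * ((n * n)⁻¹ * x * (n * n)) := by group
    rw [h2] at h4
    exact h4.symm
  -- odd power of `n`
  obtain ⟨a, r, hr, hnr⟩ := Nat.exists_eq_two_pow_mul_odd (n := orderOf n) (orderOf_pos n).ne'
  obtain ⟨j, hj⟩ := hr
  have h4 : n ^ r ∈ (S : Subgroup G) := by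
    refine mem_sylow_of S (Subgroup.pow_mem _ hn r) ⟨a, ?_⟩
    rw [← pow_mul, mul_comm, ← hnr, pow_orderOf_eq_one]
  have h5 : Commute (n ^ r) x := B.commx (hTS ▸ h4 : n ^ r ∈ T)
  have h6 : Commute n x := by
    have h7 : n = ((n * n) ^ j)⁻¹ * n ^ r := by
      rw [hj, pow_succ, pow_mul, pow_two, inv_mul_cancel_left]
    rw [h7]
    exact (h3.pow_left j).inv_left.mul_left h5
  apply B.full.ne
  have h7 : n⁻¹ * x * n = x := by
    rw [mul_assoc, ← h6.eq, inv_mul_cancel_left]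
  rw [h7] at e
  simpa using e

/-- **(B1)** -/
theorem exists_s (B : BData X N x z T) (hs : IsSimpleGroup G) (hnc : ¬ IsMulCommutative G)
    (S : Sylow 2 G) (hTS : T ≤ S) : ∃ s, SData x z T S s := by
  have hp2 : Fact (Nat.Prime 2) := ⟨Nat.prime_two⟩
  have hcenx : ∀ t ∈ (S : Subgroup G), Commute t x → t ∈ T := by
    have h1 : (S : Subgroup G) ⊓ C x = T := by
      refine B.syl.eq_of_le (le_inf hTS B.syl.le) inf_le_right (S.2.to_le inf_le_left)
    intro t ht htx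
    rw [← h1]
    exact ⟨ht, mem_C.mpr htx⟩
  obtain ⟨P, hP⟩ : ∃ P, P = (S : Subgroup G) := ⟨_, rfl⟩
  have hPp : IsPGroup 2 P := hP ▸ S.2
  have : Group.IsNilpotent P := hPp.isNilpotent
  rw [← hP] at hTS hcenx
  have hlt : T.subgroupOf P < ⊤ := by
    rw [lt_top_iff_ne_top, Ne, subgroupOf_eq_top]
    intro h1
    exact B.ne_sylow hs hnc S (hP ▸ le_antisymm hTS h1)
  have h1 := Group.normalizerCondition_of_isNilpotent (T.subgroupOf P) hlt
  obtain ⟨⟨s, hsP⟩, hsN, hsT⟩ := SetLike.exists_of_lt h1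
  have hsT' : s ∉ T := fun h => hsT (mem_subgroupOf.mpr h)
  have hnorm : ∀ t ∈ T, s * t * s⁻¹ ∈ T := by
    intro t ht
    exact mem_subgroupOf.mp ((mem_normalizer_iff.mp hsN ⟨t, hTS ht⟩).mp (mem_subgroupOf.mpr ht))
  have hnorm' : ∀ t ∈ T, s⁻¹ * t * s ∈ T := by
    intro t ht
    have h2 := mem_subgroupOf.mp ((mem_normalizer_iff.mp (inv_mem hsN) ⟨t, hTS ht⟩).mp
      (mem_subgroupOf.mpr ht))
    have e : ((⟨s, hsP⟩⁻¹ * ⟨t, hTS ht⟩ * ⟨s, hsP⟩⁻¹⁻¹ : P) : G) = s⁻¹ * t * s := by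
      simp
    rwa [e] at h2
  have htr : ∀ w : G, (∀ t ∈ T, Commute t w) → ∀ t ∈ T, Commute t (s * w * s⁻¹) := by
    intro w hw t ht
    have h2 := (hw _ (hnorm' t ht)).map (MulAut.conj s).toMonoidHom
    change Commute (s * (s⁻¹ * t * s) * s⁻¹) (s * w * s⁻¹) at h2
    have e : s * (s⁻¹ * t * s) * s⁻¹ = t := by group
    rwa [e] at h2
  have hz : s * z * s⁻¹ = z := B.unique fun t ht => (htr z (fun t ht => B.commz ht) t ht).symm
  have hx : s * x * s⁻¹ = x * z := by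
    have h2 := hnorm x B.x_mem
    have h3 : (∀ t ∈ T, Commute (s * x * s⁻¹) t) := fun t ht =>
      (htr x (fun t ht => B.commx ht) t ht).symm
    rcases B.center h2 h3 with h4 | h4 | h4 | h4
    · exfalso
      apply B.frame.toXBase.ne_one B.hx
      calc x = s⁻¹ * (s * x * s⁻¹) * s := by group
        _ = 1 := by rw [h4]; group
    · exfalso
      apply hsT'
      apply hcenx s hsP
      rw [mul_inv_eq_iff_eq_mul] at h4
      exact h4
    · exfalso
      exact B.zX (h4 ▸ B.frame.conj x B.hx s)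
    · exact h4
  have hcen : ∀ t ∈ P, (∀ r ∈ P, Commute t r) → t = 1 ∨ t = z := by
    intro t ht hc
    have h2 : t ∈ T := hcenx t ht (hc x (hTS B.x_mem))
    have hts : Commute t s := hc s hsP
    rcases B.center h2 (fun r hr => hc r (hTS hr)) with h3 | h3 | h3 | h3
    · exact Or.inl h3
    · exfalso
      apply hsT'
      apply hcenx s hsP
      rw [← h3]
      exact hts.symm
    · exact Or.inr h3
    · exfalso
      have h4 : Commute s (x * z) := by rw [← h3]; exact hts.symm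
      have h5 : Commute s z := by
        rw [mul_inv_eq_iff_eq_mul] at hz
        exact hz
      have h6 : Commute s x := by
        have h7 := h4.mul_right h5
        rwa [B.xz_z] at h7
      exact hsT' (hcenx s hsP h6)
  have hPne : P ≠ ⊥ := by
    rintro rfl
    apply hsT'
    rw [mem_bot.mp hsP]
    exact T.one_mem
  have hcommz : ∀ t ∈ P, Commute t z := by
    obtain ⟨w, hwP, hw2, hwc⟩ := L2Q.exists_inv hPp hPne
    rcases hcen w hwP (fun r hr => (hwc r hr).symm) with h2 | h2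
    · rw [h2] at hw2
      simp at hw2
    · intro t ht
      rw [← h2]
      exact hwc t ht
  refine ⟨s, ?_⟩
  rw [← hP]
  exact ⟨hTS, hsP, hsT', hnorm, hx, hz, hcommz, hcenx, hcen⟩

end BData

end Cfsg.Agent.GH.L3.TFrame
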