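import Mathlib

/-!
# GH-L3 (semidihedral), case B, the configuration `⟨x, z⟩` normal in `H = C(z)/O(C(z))`

`D = C_H(x) = L₀ N₁ ∪ L₀ b N₁` where `L₀` is the image of `SL₂(3)`, `N₁ = C_D(L₀)` contains `⟨x, z⟩` as
a subgroup of index at most `2`. If `b` is not conjugate to `b x` or `b x z`, then `x` is not in the
derived subgroup of `H`.
-/

set_option autoImplicit false

open Subgroup

namespace Cfsg.Agent.GH.L3.Norm

variable {H : Type*} [Group H]

/-- The hypotheses on `H = C(z)/O(C(z))` in the case `⟨x, z⟩` normal. -/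
structure Data (x z b c : H) (L : Subgroup H) : Prop where
  zz : z * z = 1
  zcen : ∀ h, h * z = z * h
  xx : x * x = 1
  zL : z ∈ L
  xL : x ∉ L
  /-- `⟨x, z⟩` is normal in `H` -/
  norm : ∀ h, h * x * h⁻¹ = x ∨ h * x * h⁻¹ = x * z
  /-- `L ≤ D = C_H(x)` -/
  LD : ∀ l ∈ L, l * x = x * l
  /-- `Z(L) = {1, z}` -/
  cenL : ∀ l ∈ L, (∀ m ∈ L, l * m = m * l) → l = 1 ∨ l = z
  /-- `L` contains the commutators of `D` -/
  comm : ∀ d e, d * x = x * d → e * x = x * e → d * e * d⁻¹ * e⁻¹ ∈ L
  /-- `L` is generated by a set of elements of odd order -/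
  gen : ∃ T : Set H, L = closure T ∧ ∀ t ∈ T, Odd (orderOf t)
  /-- elements of odd order of `D` lie in `L` -/
  odd : ∀ d, d * x = x * d → Odd (orderOf d) → d ∈ L
  bD : b * x = x * b
  bb : b * b = 1
  /-- `D = L N₁ ∪ L b N₁` -/
  cov : ∀ d, d * x = x * d → ∃ l ∈ L, ∃ n, n * x = x * n ∧ (∀ m ∈ L, n * m = m * n) ∧
    (d = l * n ∨ d = l * b * n)
  cD : c * x = x * c
  cL : ∀ m ∈ L, c * m = m * c
  /-- `N₁ = ⟨x, z⟩ ∪ c ⟨x, z⟩` -/
  cenD : ∀ n, n * x = x * n → (∀ m ∈ L, n * m = m * n) →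
    (n = 1 ∨ n = x ∨ n = z ∨ n = x * z) ∨ (n = c ∨ n = c * x ∨ n = c * z ∨ n = c * (x * z))
  /-- every automorphism of `L` is induced by an element of `D` -/
  aut : ∀ φ : MulAut L, ∃ d, d * x = x * d ∧ ∀ l : L, ((φ l : L) : H) = d * l * d⁻¹
  /-- `b` is not conjugate to `b x`, `b x z` -/
  nb : ∀ h, h * b * h⁻¹ ≠ b * x ∧ h * b * h⁻¹ ≠ b * (x * z)

/-- `ZMod 2 → {±1}` -/
def σ (t : ZMod 2) : ℤˣ := if t = 0 then 1 else -1

theorem σ_add : ∀ s t : ZMod 2, σ (s + t) = σ s * σ t := by decide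

theorem σ_ne : ∀ t : ZMod 2, t ≠ 0 → σ t = -1 := by decide

/-- If `M` is normal, `H / M` commutative and `x` is not a square modulo `M`, then some homomorphism
`H → {±1}` maps `x` to `-1`. -/
theorem exists_hom {M : Subgroup H} [M.Normal] (hc : ∀ g h : H, g * h * g⁻¹ * h⁻¹ ∈ M) {x : H}
    (hx : ∀ h : H, (h * h)⁻¹ * x ∉ M) : ∃ f : H →* ℤˣ, f x = -1 := by
  -- the subgroup of the squares modulo `M`
  have hcom : ∀ g h : H, (QuotientGroup.mk g : H ⧸ M) * QuotientGroup.mk h =
      QuotientGroup.mk h * QuotientGroup.mk g := by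
    intro g h
    have h1 := (QuotientGroup.eq_one_iff (N := M) _).2 (hc g h)
    rw [QuotientGroup.mk_mul, QuotientGroup.mk_mul, QuotientGroup.mk_mul, QuotientGroup.mk_inv,
      QuotientGroup.mk_inv] at h1
    rw [← mul_inv_eq_one, mul_inv_rev, ← h1]
    group
  let P : Subgroup H :=
    { carrier := {g | ∃ h : H, (QuotientGroup.mk g : H ⧸ M) = QuotientGroup.mk h * QuotientGroup.mk h}
      one_mem' := ⟨1, by simp⟩
      mul_mem' := by
        rintro a b ⟨h, e⟩ ⟨k, f⟩
        refine ⟨h * k, ?_⟩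
        rw [QuotientGroup.mk_mul, QuotientGroup.mk_mul, e, f]
        calc (QuotientGroup.mk h : H ⧸ M) * QuotientGroup.mk h *
              (QuotientGroup.mk k * QuotientGroup.mk k) =
              QuotientGroup.mk h * (QuotientGroup.mk h * QuotientGroup.mk k) * QuotientGroup.mk k := by
              group
          _ = QuotientGroup.mk h * (QuotientGroup.mk k * QuotientGroup.mk h) * QuotientGroup.mk k := by
              rw [hcom h k]
          _ = QuotientGroup.mk h * QuotientGroup.mk k * (QuotientGroup.mk h * QuotientGroup.mk k) := by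
              group
      inv_mem' := by
        rintro a ⟨h, e⟩
        exact ⟨h⁻¹, by rw [QuotientGroup.mk_inv, e, QuotientGroup.mk_inv]; group⟩ }
  have hMP : ∀ g ∈ M, g ∈ P := fun g hg => ⟨1, by
    rw [(QuotientGroup.eq_one_iff g).2 hg]; simp⟩
  have hsqP : ∀ g : H, g * g ∈ P := fun g => ⟨g, rfl⟩
  have hcP : ∀ g h : H, g * h * g⁻¹ * h⁻¹ ∈ P := fun g h => hMP _ (hc g h)
  have hPn : P.Normal := by
    constructor
    intro n hn g
    have h1 : g * n * g⁻¹ = (g * n * g⁻¹ * n⁻¹) * n := by group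
    rw [h1]
    exact P.mul_mem (hcP g n) hn
  have hxP : x ∉ P := by
    rintro ⟨h, e⟩
    apply hx h
    rw [← QuotientGroup.eq_one_iff, QuotientGroup.mk_mul, QuotientGroup.mk_inv, QuotientGroup.mk_mul,
      e]
    group
  -- `H / P` as a vector space
  let _ : CommGroup (H ⧸ P) :=
    { (inferInstance : Group (H ⧸ P)) with
      mul_comm := by
        intro a b
        obtain ⟨g, rfl⟩ := QuotientGroup.mk_surjective a
        obtain ⟨h, rfl⟩ := QuotientGroup.mk_surjective b
        have h1 := (QuotientGroup.eq_one_iff (N := P) _).2 (hcP g h)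
        rw [QuotientGroup.mk_mul, QuotientGroup.mk_mul, QuotientGroup.mk_mul, QuotientGroup.mk_inv,
          QuotientGroup.mk_inv] at h1
        rw [← mul_inv_eq_one, mul_inv_rev, ← h1]
        group }
  have : Fact (Nat.Prime 2) := ⟨Nat.prime_two⟩
  let _ : Module (ZMod 2) (Additive (H ⧸ P)) := AddCommGroup.zmodModule (n := 2) (by
    intro a
    obtain ⟨g, hg⟩ := QuotientGroup.mk_surjective (Additive.toMul a)
    have h1 : (QuotientGroup.mk (g * g) : H ⧸ P) = 1 := (QuotientGroup.eq_one_iff _).2 (hsqP g)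
    rw [two_nsmul]
    apply Additive.toMul.injective
    rw [toMul_add, ← hg]
    exact h1)
  have hx0 : (Additive.ofMul (QuotientGroup.mk x : H ⧸ P)) ≠ 0 := by
    intro h1
    exact hxP ((QuotientGroup.eq_one_iff x).1 h1)
  obtain ⟨φ, hφ⟩ : ∃ φ : Module.Dual (ZMod 2) (Additive (H ⧸ P)),
      φ (Additive.ofMul (QuotientGroup.mk x : H ⧸ P)) ≠ 0 := by
    by_contra h1
    push Not at h1
    exact hx0 ((Module.forall_dual_apply_eq_zero_iff (ZMod 2) _).1 h1)
  refine ⟨MonoidHom.mk' (fun g => σ (φ (Additive.ofMul (QuotientGroup.mk g : H ⧸ P)))) ?_, ?_⟩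
  · intro g h
    rw [QuotientGroup.mk_mul, ofMul_mul, map_add, σ_add]
  · change σ _ = -1
    exact σ_ne _ hφ

namespace Data

variable {x z b c : H} {L : Subgroup H}

theorem comm_mem (h : Data x z b c L) {M : Subgroup H} (hM : L ≤ M) {d e : H}
    (hd : d * x = x * d) (he : e * x = x * e) : d * e * d⁻¹ * e⁻¹ ∈ M := hM (h.comm d e hd he)

/-- conjugates of elements of `D` commute with `x` -/
theorem conj_D (h : Data x z b c L) {d : H} (hd : d * x = x * d) (g : H) :
    (g * d * g⁻¹) * x = x * (g * d * g⁻¹) := by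
  have h1 : g⁻¹ * x * g = x ∨ g⁻¹ * x * g = x * z := by
    have := h.norm g⁻¹
    rwa [inv_inv] at this
  have key : d * (g⁻¹ * x * g) = (g⁻¹ * x * g) * d := by
    rcases h1 with h1 | h1
    · rw [h1, hd]
    · rw [h1]
      calc d * (x * z) = (d * x) * z := by group
        _ = x * (d * z) := by rw [hd]; group
        _ = x * z * d := by rw [h.zcen d]; group
  calc g * d * g⁻¹ * x = g * (d * (g⁻¹ * x * g)) * g⁻¹ := by group
    _ = x * (g * d * g⁻¹) := by rw [key]; group

theorem conj_L (h : Data x z b c L) {l : H} (hl : l ∈ L) (g : H) : g * l * g⁻¹ ∈ L := by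
  obtain ⟨T, hT, hodd⟩ := h.gen
  have h1 : L ≤ (L.comap (MulAut.conj g).toMonoidHom) := by
    conv_lhs => rw [hT]
    rw [closure_le]
    intro t ht
    show g * t * g⁻¹ ∈ L
    have htL : t ∈ L := by rw [hT]; exact subset_closure ht
    apply h.odd _ (h.conj_D (h.LD t htL) g)
    have h2 : orderOf (g * t * g⁻¹) = orderOf t := by
      have := orderOf_injective (MulAut.conj g).toMonoidHom (MulAut.conj g).injective t
      simpa using this
    rw [h2]
    exact hodd t ht
  exact h1 hl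

theorem normal (h : Data x z b c L) : L.Normal := ⟨fun _ hl g => h.conj_L hl g⟩

/-- `N₁` -/
def N (x : H) (L : Subgroup H) (n : H) : Prop := n * x = x * n ∧ ∀ m ∈ L, n * m = m * n

theorem N_mul {n n' : H} (hn : N x L n) (hn' : N x L n') : N x L (n * n') := by
  refine ⟨?_, fun m hm => ?_⟩
  · rw [mul_assoc, hn'.1, ← mul_assoc, hn.1, mul_assoc]
  · rw [mul_assoc, hn'.2 m hm, ← mul_assoc, hn.2 m hm, mul_assoc]

theorem N_c (h : Data x z b c L) : N x L c := ⟨h.cD, h.cL⟩

/-- elements of `N₁` commute with `c` -/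
theorem comm_c (h : Data x z b c L) {n : H} (hn : N x L n) : n * c = c * n := by
  have hx : x * c = c * x := h.cD.symm
  have hz : z * c = c * z := (h.zcen c).symm
  have hxz : (x * z) * c = c * (x * z) := by
    rw [mul_assoc, hz, ← mul_assoc, hx, mul_assoc]
  rcases h.cenD n hn.1 hn.2 with (h1 | h1 | h1 | h1) | (h1 | h1 | h1 | h1) <;> rw [h1]
  · rw [one_mul, mul_one]
  · exact hx
  · exact hz
  · exact hxz
  · rw [mul_assoc, hx]
  · rw [mul_assoc, hz]
  · rw [mul_assoc, hxz]

theorem comm_N (h : Data x z b c L) {n n' : H} (hn : N x L n) (hn' : N x L n') :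
    n * n' = n' * n := by
  have hx : n * x = x * n := hn.1
  have hz : n * z = z * n := h.zcen n
  have hc : n * c = c * n := h.comm_c hn
  have hxz : n * (x * z) = (x * z) * n := by
    rw [← mul_assoc, hx, mul_assoc, hz, ← mul_assoc]
  rcases h.cenD n' hn'.1 hn'.2 with (h1 | h1 | h1 | h1) | (h1 | h1 | h1 | h1) <;> rw [h1]
  · rw [one_mul, mul_one]
  · exact hx
  · exact hz
  · exact hxz
  · exact hc
  · rw [← mul_assoc, hc, mul_assoc, hx, ← mul_assoc]
  · rw [← mul_assoc, hc, mul_assoc, hz, ← mul_assoc]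
  · rw [← mul_assoc, hc, mul_assoc, hxz, ← mul_assoc]

/-- **Theorem.** If `x` is not central then some homomorphism `H → {±1}` maps `x` to `-1`. -/
theorem exists_hom (h : Data x z b c L) (hne : ∃ g : H, g * x * g⁻¹ ≠ x) :
    ∃ f : H →* ℤˣ, f x = -1 := by
  obtain ⟨s0, hs0⟩ := hne
  have hs0x : s0 * x * s0⁻¹ = x * z := (h.norm s0).resolve_left hs0
  have hz1 : z ≠ 1 := by
    rintro rfl
    exact hs0 (by rw [hs0x, mul_one])
  have := h.normal
  -- choose `s` centralizing `L`
  obtain ⟨d, hdx, hd⟩ := h.aut (MulAut.conjNormal s0)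
  obtain ⟨s, hs⟩ : ∃ s, s = d⁻¹ * s0 := ⟨_, rfl⟩
  have hsL : ∀ m ∈ L, s * m = m * s := by
    intro m hm
    have h1 := hd ⟨m, hm⟩
    rw [MulAut.conjNormal_apply] at h1
    have h2 : s0 * m * s0⁻¹ = d * m * d⁻¹ := h1
    rw [hs]
    calc d⁻¹ * s0 * m = d⁻¹ * (s0 * m * s0⁻¹) * s0 := by group
      _ = m * (d⁻¹ * s0) := by rw [h2]; group
  have hxz : x * z = z * x := h.zcen x
  have hdx' : d⁻¹ * (x * z) * d = x * z := by
    have h1 : d * (x * z) = (x * z) * d := by
      calc d * (x * z) = (d * x) * z := by group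
        _ = x * (d * z) := by rw [hdx]; group
        _ = x * z * d := by rw [h.zcen d]; group
    calc d⁻¹ * (x * z) * d = d⁻¹ * ((x * z) * d) := by group
      _ = x * z := by rw [← h1]; group
  have hsx : s * x * s⁻¹ = x * z := by
    rw [hs]
    calc d⁻¹ * s0 * x * (d⁻¹ * s0)⁻¹ = d⁻¹ * (s0 * x * s0⁻¹) * d := by group
      _ = x * z := by rw [hs0x, hdx']
  have hzz := h.zz
  have hxx := h.xx
  have hsx1 : s * x = x * z * s := by
    calc s * x = (s * x * s⁻¹) * s := by group
      _ = _ := by rw [hsx]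
  have hsz : s * z = z * s := h.zcen s
  -- conjugation by `s` on `x`, `x z`
  have hsxz : s * (x * z) * s⁻¹ = x := by
    calc s * (x * z) * s⁻¹ = (s * x) * z * s⁻¹ := by group
      _ = x * z * (s * z) * s⁻¹ := by rw [hsx1]; group
      _ = x * (z * z) := by rw [hsz]; group
      _ = x := by rw [hzz, mul_one]
  have hs2 : N x L (s * s) := by
    refine ⟨?_, fun m hm => ?_⟩
    · calc s * s * x = s * (s * x * s⁻¹) * s⁻¹ * (s * s) := by group
        _ = (s * (x * z) * s⁻¹) * (s * s) := by rw [hsx]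
        _ = x * (s * s) := by rw [hsxz]
    · rw [mul_assoc, hsL m hm, ← mul_assoc, hsL m hm, mul_assoc]
  have hNs : ∀ n, N x L n → N x L (s * n * s⁻¹) := by
    intro n hn
    refine ⟨h.conj_D hn.1 s, fun m hm => ?_⟩
    have h1 : s⁻¹ * m = m * s⁻¹ := by
      have := hsL m hm
      calc s⁻¹ * m = s⁻¹ * (m * s) * s⁻¹ := by group
        _ = s⁻¹ * (s * m) * s⁻¹ := by rw [this]
        _ = m * s⁻¹ := by group
    calc s * n * s⁻¹ * m = s * n * (s⁻¹ * m) := by group
      _ = s * (n * m) * s⁻¹ := by rw [h1]; group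
      _ = (s * m) * n * s⁻¹ := by rw [hn.2 m hm]; group
      _ = m * (s * n * s⁻¹) := by rw [hsL m hm]; group
  have hs2c : s * (s * c * s⁻¹) * s⁻¹ = c := by
    have := h.comm_N hs2 h.N_c
    calc s * (s * c * s⁻¹) * s⁻¹ = (s * s * c) * (s⁻¹ * s⁻¹) := by group
      _ = c := by rw [this]; group
  -- conjugation by `s` on `1, x, z, x z`
  have hbase : ∀ n, (n = 1 ∨ n = x ∨ n = z ∨ n = x * z) → (s * n * s⁻¹ = n ∨ s * n * s⁻¹ = n * z) ∧
      (s⁻¹ * n * s = 1 ∨ s⁻¹ * n * s = x ∨ s⁻¹ * n * s = z ∨ s⁻¹ * n * s = x * z) := by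
    rintro n (rfl | rfl | rfl | rfl)
    · exact ⟨Or.inl (by group), Or.inl (by group)⟩
    · refine ⟨Or.inr hsx, Or.inr (Or.inr (Or.inr ?_))⟩
      calc s⁻¹ * n * s = s⁻¹ * (s * (n * z) * s⁻¹) * s := by rw [hsxz]
        _ = n * z := by group
    · refine ⟨Or.inl (by rw [hsz]; group), Or.inr (Or.inr (Or.inl ?_))⟩
      rw [mul_assoc, ← hsz]; group
    · refine ⟨Or.inr ?_, Or.inr (Or.inl ?_)⟩
      · rw [hsxz, mul_assoc, hzz, mul_one]
      · calc s⁻¹ * (x * z) * s = s⁻¹ * (s * x * s⁻¹) * s := by rw [hsx]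
          _ = x := by group
  have hcz : s * c * s⁻¹ = c ∨ s * c * s⁻¹ = c * z := by
    have hc1 := hNs c h.N_c
    rcases h.cenD _ hc1.1 hc1.2 with h1 | h1
    · have h2 := (hbase _ h1).2
      have h3 : s⁻¹ * (s * c * s⁻¹) * s = c := by group
      rw [h3] at h2
      exact (hbase c h2).1
    · rcases h1 with h1 | h1 | h1 | h1
      · exact Or.inl h1
      · exfalso
        apply hz1
        have h2 : s * (c * x) * s⁻¹ = c * z := by
          calc s * (c * x) * s⁻¹ = (s * c * s⁻¹) * (s * x * s⁻¹) := by group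
            _ = c * (x * x) * z := by rw [h1, hsx]; group
            _ = c * z := by rw [hxx, mul_one]
        rw [h1, h2] at hs2c
        simpa using hs2c
      · exact Or.inr h1
      · exfalso
        apply hz1
        have h2 : s * (c * (x * z)) * s⁻¹ = c * z := by
          calc s * (c * (x * z)) * s⁻¹ = (s * c * s⁻¹) * (s * (x * z) * s⁻¹) := by group
            _ = c * (x * z) * x := by rw [h1, hsxz]
            _ = c * x * (z * x) := by group
            _ = c * x * (x * z) := by rw [hxz]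
            _ = c * (x * x) * z := by group
            _ = c * z := by rw [hxx, mul_one]
        rw [h1, h2] at hs2c
        simpa using hs2c
  -- `[s, n] ∈ {1, z}` for `n ∈ N₁`
  have hnz : ∀ n, N x L n → (s * n * s⁻¹ = n ∨ s * n * s⁻¹ = n * z) := by
    intro n hn
    have hcv : ∀ v, (v = 1 ∨ v = x ∨ v = z ∨ v = x * z) →
        (s * (c * v) * s⁻¹ = c * v ∨ s * (c * v) * s⁻¹ = c * v * z) := by
      intro v hv
      have h1 := (hbase v hv).1
      have h2 : s * (c * v) * s⁻¹ = (s * c * s⁻¹) * (s * v * s⁻¹) := by group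
      have h3 : c * z * v = c * v * z := by
        rw [mul_assoc, ← h.zcen v, ← mul_assoc]
      rcases hcz with hc | hc <;> rcases h1 with h1 | h1 <;> rw [h2, hc, h1]
      · exact Or.inl rfl
      · exact Or.inr (by group)
      · exact Or.inr h3
      · left
        calc c * z * (v * z) = (c * z * v) * z := by group
          _ = c * v * (z * z) := by rw [h3]; group
          _ = c * v := by rw [hzz, mul_one]
    rcases h.cenD n hn.1 hn.2 with h1 | h1
    · exact (hbase n h1).1
    · rcases h1 with h1 | h1 | h1 | h1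
      · rw [h1]; exact hcz
      · rw [h1]; exact hcv x (Or.inr (Or.inl rfl))
      · rw [h1]; exact hcv z (Or.inr (Or.inr (Or.inl rfl)))
      · rw [h1]; exact hcv _ (Or.inr (Or.inr (Or.inr rfl)))
  -- squares of elements of `N₁`
  have hsx' : s * x * s⁻¹ ≠ x := by
    rw [hsx]
    intro h1
    exact hz1 (by simpa using h1)
  have hsq : ∀ n, N x L n → n * n = 1 ∨ n * n = z := by
    have h1 : ∀ n, N x L n → s * (n * n) * s⁻¹ = n * n := by
      intro n hn
      have h2 : s * (n * n) * s⁻¹ = (s * n * s⁻¹) * (s * n * s⁻¹) := by group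
      rcases hnz n hn with h3 | h3 <;> rw [h2, h3]
      calc n * z * (n * z) = n * (z * n) * z := by group
        _ = n * n * (z * z) := by rw [← h.zcen n]; group
        _ = n * n := by rw [hzz, mul_one]
    have h2 : ∀ v, (v = 1 ∨ v = x ∨ v = z ∨ v = x * z) → s * v * s⁻¹ = v → v = 1 ∨ v = z := by
      rintro v (rfl | rfl | rfl | rfl) hv
      · exact Or.inl rfl
      · exact absurd hv hsx'
      · exact Or.inr rfl
      · exfalso
        rw [hsxz] at hv
        exact hz1 (by simpa using hv)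
    have h3 : ∀ v, (v = 1 ∨ v = x ∨ v = z ∨ v = x * z) → v * v = 1 := by
      rintro v (rfl | rfl | rfl | rfl)
      · rw [one_mul]
      · exact hxx
      · exact hzz
      · calc x * z * (x * z) = x * (z * x) * z := by group
          _ = (x * x) * (z * z) := by rw [← hxz]; group
          _ = 1 := by rw [hxx, hzz, one_mul]
    have h4 : ∀ v, (v = 1 ∨ v = x ∨ v = z ∨ v = x * z) → v * c = c * v := by
      rintro v (rfl | rfl | rfl | rfl)
      · rw [one_mul, mul_one]
      · exact h.cD.symm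
      · exact (h.zcen c).symm
      · rw [mul_assoc, ← h.zcen c, ← mul_assoc, ← h.cD, mul_assoc]
    -- `c²`
    have h5 : c * c = 1 ∨ c * c = z := by
      have hcc : N x L (c * c) := N_mul h.N_c h.N_c
      rcases h.cenD _ hcc.1 hcc.2 with h6 | h6
      · exact h2 _ h6 (h1 c h.N_c)
      · have h7 : ∃ v, (v = 1 ∨ v = x ∨ v = z ∨ v = x * z) ∧ c * c = c * v := by
          rcases h6 with h6 | h6 | h6 | h6
          · exact ⟨1, Or.inl rfl, by rw [h6, mul_one]⟩
          · exact ⟨x, Or.inr (Or.inl rfl), h6⟩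
          · exact ⟨z, Or.inr (Or.inr (Or.inl rfl)), h6⟩
          · exact ⟨x * z, Or.inr (Or.inr (Or.inr rfl)), h6⟩
        obtain ⟨v, hv, h8⟩ := h7
        have h9 : c = v := mul_left_cancel h8
        rw [h9]
        exact Or.inl (h3 v hv)
    intro n hn
    have h6 : (n = 1 ∨ n = x ∨ n = z ∨ n = x * z) ∨
        ∃ v, (v = 1 ∨ v = x ∨ v = z ∨ v = x * z) ∧ n = c * v := by
      rcases h.cenD n hn.1 hn.2 with h6 | h6 | h6 | h6 | h6
      · exact Or.inl h6
      · exact Or.inr ⟨1, Or.inl rfl, by rw [h6, mul_one]⟩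
      · exact Or.inr ⟨x, Or.inr (Or.inl rfl), h6⟩
      · exact Or.inr ⟨z, Or.inr (Or.inr (Or.inl rfl)), h6⟩
      · exact Or.inr ⟨x * z, Or.inr (Or.inr (Or.inr rfl)), h6⟩
    rcases h6 with h6 | ⟨v, hv, h6⟩
    · exact Or.inl (h3 n h6)
    · have h7 : n * n = c * c := by
        rw [h6]
        calc c * v * (c * v) = c * (v * c) * v := by group
          _ = c * c * (v * v) := by rw [h4 v hv]; group
          _ = c * c := by rw [h3 v hv, mul_one]
      rw [h7]
      exact h5
  -- `w = b⁻¹ b^s`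
  obtain ⟨w, hw⟩ : ∃ w, w = b⁻¹ * (s * b * s⁻¹) := ⟨_, rfl⟩
  have hbw : s * b * s⁻¹ = b * w := by rw [hw]; group
  have hwN : N x L w := by
    refine ⟨?_, fun m hm => ?_⟩
    · have h1 := h.conj_D h.bD s
      have h2 : b⁻¹ * x = x * b⁻¹ := by
        calc b⁻¹ * x = b⁻¹ * (x * b) * b⁻¹ := by group
          _ = x * b⁻¹ := by rw [← h.bD]; group
      rw [hw, mul_assoc, h1, ← mul_assoc, h2, mul_assoc]
    · have h1 : b * m * b⁻¹ ∈ L := h.conj_L hm b
      have h2 : s⁻¹ * m = m * s⁻¹ := by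
        have := hsL m hm
        calc s⁻¹ * m = s⁻¹ * (m * s) * s⁻¹ := by group
          _ = s⁻¹ * (s * m) * s⁻¹ := by rw [this]
          _ = m * s⁻¹ := by group
      calc w * m = b⁻¹ * (s * b * (s⁻¹ * m)) := by rw [hw]; group
        _ = b⁻¹ * (s * (b * m * b⁻¹)) * b * s⁻¹ := by rw [h2]; group
        _ = b⁻¹ * ((b * m * b⁻¹) * s) * b * s⁻¹ := by rw [hsL _ h1]
        _ = m * w := by rw [hw]; group
  -- the subgroup `M = L ∪ L w`
  have hwL : ∀ m ∈ L, w * m = m * w := hwN.2
  have hwwL : w * w ∈ L := by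
    rcases hsq w hwN with h1 | h1 <;> rw [h1]
    · exact L.one_mem
    · exact h.zL
  let M : Subgroup H :=
    { carrier := {g | ∃ l ∈ L, g = l ∨ g = l * w}
      one_mem' := ⟨1, L.one_mem, Or.inl rfl⟩
      mul_mem' := by
        rintro g1 g2 ⟨l1, h1, e1⟩ ⟨l2, h2, e2⟩
        rcases e1 with rfl | rfl <;> rcases e2 with rfl | rfl
        · exact ⟨g1 * g2, L.mul_mem h1 h2, Or.inl rfl⟩
        · exact ⟨g1 * l2, L.mul_mem h1 h2, Or.inr (by group)⟩
        · exact ⟨l1 * g2, L.mul_mem h1 h2, Or.inr (by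
            rw [mul_assoc, hwL g2 h2]; group)⟩
        · refine ⟨l1 * l2 * (w * w), L.mul_mem (L.mul_mem h1 h2) hwwL, Or.inl ?_⟩
          calc l1 * w * (l2 * w) = l1 * (w * l2) * w := by group
            _ = l1 * l2 * (w * w) := by rw [hwL l2 h2]; group
      inv_mem' := by
        rintro g ⟨l, hl, e⟩
        rcases e with rfl | rfl
        · exact ⟨g⁻¹, L.inv_mem hl, Or.inl rfl⟩
        · refine ⟨l⁻¹ * (w * w)⁻¹, L.mul_mem (L.inv_mem hl) (L.inv_mem hwwL), Or.inr ?_⟩
          have h1 : w * (w * w)⁻¹ = (w * w)⁻¹ * w := hwL _ (L.inv_mem hwwL)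
          have h2 : w * l⁻¹ = l⁻¹ * w := hwL _ (L.inv_mem hl)
          calc (l * w)⁻¹ = (w * w)⁻¹ * (w * l⁻¹) := by group
            _ = (w * w)⁻¹ * l⁻¹ * w := by rw [h2]; group
            _ = l⁻¹ * (w * w)⁻¹ * w := by
              have h3 : (w * w) * l = l * (w * w) := by
                rw [mul_assoc, hwL l hl, ← mul_assoc, hwL l hl, mul_assoc]
              have h4 : (w * w)⁻¹ * l⁻¹ = l⁻¹ * (w * w)⁻¹ := by
                calc (w * w)⁻¹ * l⁻¹ = (l * (w * w))⁻¹ := by group
                  _ = ((w * w) * l)⁻¹ := by rw [h3]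
                  _ = l⁻¹ * (w * w)⁻¹ := by group
              rw [h4] }
  have hLM : L ≤ M := fun l hl => ⟨l, hl, Or.inl rfl⟩
  have hwM : w ∈ M := ⟨1, L.one_mem, Or.inr (by rw [one_mul])⟩
  have hzM : z ∈ M := hLM h.zL
  have hxM : x ∉ M := by
    rintro ⟨l, hl, e | e⟩
    · exact h.xL (by rw [e]; exact hl)
    · -- `l = x w⁻¹` centralizes `L`
      have h1 : ∀ m ∈ L, l * m = m * l := by
        intro m hm
        have h2 : l = x * w⁻¹ := by rw [e]; group
        have h3 : w⁻¹ * m = m * w⁻¹ := by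
          calc w⁻¹ * m = w⁻¹ * (m * w) * w⁻¹ := by group
            _ = m * w⁻¹ := by rw [← hwL m hm]; group
        rw [h2, mul_assoc, h3, ← mul_assoc, ← h.LD m hm, mul_assoc]
      rcases h.cenL l hl h1 with h2 | h2
      · rw [h2, one_mul] at e
        exact (h.nb s).1 (by rw [hbw, ← e])
      · have h3 : w = x * z := by
          rw [h2] at e
          calc w = (z * z) * w := by rw [hzz, one_mul]
            _ = z * (z * w) := by group
            _ = x * z := by rw [← e, hxz]
        exact (h.nb s).2 (by rw [hbw, h3])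
  -- `M` is normal
  have hDw : ∀ d, d * x = x * d → d * w * d⁻¹ ∈ M := by
    intro d hd
    have h1 := h.comm d w hd hwN.1
    have h2 : d * w * d⁻¹ = (d * w * d⁻¹ * w⁻¹) * w := by group
    rw [h2]
    exact M.mul_mem (hLM h1) hwM
  have hsw : s * w * s⁻¹ ∈ M := by
    rcases hnz w hwN with h1 | h1 <;> rw [h1]
    · exact hwM
    · exact M.mul_mem hwM hzM
  have hdec : ∀ g : H, ∃ d, d * x = x * d ∧ (g = d ∨ g = d * s) := by
    intro g
    rcases h.norm g with h1 | h1
    · refine ⟨g, ?_, Or.inl rfl⟩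
      calc g * x = (g * x * g⁻¹) * g := by group
        _ = x * g := by rw [h1]
    · refine ⟨g * s⁻¹, ?_, Or.inr (by group)⟩
      have h2 : s⁻¹ * x * s = x * z := by
        calc s⁻¹ * x * s = s⁻¹ * (s * (x * z) * s⁻¹) * s := by rw [hsxz]
          _ = x * z := by group
      have h3 : g * (x * z) * g⁻¹ = x := by
        calc g * (x * z) * g⁻¹ = (g * x * g⁻¹) * (g * z) * g⁻¹ := by group
          _ = (x * z) * z := by rw [h1, h.zcen g]; group
          _ = x := by rw [mul_assoc, hzz, mul_one]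
      calc g * s⁻¹ * x = g * (s⁻¹ * x * s) * s⁻¹ := by group
        _ = (g * (x * z) * g⁻¹) * (g * s⁻¹) := by rw [h2]; group
        _ = x * (g * s⁻¹) := by rw [h3]
  have hMn : M.Normal := by
    constructor
    have hkey : ∀ g, g * w * g⁻¹ ∈ M → ∀ m ∈ M, g * m * g⁻¹ ∈ M := by
      rintro g hg m ⟨l, hl, rfl | rfl⟩
      · exact hLM (h.conj_L hl g)
      · have h1 : g * (l * w) * g⁻¹ = (g * l * g⁻¹) * (g * w * g⁻¹) := by group
        rw [h1]
        exact M.mul_mem (hLM (h.conj_L hl g)) hg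
    intro m hm g
    obtain ⟨d, hd, rfl | rfl⟩ := hdec g
    · exact hkey _ (hDw _ hd) m hm
    · have h1 : d * s * m * (d * s)⁻¹ = d * (s * m * s⁻¹) * d⁻¹ := by group
      rw [h1]
      exact hkey d (hDw d hd) _ (hkey s hsw m hm)
  -- `H / M` is commutative
  let π := QuotientGroup.mk' M
  have hπ : ∀ g, π g = 1 ↔ g ∈ M := fun g => QuotientGroup.eq_one_iff g
  have hDD : ∀ d e, d * x = x * d → e * x = x * e → π d * π e = π e * π d := by
    intro d e hd he
    have h1 := (hπ _).2 (hLM (h.comm d e hd he))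
    rw [map_mul, map_mul, map_mul, map_inv, map_inv] at h1
    rw [← mul_inv_eq_one, mul_inv_rev, ← h1]
    group
  have hss : ∀ d, d * x = x * d → π s * π d = π d * π s := by
    have hsn : ∀ n, N x L n → π s * π n = π n * π s := by
      intro n hn
      have h1 : π (s * n * s⁻¹) = π n := by
        rcases hnz n hn with h2 | h2 <;> rw [h2]
        rw [map_mul, (hπ z).2 hzM, mul_one]
      calc π s * π n = π (s * n * s⁻¹) * π s := by
            rw [← map_mul, ← map_mul]; congr 1; group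
        _ = π n * π s := by rw [h1]
    have hsb : π s * π b = π b * π s := by
      calc π s * π b = π (s * b * s⁻¹) * π s := by
            rw [← map_mul, ← map_mul]; congr 1; group
        _ = π b * π s := by rw [hbw, map_mul, (hπ w).2 hwM, mul_one]
    intro d hd
    obtain ⟨l, hl, n, hn1, hn2, e | e⟩ := h.cov d hd
    · rw [e, map_mul, (hπ l).2 (hLM hl), one_mul]
      exact hsn n ⟨hn1, hn2⟩
    · rw [e, map_mul, map_mul, (hπ l).2 (hLM hl), one_mul, ← mul_assoc, hsb, mul_assoc,
        hsn n ⟨hn1, hn2⟩, ← mul_assoc]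
  have hcomm : ∀ g1 g2, π g1 * π g2 = π g2 * π g1 := by
    intro g1 g2
    obtain ⟨d1, hd1, rfl | rfl⟩ := hdec g1 <;> obtain ⟨d2, hd2, rfl | rfl⟩ := hdec g2
    · exact hDD _ _ hd1 hd2
    · rw [map_mul, ← mul_assoc, hDD _ _ hd1 hd2, mul_assoc, ← hss _ hd1, ← mul_assoc]
    · rw [map_mul, mul_assoc, hss _ hd2, ← mul_assoc, hDD _ _ hd1 hd2, mul_assoc]
    · rw [map_mul, map_mul]
      calc π d1 * π s * (π d2 * π s) = π d1 * (π s * π d2) * π s := by group
        _ = (π d1 * π d2) * π s * π s := by rw [hss _ hd2]; group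
        _ = π d2 * (π d1 * π s) * π s := by rw [hDD _ _ hd1 hd2]; group
        _ = π d2 * (π s * π d1) * π s := by rw [hss _ hd1]
        _ = π d2 * π s * (π d1 * π s) := by group
  have hcM : ∀ g k : H, g * k * g⁻¹ * k⁻¹ ∈ M := by
    intro g k
    rw [← hπ, map_mul, map_mul, map_mul, map_inv, map_inv, hcomm g k]
    group
  refine Norm.exists_hom hcM fun g hg => ?_
  -- `x` is not a square modulo `M`
  have hNN : ∀ n, N x L n → π n * π n = 1 := by
    intro n hn
    rw [← map_mul]
    rcases hsq n hn with h1 | h1 <;> rw [h1]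
    · exact map_one _
    · exact (hπ z).2 hzM
  have hDsq : ∀ d, d * x = x * d → π d * π d = 1 := by
    intro d hd
    obtain ⟨l, hl, n, hn1, hn2, e | e⟩ := h.cov d hd
    · rw [e, map_mul, (hπ l).2 (hLM hl), one_mul]
      exact hNN n ⟨hn1, hn2⟩
    · have h1 : π b * π b = 1 := by rw [← map_mul, h.bb, map_one]
      rw [e, map_mul, map_mul, (hπ l).2 (hLM hl), one_mul]
      calc π b * π n * (π b * π n) = π b * (π n * π b) * π n := by group
        _ = (π b * π b) * (π n * π n) := by rw [hcomm n b]; group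
        _ = 1 := by rw [h1, hNN n ⟨hn1, hn2⟩, one_mul]
  rw [← hπ, map_mul, map_inv, map_mul, inv_mul_eq_one] at hg
  obtain ⟨d, hd, rfl | rfl⟩ := hdec g
  · rw [hDsq _ hd] at hg
    exact hxM ((hπ x).1 hg.symm)
  · have h1 : π (s * s) = π x := by
      rw [← hg, map_mul, map_mul]
      calc π s * π s = (π d * π d) * (π s * π s) := by rw [hDsq d hd, one_mul]
        _ = π d * (π d * π s) * π s := by group
        _ = π d * (π s * π d) * π s := by rw [hcomm d s]
        _ = π d * π s * (π d * π s) := by group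
    -- `y = s² x ∈ N₁ ∩ M`
    have hxN : N x L x := ⟨rfl, fun m hm => (h.LD m hm).symm⟩
    have h2 : s * s * x ∈ M := by
      rw [← hπ, map_mul, h1, ← map_mul, hxx, map_one]
    have hs2s : s * (s * s) * s⁻¹ = s * s := by group
    have hcL : ∀ y, N x L y → y ∈ L → y = 1 ∨ y = z := fun y hy hyL => h.cenL y hyL hy.2
    have hNsx : N x L (s * s * x) := N_mul hs2 hxN
    have hss2 : s * (s * s * x) * s⁻¹ = s * s * x * z := by
      calc s * (s * s * x) * s⁻¹ = (s * (s * s) * s⁻¹) * (s * x * s⁻¹) := by group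
        _ = s * s * x * z := by rw [hs2s, hsx]; group
    obtain ⟨l, hl, e | e⟩ := h2
    · -- `s² x ∈ {1, z}`
      have h3 := hcL _ hNsx (by rw [e]; exact hl)
      have h4 : s * (s * s * x) * s⁻¹ = s * s * x := by
        rcases h3 with h3 | h3 <;> rw [h3]
        · group
        · rw [hsz]; group
      rw [hss2] at h4
      exact hz1 (by simpa using h4)
    · -- `s² x = l w`, `l ∈ {1, z}`
      have h3 : l = 1 ∨ l = z := by
        apply hcL l _ hl
        refine ⟨h.LD l hl, fun m hm => ?_⟩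
        have h5 : l = s * s * x * w⁻¹ := by rw [e]; group
        have h6 : w⁻¹ * m = m * w⁻¹ := by
          calc w⁻¹ * m = w⁻¹ * (m * w) * w⁻¹ := by group
            _ = m * w⁻¹ := by rw [← hwL m hm]; group
        rw [h5, mul_assoc, h6, ← mul_assoc, hNsx.2 m hm, mul_assoc]
      have hlc : ∀ y, l * y = y * l := by
        intro y
        rcases h3 with h3 | h3 <;> rw [h3]
        · rw [one_mul, mul_one]
        · exact (h.zcen y).symm
      have hsl : s * l * s⁻¹ = l := by rw [← hlc]; group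
      -- `w^s = w z`
      have hwz : s * w * s⁻¹ = w * z := by
        have h5 : w = l⁻¹ * (s * s * x) := by rw [e]; group
        have h6 : s * w * s⁻¹ = (s * l * s⁻¹)⁻¹ * (s * (s * s * x) * s⁻¹) := by
          rw [h5]; group
        rw [h6, hsl, hss2, e]
        group
      -- `b^{s²}` in two ways
      have h7 : (s * s) * b * (s * s)⁻¹ = b * (w * w) * z := by
        calc (s * s) * b * (s * s)⁻¹ = s * (s * b * s⁻¹) * s⁻¹ := by group
          _ = s * (b * w) * s⁻¹ := by rw [hbw]
          _ = (s * b * s⁻¹) * (s * w * s⁻¹) := by group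
          _ = b * (w * w) * z := by rw [hbw, hwz]; group
      have h8 : s * s = l * w * x := by
        calc s * s = s * s * x * x := by rw [mul_assoc _ x x, hxx, mul_one]
          _ = l * w * x := by rw [e]
      have h9 : (s * s) * b * (s * s)⁻¹ = w * b * w⁻¹ := by
        rw [h8]
        calc l * w * x * b * (l * w * x)⁻¹ = l * w * (x * b) * x⁻¹ * w⁻¹ * l⁻¹ := by group
          _ = l * (w * b * w⁻¹) * l⁻¹ := by rw [← h.bD]; group
          _ = w * b * w⁻¹ := by rw [hlc]; group
      -- `(b w)² = 1`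
      have h10 : b * w * (b * w) = 1 := by
        rw [← hbw]
        calc s * b * s⁻¹ * (s * b * s⁻¹) = s * (b * b) * s⁻¹ := by group
          _ = 1 := by rw [h.bb]; group
      have h11 : w * b = b * w⁻¹ := by
        calc w * b = b⁻¹ * (b * w * (b * w)) * w⁻¹ := by group
          _ = b⁻¹ * w⁻¹ := by rw [h10]; group
          _ = b * (b * b)⁻¹ * w⁻¹ := by group
          _ = b * w⁻¹ := by rw [h.bb]; group
      rw [h7] at h9
      have h12 : w * w * z = w⁻¹ * w⁻¹ := by
        have : w * b * w⁻¹ = b * (w⁻¹ * w⁻¹) := by rw [h11]; group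
        rw [this, mul_assoc] at h9
        exact mul_left_cancel h9
      have h13 : w * w * (w * w) = 1 := by
        rcases hsq w hwN with h14 | h14 <;> rw [h14]
        · rw [one_mul]
        · exact hzz
      apply hz1
      calc z = (w * w)⁻¹ * (w * w * z) := by group
        _ = (w * w * (w * w))⁻¹ := by rw [h12]; group
        _ = 1 := by rw [h13, inv_one]

end Data

end Cfsg.Agent.GH.L3.Norm
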